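import Mathlib.Tactic
import Mathlib.GroupTheory.Index
import Mathlib.Algebra.Group.Subgroup.Pointwise

/-!
Criteria for a product of two subgroups to be a subgroup, by counting.
-/

namespace Cfsg.Agent.H31

open scoped Pointwise

variable {G : Type*} [Group G]

/-- If `A, B ≤ R` and `[A : A ∩ B] ≥ [R : B]` then `AB = R`. -/
theorem mul_eq_of_relIndex [Finite G] {A B R : Subgroup G} (hA : A ≤ R) (hB : B ≤ R)
    (h : B.relIndex R ≤ B.relIndex A) : (R : Set G) = (A : Set G) * (B : Set G) := by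
  set f := Subgroup.quotientSubgroupOfEmbeddingOfLE B hA with hf
  have hcard : Nat.card (A ⧸ B.subgroupOf A) = Nat.card (R ⧸ B.subgroupOf R) :=
    le_antisymm (Nat.card_le_card_of_injective f f.injective) h
  have hbij : Function.Bijective f :=
    (Nat.bijective_iff_injective_and_card _).mpr ⟨f.injective, hcard⟩
  refine Set.Subset.antisymm (fun r hr => ?_) ?_
  · obtain ⟨q, hq⟩ := hbij.2 (QuotientGroup.mk ⟨r, hr⟩)
    obtain ⟨a, rfl⟩ := QuotientGroup.mk_surjective q
    rw [hf, Subgroup.quotientSubgroupOfEmbeddingOfLE_apply_mk, QuotientGroup.eq,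
      Subgroup.mem_subgroupOf] at hq
    refine Set.mem_mul.mpr ⟨a, a.2, _, hq, ?_⟩
    simp
  · rintro _ ⟨a, ha, b, hb, rfl⟩
    exact mul_mem (hA ha) (hB hb)

/-- `[A : A ∩ B] |A ∩ B| = |A|`. -/
theorem relIndex_mul_card_inf (A B : Subgroup G) :
    B.relIndex A * Nat.card (A ⊓ B : Subgroup G) = Nat.card A := by
  rw [← Subgroup.inf_relIndex_right B A, inf_comm B A]
  rw [← Subgroup.relIndex_bot_left (A ⊓ B), mul_comm, ← Subgroup.relIndex_bot_left A]
  exact Subgroup.relIndex_mul_relIndex _ _ _ bot_le inf_le_left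

/-- In a factorized group `|G| |H ∩ K| = |H| |K|`. -/
theorem card_factorized [Finite G] {H K : Subgroup G}
    (hHK : ∀ g : G, ∃ h ∈ H, ∃ k ∈ K, g = h * k) :
    Nat.card G * Nat.card (H ⊓ K : Subgroup G) = Nat.card H * Nat.card K := by
  have h1 : K.relIndex ⊤ ≤ K.relIndex H := by
    set f := Subgroup.quotientSubgroupOfEmbeddingOfLE K (le_top : H ≤ ⊤) with hf
    refine Nat.card_le_card_of_surjective f ?_
    intro q
    obtain ⟨g, rfl⟩ := QuotientGroup.mk_surjective q
    obtain ⟨h, hh, k, hk, hg⟩ := hHK (g : G)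
    refine ⟨QuotientGroup.mk ⟨h, hh⟩, ?_⟩
    rw [hf, Subgroup.quotientSubgroupOfEmbeddingOfLE_apply_mk, QuotientGroup.eq,
      Subgroup.mem_subgroupOf]
    simp [hg, hk]
  have h2 : K.relIndex H = K.index := by
    rw [← Subgroup.relIndex_top_right]
    exact le_antisymm (Subgroup.relIndex_le_of_le_right le_top Subgroup.index_ne_zero_of_finite) h1
  rw [← relIndex_mul_card_inf H K, h2, ← K.index_mul_card]
  ring

/-- `|A| |B| ≤ |⟨A, B⟩| |A ∩ B|`. -/
theorem card_mul_card_le [Finite G] (A B : Subgroup G) :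
    Nat.card A * Nat.card B ≤ Nat.card (A ⊔ B : Subgroup G) * Nat.card (A ⊓ B : Subgroup G) := by
  have h1 := relIndex_mul_card_inf A B
  have h2 := relIndex_mul_card_inf (A ⊔ B) B
  rw [inf_of_le_right (le_sup_right : B ≤ A ⊔ B)] at h2
  have h3 : B.relIndex A ≤ B.relIndex (A ⊔ B) :=
    Subgroup.relIndex_le_of_le_right le_sup_left Subgroup.index_ne_zero_of_finite
  rw [← h1, ← h2]
  calc B.relIndex A * Nat.card (A ⊓ B : Subgroup G) * Nat.card B
      ≤ B.relIndex (A ⊔ B) * Nat.card (A ⊓ B : Subgroup G) * Nat.card B :=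
        Nat.mul_le_mul_right _ (Nat.mul_le_mul_right _ h3)
    _ = _ := by ring

end Cfsg.Agent.H31
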