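import Mathlib.Tactic
import Mathlib.GroupTheory.Sylow
import Cfsg.Prelude.Def_PLocal
import Cfsg.Agent.Cores.PCore
import Cfsg.Agent.H31.Product

/-!
The Thompson subgroup (elementary abelian version), `Ω₁`, and Sylow subgroups of normal subgroups.
-/

namespace Cfsg.Agent.H31

open Subgroup
open scoped Pointwise

universe u v

variable {G : Type u} [Group G] {H : Type v} [Group H]

theorem elem_comm {p : ℕ} {A : Subgroup G} (hA : IsElementaryAbelian p A) {x y : G}
    (hx : x ∈ A) (hy : y ∈ A) : x * y = y * x := by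
  haveI := hA.1
  exact congrArg Subtype.val (mul_comm' (⟨x, hx⟩ : A) ⟨y, hy⟩)

theorem elem_mk {p : ℕ} {A : Subgroup G} (hc : ∀ x ∈ A, ∀ y ∈ A, x * y = y * x)
    (hp : ∀ a ∈ A, a ^ p = 1) : IsElementaryAbelian p A :=
  ⟨⟨⟨fun a b => Subtype.ext (hc a a.2 b b.2)⟩⟩, hp⟩

theorem elem_le {p : ℕ} {A B : Subgroup G} (hA : IsElementaryAbelian p A) (h : B ≤ A) :
    IsElementaryAbelian p B :=
  elem_mk (fun _ hx _ hy => elem_comm hA (h hx) (h hy)) (fun a ha => hA.2 a (h ha))

theorem elem_isPGroup {p : ℕ} {A : Subgroup G} (hA : IsElementaryAbelian p A) : IsPGroup p A :=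
  fun x => ⟨1, by rw [pow_one]; exact Subtype.ext (hA.2 x x.2)⟩

theorem elem_map_iff {p : ℕ} {A : Subgroup G} {f : G →* H} (hf : Function.Injective f) :
    IsElementaryAbelian p (A.map f) ↔ IsElementaryAbelian p A := by
  constructor
  · intro h
    refine elem_mk (fun x hx y hy => hf ?_) (fun a ha => hf ?_)
    · rw [map_mul, map_mul]
      exact elem_comm h (mem_map_of_mem f hx) (mem_map_of_mem f hy)
    · rw [map_pow, map_one]
      exact h.2 _ (mem_map_of_mem f ha)
  · intro h
    refine elem_mk ?_ ?_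
    · rintro _ ⟨x, hx, rfl⟩ _ ⟨y, hy, rfl⟩
      rw [← map_mul, ← map_mul, elem_comm h hx hy]
    · rintro _ ⟨x, hx, rfl⟩
      rw [← map_pow, h.2 x hx, map_one]

/-- The subgroup generated by a set of commuting elements of exponent dividing `p`. -/
theorem elem_closure {p : ℕ} {s : Set G} (hc : ∀ x ∈ s, ∀ y ∈ s, x * y = y * x)
    (hp : ∀ x ∈ s, x ^ p = 1) : IsElementaryAbelian p (Subgroup.closure s) := by
  haveI := Subgroup.isMulCommutative_closure hc
  refine ⟨inferInstance, fun x hx => ?_⟩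
  induction hx using Subgroup.closure_induction with
  | mem z hz => exact hp z hz
  | one => exact one_pow p
  | mul a b ha hb h1 h2 =>
    rw [Commute.mul_pow (show Commute a b from
      congrArg Subtype.val (mul_comm' (⟨a, ha⟩ : Subgroup.closure s) ⟨b, hb⟩)), h1, h2, one_mul]
  | inv a _ h1 => rw [inv_pow, h1, inv_one]

/-- `A` is an elementary abelian subgroup of `P` of largest order. -/
def MaxIn (p : ℕ) (P A : Subgroup G) : Prop :=
  A ≤ P ∧ IsElementaryAbelian p A ∧
    ∀ B : Subgroup G, B ≤ P → IsElementaryAbelian p B → Nat.card B ≤ Nat.card A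

theorem exists_maxIn [Finite G] (p : ℕ) (P : Subgroup G) : ∃ A, MaxIn p P A := by
  obtain ⟨A, hA⟩ := Set.exists_max_image
    {A : Subgroup G | A ≤ P ∧ IsElementaryAbelian p A} (fun A => Nat.card A) (Set.toFinite _)
    ⟨⊥, bot_le, elem_mk (by simp) (by simp)⟩
  exact ⟨A, hA.1.1, hA.1.2, fun B h1 h2 => hA.2 B ⟨h1, h2⟩⟩

theorem maxIn_top_iff {p : ℕ} {A : Subgroup G} :
    A ∈ maxElementaryAbelianSubgroups p G ↔ MaxIn p ⊤ A :=
  ⟨fun h => ⟨le_top, h.1, fun B _ hB => h.2 B hB⟩, fun h => ⟨h.2.1, fun B hB => h.2.2 B le_top hB⟩⟩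

theorem maxIn_map_iff {p : ℕ} {P A : Subgroup G} {f : G →* H} (hf : Function.Injective f) :
    MaxIn p (P.map f) (A.map f) ↔ MaxIn p P A := by
  unfold MaxIn
  rw [map_le_map_iff_of_injective hf, elem_map_iff hf]
  refine and_congr_right fun _ => and_congr_right fun _ => ⟨fun h B hBP hB => ?_, fun h B hBP hB => ?_⟩
  · have := h (B.map f) (map_mono hBP) ((elem_map_iff hf).mpr hB)
    rwa [card_map_of_injective hf, card_map_of_injective hf] at this
  · have hB' : (B.comap f).map f = B := map_comap_eq_self (hBP.trans (map_le_range f P))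
    rw [← hB', card_map_of_injective hf, card_map_of_injective hf]
    refine h _ ?_ ((elem_map_iff hf).mp (by rwa [hB']))
    rw [← map_le_map_iff_of_injective hf, hB']
    exact hBP

theorem thompsonSubgroup_eq (p : ℕ) (P : Type*) [Group P] :
    thompsonSubgroup p P = sSup {A | MaxIn p (⊤ : Subgroup P) A} := by
  rw [thompsonSubgroup]
  congr 1
  exact Set.ext fun A => maxIn_top_iff

/-- `J(P)` is generated by the elementary abelian subgroups of `P` of largest order. -/
theorem thompsonSubgroupOf_eq (p : ℕ) (P : Subgroup G) :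
    thompsonSubgroupOf p P = sSup {A | MaxIn p P A} := by
  have hP : P = (⊤ : Subgroup P).map P.subtype := by rw [← MonoidHom.range_eq_map, range_subtype]
  rw [thompsonSubgroupOf, thompsonSubgroup_eq]
  refine le_antisymm ?_ (sSup_le fun A hA => ?_)
  · rw [map_le_iff_le_comap]
    refine sSup_le fun A hA => ?_
    rw [← map_le_iff_le_comap]
    refine le_sSup ?_
    show MaxIn p P (A.map P.subtype)
    nth_rewrite 1 [hP]
    exact (maxIn_map_iff P.subtype_injective).mpr hA
  · have hA' : (A.subgroupOf P).map P.subtype = A := map_subgroupOf_eq_of_le hA.1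
    rw [← hA']
    refine map_mono (le_sSup ?_)
    refine (maxIn_map_iff (f := P.subtype) P.subtype_injective).mp ?_
    rw [hA', ← hP]
    exact hA

theorem le_thompsonSubgroupOf {p : ℕ} {P A : Subgroup G} (h : MaxIn p P A) :
    A ≤ thompsonSubgroupOf p P := by
  rw [thompsonSubgroupOf_eq]; exact le_sSup h

theorem thompsonSubgroupOf_le (p : ℕ) (P : Subgroup G) : thompsonSubgroupOf p P ≤ P :=
  map_subtype_le _

theorem thompsonSubgroupOf_top (p : ℕ) : thompsonSubgroupOf p (⊤ : Subgroup G) = thompsonSubgroup p G := by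
  rw [thompsonSubgroupOf_eq, thompsonSubgroup_eq]

theorem maxIn_iff_of_le [Finite G] {p : ℕ} {P U : Subgroup G} (h1 : thompsonSubgroupOf p P ≤ U)
    (h2 : U ≤ P) {A : Subgroup G} : MaxIn p U A ↔ MaxIn p P A := by
  obtain ⟨A₀, hA₀⟩ := exists_maxIn p P
  constructor
  · rintro ⟨hAU, hAe, hmax⟩
    refine ⟨hAU.trans h2, hAe, fun B hB hBe => (hA₀.2.2 B hB hBe).trans ?_⟩
    exact hmax A₀ ((le_thompsonSubgroupOf hA₀).trans h1) hA₀.2.1
  · intro hA
    exact ⟨(le_thompsonSubgroupOf hA).trans h1, hA.2.1, fun B hB => hA.2.2 B (hB.trans h2)⟩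

/-- `J(U) = J(P)` for `J(P) ≤ U ≤ P`. -/
theorem thompsonSubgroupOf_eq_of_le [Finite G] {p : ℕ} {P U : Subgroup G}
    (h1 : thompsonSubgroupOf p P ≤ U) (h2 : U ≤ P) :
    thompsonSubgroupOf p U = thompsonSubgroupOf p P := by
  rw [thompsonSubgroupOf_eq, thompsonSubgroupOf_eq]
  congr 1
  exact Set.ext fun A => maxIn_iff_of_le h1 h2

theorem map_sSup_maxIn {p : ℕ} {P : Subgroup G} {f : G →* H} (hf : Function.Injective f) :
    (sSup {A | MaxIn p P A}).map f = sSup {A | MaxIn p (P.map f) A} := by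
  refine le_antisymm ?_ (sSup_le fun A hA => ?_)
  · rw [map_le_iff_le_comap]
    refine sSup_le fun A hA => ?_
    rw [← map_le_iff_le_comap]
    exact le_sSup ((maxIn_map_iff hf).mpr hA)
  · have hA' : (A.comap f).map f = A := map_comap_eq_self (hA.1.trans (map_le_range f P))
    rw [← hA']
    refine map_mono (le_sSup ((maxIn_map_iff hf).mp ?_))
    rwa [hA']

theorem thompsonSubgroupOf_map {p : ℕ} {P : Subgroup G} {f : G →* H} (hf : Function.Injective f) :
    (thompsonSubgroupOf p P).map f = thompsonSubgroupOf p (P.map f) := by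
  rw [thompsonSubgroupOf_eq, thompsonSubgroupOf_eq, map_sSup_maxIn hf]

theorem thompsonSubgroup_map {p : ℕ} {f : G →* H} (hf : Function.Injective f) :
    (thompsonSubgroup p G).map f = thompsonSubgroupOf p f.range := by
  rw [← thompsonSubgroupOf_top, thompsonSubgroupOf_map hf, ← MonoidHom.range_eq_map]

/-- The normalizer of `P` normalizes `J(P)`. -/
theorem conj_thompsonSubgroupOf {p : ℕ} (P : Subgroup G) (g : G) :
    (thompsonSubgroupOf p P).map (MulAut.conj g).toMonoidHom =
      thompsonSubgroupOf p (P.map (MulAut.conj g).toMonoidHom) :=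
  thompsonSubgroupOf_map (MulAut.conj g).injective

theorem map_conj_eq_of_mem_normalizer {P : Subgroup G} {g : G}
    (hg : g ∈ normalizer (P : Set G)) : P.map (MulAut.conj g).toMonoidHom = P := by
  ext x
  constructor
  · rintro ⟨y, hy, rfl⟩
    exact (mem_normalizer_iff.mp hg y).mp hy
  · intro hx
    refine ⟨g⁻¹ * x * g, (mem_normalizer_iff.mp hg _).mpr ?_, ?_⟩
    · have : g * (g⁻¹ * x * g) * g⁻¹ = x := by group
      rw [this]; exact hx
    · show g * (g⁻¹ * x * g) * g⁻¹ = x
      group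

theorem mem_normalizer_of_map_conj {P : Subgroup G} {g : G}
    (h : P.map (MulAut.conj g).toMonoidHom = P) : g ∈ normalizer (P : Set G) := by
  rw [mem_normalizer_iff]
  intro x
  constructor
  · intro hx
    rw [← h]
    exact mem_map_of_mem _ hx
  · intro hx
    rw [← h] at hx
    obtain ⟨y, hy, he⟩ := hx
    have : y = x := (MulAut.conj g).injective he
    rwa [← this]

theorem normalizer_le_normalizer_thompsonSubgroupOf (p : ℕ) (P : Subgroup G) :
    normalizer (P : Set G) ≤ normalizer (thompsonSubgroupOf p P : Set G) := fun g hg => by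
  apply mem_normalizer_of_map_conj
  rw [conj_thompsonSubgroupOf, map_conj_eq_of_mem_normalizer hg]

theorem exists_conj_le_sylow [Finite G] {p : ℕ} [Fact p.Prime] (S : Sylow p G) {A : Subgroup G}
    (hA : IsPGroup p A) : ∃ g : G, A.map (MulAut.conj g).toMonoidHom ≤ S := by
  obtain ⟨R, hR⟩ := hA.exists_le_sylow
  obtain ⟨g, hg⟩ := MulAction.exists_smul_eq G R S
  refine ⟨g, ?_⟩
  rw [← hg, Sylow.coe_subgroup_smul, pointwise_smul_def]
  exact map_mono hR

/-- Largest elementary abelian subgroups of a Sylow subgroup are largest in the whole group. -/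
theorem maxIn_sylow_iff [Finite G] {p : ℕ} [Fact p.Prime] (S : Sylow p G) {A : Subgroup G} :
    MaxIn p (S : Subgroup G) A ↔ A ≤ S ∧ MaxIn p ⊤ A := by
  constructor
  · rintro ⟨hAS, hA, hmax⟩
    refine ⟨hAS, le_top, hA, fun B _ hB => ?_⟩
    obtain ⟨g, hg⟩ := exists_conj_le_sylow S (elem_isPGroup hB)
    have := hmax _ hg ((elem_map_iff (MulAut.conj g).injective).mpr hB)
    rwa [card_map_of_injective (MulAut.conj g).injective] at this
  · exact fun h => ⟨h.1, h.2.2.1, fun B _ hB => h.2.2.2 B le_top hB⟩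

theorem mem_omegaOne {p : ℕ} {K : Subgroup G} {x : G} (hx : x ∈ K) (h : x ^ p = 1) :
    x ∈ omegaOne p K := subset_closure ⟨hx, h⟩

theorem omegaOne_le (p : ℕ) (K : Subgroup G) : omegaOne p K ≤ K :=
  (closure_le K).mpr fun _ hx => hx.1

theorem omegaOne_map {p : ℕ} {K : Subgroup G} {f : G →* H} (hf : Function.Injective f) :
    (omegaOne p K).map f = omegaOne p (K.map f) := by
  rw [omegaOne, omegaOne, MonoidHom.map_closure]
  congr 1
  ext x
  constructor
  · rintro ⟨y, ⟨hy, hyp⟩, rfl⟩
    exact ⟨mem_map_of_mem f hy, by rw [← map_pow, hyp, map_one]⟩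
  · rintro ⟨⟨y, hy, rfl⟩, hyp⟩
    exact ⟨y, ⟨hy, hf (by rw [map_pow, hyp, map_one])⟩, rfl⟩

theorem map_inf_centralizer {K : Subgroup G} {f : G →* H} (hf : Function.Injective f) :
    (K ⊓ centralizer (K : Set G)).map f = K.map f ⊓ centralizer (K.map f : Set H) := by
  ext x
  constructor
  · rintro ⟨y, ⟨hy, hyc⟩, rfl⟩
    refine ⟨mem_map_of_mem f hy, mem_centralizer_iff.mpr ?_⟩
    rintro _ ⟨z, hz, rfl⟩
    rw [← map_mul, ← map_mul, mem_centralizer_iff.mp hyc z hz]
  · rintro ⟨⟨y, hy, rfl⟩, hyc⟩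
    refine ⟨y, ⟨hy, mem_centralizer_iff.mpr fun z hz => hf ?_⟩, rfl⟩
    rw [map_mul, map_mul]
    exact mem_centralizer_iff.mp hyc _ (mem_map_of_mem f hz)

theorem elem_omegaOne_center (p : ℕ) (K : Subgroup G) :
    IsElementaryAbelian p (omegaOne p (K ⊓ centralizer (K : Set G))) :=
  elem_closure (fun x hx y hy =>
    (mem_centralizer_iff.mp (mem_inf.mp hy.1).2 x (mem_inf.mp hx.1).1)) (fun x hx => hx.2)

theorem center_map_subtype (P : Subgroup G) :
    (center P).map P.subtype = P ⊓ centralizer (P : Set G) := by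
  have h := map_inf_centralizer (K := (⊤ : Subgroup P)) P.subtype_injective
  rw [← MonoidHom.range_eq_map, range_subtype, top_inf_eq, coe_top] at h
  rw [← h, Subgroup.centralizer_univ]

theorem omegaOne_center_map_subtype (p : ℕ) (P : Subgroup G) :
    (omegaOne p (center P)).map P.subtype = omegaOne p (P ⊓ centralizer (P : Set G)) := by
  rw [omegaOne_map P.subtype_injective, center_map_subtype]

/-- Elements of order dividing `p` in `Z(P)` lie in every largest elementary abelian subgroup. -/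
theorem omegaOne_center_le_maxIn [Finite G] {p : ℕ} {P A : Subgroup G} (hA : MaxIn p P A) :
    omegaOne p (P ⊓ centralizer (P : Set G)) ≤ A := by
  refine (closure_le A).mpr fun z hz => ?_
  have hzP := (mem_inf.mp hz.1).1
  have hzc := (mem_inf.mp hz.1).2
  have hel : IsElementaryAbelian p (Subgroup.closure (insert z (A : Set G))) := by
    refine elem_closure ?_ ?_
    · rintro x (rfl | hx) y (rfl | hy)
      · rfl
      · exact (mem_centralizer_iff.mp hzc y (hA.1 hy)).symm
      · exact mem_centralizer_iff.mp hzc x (hA.1 hx)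
      · exact elem_comm hA.2.1 hx hy
    · rintro x (rfl | hx)
      · exact hz.2
      · exact hA.2.1.2 x hx
  have hle : A ≤ Subgroup.closure (insert z (A : Set G)) :=
    fun a ha => subset_closure (Set.mem_insert_of_mem z ha)
  have hP : Subgroup.closure (insert z (A : Set G)) ≤ P :=
    (closure_le P).mpr (Set.insert_subset hzP hA.1)
  have := eq_of_le_of_card_ge hle (hA.2.2 _ hP hel)
  rw [SetLike.mem_coe, this]
  exact subset_closure (Set.mem_insert z (A : Set G))

theorem sylow_relIndex_not_dvd [Finite G] {p : ℕ} [Fact p.Prime] (S : Sylow p G)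
    (D : Subgroup G) [D.Normal] : ¬ p ∣ (S : Subgroup G).relIndex D := by
  intro hd
  have h1 := Cfsg.Agent.Cores.card_sup_mul_card_inf (S : Subgroup G) D
  have h2 := relIndex_mul_card_inf D (S : Subgroup G)
  have h3 := relIndex_mul_card_inf ((S : Subgroup G) ⊔ D) (S : Subgroup G)
  rw [inf_of_le_right (le_sup_left : (S : Subgroup G) ≤ (S : Subgroup G) ⊔ D)] at h3
  rw [inf_comm D] at h2
  have heq : (S : Subgroup G).relIndex D = (S : Subgroup G).relIndex ((S : Subgroup G) ⊔ D) := by
    refine Nat.eq_of_mul_eq_mul_right (Nat.mul_pos (Nat.card_pos (α := ((S : Subgroup G) ⊓ D : Subgroup G)))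
      (Nat.card_pos (α := (S : Subgroup G)))) ?_
    rw [← mul_assoc, h2, mul_comm (Nat.card ((S : Subgroup G) ⊓ D : Subgroup G)), ← mul_assoc, h3, h1]
    ring
  apply S.not_dvd_index
  rw [heq] at hd
  exact hd.trans (Subgroup.relIndex_dvd_index_of_le le_sup_left)

/-- If `[D : C]` is a power of `p` then `D = C (S ∩ D)`. -/
theorem le_sup_sylow_inf [Finite G] {p : ℕ} [Fact p.Prime] (S : Sylow p G)
    {C D : Subgroup G} [D.Normal] (hCD : C ≤ D) {k : ℕ} (hk : C.relIndex D = p ^ k) :
    D ≤ C ⊔ ((S : Subgroup G) ⊓ D) := by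
  rw [← Subgroup.relIndex_eq_one]
  refine Nat.eq_one_of_dvd_coprimes (a := p ^ k) (b := (S : Subgroup G).relIndex D) ?_ ?_ ?_
  · exact ((Nat.Prime.coprime_iff_not_dvd Fact.out).mpr (sylow_relIndex_not_dvd S D)).pow_left k
  · exact (Subgroup.relIndex_dvd_of_le_left D le_sup_left).trans (dvd_of_eq hk)
  · refine (Subgroup.relIndex_dvd_of_le_left D le_sup_right).trans (dvd_of_eq ?_)
    rw [Subgroup.inf_relIndex_right]

/-- Frattini argument for the intersection of a Sylow subgroup with a normal subgroup. -/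
theorem normalizer_sylow_inf_sup [Finite G] {p : ℕ} [Fact p.Prime] (S : Sylow p G)
    (D : Subgroup G) [D.Normal] :
    normalizer (((S : Subgroup G) ⊓ D : Subgroup G) : Set G) ⊔ D = ⊤ := by
  have hp : IsPGroup p ((S : Subgroup G).subgroupOf D) :=
    S.isPGroup'.comap_of_injective D.subtype D.subtype_injective
  have := Sylow.normalizer_sup_eq_top (hp.toSylow (sylow_relIndex_not_dvd S D))
  change normalizer ((((S : Subgroup G).subgroupOf D).map D.subtype : Subgroup G) : Set G) ⊔ D = ⊤
    at this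
  rwa [subgroupOf_map_subtype] at this

/-- Frattini argument: if `[D : C]` is a power of `p` then `G = N(S ∩ D) C`. -/
theorem normalizer_sylow_inf_sup_of_relIndex [Finite G] {p : ℕ} [Fact p.Prime] (S : Sylow p G)
    {C D : Subgroup G} [D.Normal] (hCD : C ≤ D) {k : ℕ} (hk : C.relIndex D = p ^ k) :
    normalizer (((S : Subgroup G) ⊓ D : Subgroup G) : Set G) ⊔ C = ⊤ := by
  rw [eq_top_iff, ← normalizer_sylow_inf_sup S D]
  exact sup_le le_sup_left ((le_sup_sylow_inf S hCD hk).trans
    (sup_le le_sup_right (Subgroup.le_normalizer.trans le_sup_left)))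

/-- The preimage of `O_p(G/C)` has `p`-power index over `C`. -/
theorem exists_relIndex_comap_pCore [Finite G] {p : ℕ} [Fact p.Prime] (C : Subgroup G) [C.Normal] :
    ∃ k : ℕ, C.relIndex ((pCore p (G ⧸ C)).comap (QuotientGroup.mk' C)) = p ^ k := by
  obtain ⟨k, hk⟩ := IsPGroup.iff_card.mp (Cfsg.Agent.Cores.pCore_isPGroup (p := p) (G := G ⧸ C))
  refine ⟨k, ?_⟩
  have h := Subgroup.relIndex_ker (QuotientGroup.mk' C)
    (K := (pCore p (G ⧸ C)).comap (QuotientGroup.mk' C))
  rw [QuotientGroup.ker_mk', map_comap_eq_self_of_surjective (QuotientGroup.mk'_surjective C)] at h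
  rw [h, hk]

theorem le_comap_mk' (C : Subgroup G) [C.Normal] (K : Subgroup (G ⧸ C)) :
    C ≤ K.comap (QuotientGroup.mk' C) := fun x hx => by
  rw [mem_comap, QuotientGroup.mk'_apply, (QuotientGroup.eq_one_iff x).mpr hx]
  exact one_mem K

end Cfsg.Agent.H31
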