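import Cfsg.Agent.H31.FFStructure
import Cfsg.Agent.H31.JSub
import Cfsg.Agent.Cores.PSolvable
import Cfsg.Agent.Cores.Constrained
import Mathlib.GroupTheory.SemidirectProduct

/-!
Placing `G / C_G(V)` beside `V`: the ambient group `V ⋊ G / C_G(V)`.
-/

set_option autoImplicit false

namespace Cfsg.Agent.H31.FFAmb

open Subgroup

theorem centralizer_pPrimeCore_le {G : Type*} [Group G] [Finite G] {p : ℕ} [hp : Fact p.Prime]
    (hs : Cfsg.IsPSolvable p G) (h : Cfsg.pCore p G = ⊥) :
    centralizer (Cfsg.pPrimeCore p G : Set G) ≤ Cfsg.pPrimeCore p G := by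
  set F := Cfsg.pPrimeCore p G with hF
  set C := centralizer (F : Set G) with hC
  by_contra hne
  set Z := Cfsg.pPrimeCore p C with hZ
  have hZeq : Z = F.subgroupOf C := Cores.pPrimeCore_of_normal C
  have hZtop : Z ≠ ⊤ := by
    rw [hZeq, Ne, subgroupOf_eq_top]; exact hne
  haveI : Nontrivial (C ⧸ Z) := QuotientGroup.nontrivial_iff.mpr hZtop
  have hQ := Cores.pCore_ne_bot_of_pPrimeCore_eq_bot (p := p) (G := C ⧸ Z)
    (Cores.isPSolvable_quotient (Cores.isPSolvable_subgroup hs C) Z)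
    Cores.pPrimeCore_quotient_pPrimeCore
  set M := (Cfsg.pCore p (C ⧸ Z)).comap (QuotientGroup.mk' Z) with hM
  haveI : Group.IsNilpotent (Cfsg.pCore p (C ⧸ Z)) := Cores.pCore_isPGroup.isNilpotent
  haveI hnil : Group.IsNilpotent M := by
    refine _root_.isNilpotent_of_ker_le_center (f := (QuotientGroup.mk' Z).subgroupComap
      (Cfsg.pCore p (C ⧸ Z))) ?_
    intro x hx
    have hxZ : (x : C) ∈ Z := (QuotientGroup.eq_one_iff _).mp (congrArg Subtype.val hx)
    refine mem_center_iff.mpr fun y => Subtype.ext (Subtype.ext ?_)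
    rw [hZeq, mem_subgroupOf] at hxZ
    exact (mem_centralizer_iff.mp (y : C).2 _ hxZ).symm
  have hcore : Cfsg.pCore p M = ⊥ := by
    rw [Cores.pCore_of_normal, Cores.pCore_of_normal, h, bot_subgroupOf, bot_subgroupOf]
  have hdvd : p ∣ Nat.card M := by
    obtain ⟨n, hn⟩ := IsPGroup.iff_card.mp (Cores.pCore_isPGroup (p := p) (G := C ⧸ Z))
    have hn0 : n ≠ 0 := fun e => hQ (Subgroup.card_eq_one.mp (by rw [hn, e, pow_zero]))
    have h1 : Nat.card (Cfsg.pCore p (C ⧸ Z)) ∣ Nat.card M := by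
      have hsurj : Function.Surjective ((QuotientGroup.mk' Z).subgroupComap
          (Cfsg.pCore p (C ⧸ Z))) := fun y => by
        obtain ⟨x, hx⟩ := QuotientGroup.mk'_surjective Z (y : C ⧸ Z)
        exact ⟨⟨x, show QuotientGroup.mk' Z x ∈ Cfsg.pCore p (C ⧸ Z) by rw [hx]; exact y.2⟩,
          Subtype.ext hx⟩
      exact Subgroup.card_dvd_of_surjective _ hsurj
    exact (hn ▸ dvd_pow_self p hn0).trans h1
  obtain ⟨P⟩ := (inferInstance : Nonempty (Sylow p M))
  have hPn : (P : Subgroup M).Normal := by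
    have h2 := (Group.isNilpotent_of_finite_tfae (G := M)).out 0 3
    exact h2.mp hnil p inferInstance P
  haveI := hPn
  have h3 := Cores.le_pCore (N := (P : Subgroup M)) P.2
  rw [hcore, le_bot_iff] at h3
  exact P.ne_bot_of_dvd_card hdvd h3

variable {Γ : Type*} [Group Γ] (V : Subgroup Γ) [V.Normal]

/-- The action of `Γ / C(V)` on `V`. -/
def act : Γ ⧸ centralizer (V : Set Γ) →* MulAut V :=
  QuotientGroup.lift _ (MulAut.conjNormal (H := V)) fun g hg => by
    ext v
    show g * (v : Γ) * g⁻¹ = v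
    rw [← mem_centralizer_iff.mp hg _ v.2, mul_inv_cancel_right]

/-- The ambient group `V ⋊ Γ / C(V)`. -/
abbrev Amb := V ⋊[act V] (Γ ⧸ centralizer (V : Set Γ))

instance [Finite Γ] : Finite (Amb V) := Finite.of_equiv _ SemidirectProduct.equivProd.symm

/-- The copy of `V`. -/
abbrev Vb : Subgroup (Amb V) := (SemidirectProduct.inl : V →* Amb V).range

/-- The map `Γ → Amb`. -/
abbrev toAmb : Γ →* Amb V :=
  SemidirectProduct.inr.comp (QuotientGroup.mk' (centralizer (V : Set Γ)))

theorem toAmb_conj (g : Γ) (v : V) :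
    toAmb V g * SemidirectProduct.inl v * (toAmb V g)⁻¹ =
      (SemidirectProduct.inl (MulAut.conjNormal g v) : Amb V) := by
  have h := SemidirectProduct.inl_aut (φ := act V)
    (QuotientGroup.mk' (centralizer (V : Set Γ)) g) v
  rw [map_inv] at h
  exact h.symm

theorem toAmb_ker : (toAmb V).ker = centralizer (V : Set Γ) := by
  rw [← MonoidHom.comap_ker, (MonoidHom.ker_eq_bot_iff _).mpr SemidirectProduct.inr_injective]
  exact QuotientGroup.ker_mk' _

theorem mem_centralizer_toAmb_iff {B : Subgroup Γ} {v : V} :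
    (SemidirectProduct.inl v : Amb V) ∈ centralizer ((B.map (toAmb V) : Subgroup (Amb V)) : Set (Amb V)) ↔
      (v : Γ) ∈ centralizer (B : Set Γ) := by
  simp only [mem_centralizer_iff]
  constructor
  · intro h b hb
    have h1 := h _ (mem_map_of_mem _ hb)
    have h2 := toAmb_conj V b v
    rw [h1, mul_inv_cancel_right] at h2
    have h3 := congrArg Subtype.val (SemidirectProduct.inl_injective h2)
    calc b * (v : Γ) = (b * v * b⁻¹) * b := by group
      _ = v * b := by rw [show b * (v : Γ) * b⁻¹ = v from h3.symm]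
  · rintro h _ ⟨b, hb, rfl⟩
    have h2 := toAmb_conj V b v
    have h3 : MulAut.conjNormal b v = v := Subtype.ext (by
      show b * (v : Γ) * b⁻¹ = v
      rw [h b hb, mul_inv_cancel_right])
    rw [h3] at h2
    calc toAmb V b * SemidirectProduct.inl v
        = (toAmb V b * SemidirectProduct.inl v * (toAmb V b)⁻¹) * toAmb V b := by group
      _ = _ := by rw [h2]

theorem fixed_eq (B : Subgroup Γ) :
    Vb V ⊓ centralizer ((B.map (toAmb V) : Subgroup (Amb V)) : Set (Amb V)) =
      ((V ⊓ centralizer (B : Set Γ)).subgroupOf V).map SemidirectProduct.inl := by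
  ext x
  constructor
  · rintro ⟨⟨v, rfl⟩, hx⟩
    exact ⟨v, ⟨v.2, (mem_centralizer_toAmb_iff V).mp hx⟩, rfl⟩
  · rintro ⟨v, hv, rfl⟩
    exact ⟨⟨v, rfl⟩, (mem_centralizer_toAmb_iff V).mpr hv.2⟩

variable [Finite Γ]

theorem card_fixed (B : Subgroup Γ) :
    Nat.card ↥(Vb V ⊓ centralizer ((B.map (toAmb V) : Subgroup (Amb V)) : Set (Amb V))) =
      Nat.card ↥(V ⊓ centralizer (B : Set Γ)) := by
  rw [fixed_eq, Subgroup.card_map_of_injective SemidirectProduct.inl_injective]
  exact Nat.card_congr (subgroupOfEquivOfLe inf_le_left).toEquiv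

theorem card_map_toAmb (B : Subgroup Γ) :
    Nat.card (B.map (toAmb V)) * Nat.card ↥(B ⊓ centralizer (V : Set Γ)) = Nat.card B := by
  rw [← Subgroup.relIndex_ker, toAmb_ker]
  exact relIndex_mul_card_inf B _

theorem card_Vb : Nat.card (Vb V) = Nat.card V :=
  Nat.card_congr (MonoidHom.ofInjective SemidirectProduct.inl_injective).symm.toEquiv

variable {p : ℕ} [Fact p.Prime]

theorem faith (hV : Cfsg.IsElementaryAbelian p V) (K : Subgroup Γ) :
    FF.Faith p (Vb V) (K.map (toAmb V)) := by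
  refine ⟨elem_mk ?_ ?_, ?_, ?_⟩
  · rintro _ ⟨x, rfl⟩ _ ⟨y, rfl⟩
    rw [← map_mul, ← map_mul, show x * y = y * x from Subtype.ext (elem_comm hV x.2 y.2)]
  · rintro _ ⟨x, rfl⟩
    rw [← map_pow, show x ^ p = 1 from Subtype.ext (hV.2 x x.2), map_one]
  · have hle : ∀ g : Γ, (Vb V).map (MulAut.conj (toAmb V g)).toMonoidHom ≤ Vb V := by
      rintro g _ ⟨_, ⟨v, rfl⟩, rfl⟩
      exact ⟨MulAut.conjNormal g v, (toAmb_conj V g v).symm⟩
    rintro _ ⟨g, -, rfl⟩
    refine Thompson.mem_normalizer_of_map_conj (Subgroup.eq_of_le_of_card_ge (hle g)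
      (le_of_eq (Subgroup.card_map_of_injective (MulAut.conj _).injective).symm))
  · refine (eq_bot_iff_forall _).mpr ?_
    rintro _ ⟨⟨g, hg, rfl⟩, hc⟩
    rw [← MonoidHom.mem_ker, toAmb_ker]
    refine mem_centralizer_iff.mpr fun v hv => ?_
    have h1 := mem_centralizer_iff.mp hc (SemidirectProduct.inl ⟨v, hv⟩) ⟨_, rfl⟩
    have h2 := toAmb_conj V g ⟨v, hv⟩
    rw [← h1, mul_inv_cancel_right] at h2
    have h3 : v = g * v * g⁻¹ := congrArg Subtype.val (SemidirectProduct.inl_injective h2)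
    calc v * g = (g * v * g⁻¹) * g := by rw [← h3]
      _ = g * v := by group

theorem setting (hV : Cfsg.IsElementaryAbelian p V) (K : Subgroup Γ)
    (hs : Cfsg.IsPSolvable p K)
    (hO : Cfsg.pCore p ↥(K.map (QuotientGroup.mk' (centralizer (V : Set Γ)))) = ⊥) :
    FF.Setting p (Vb V) (K.map (toAmb V)) := by
  refine ⟨faith V hV K, centralizer_pPrimeCore_le ?_ ?_⟩
  · exact Cores.isPSolvable_of_surjective hs _ ((toAmb V).subgroupMap_surjective K)
  · have e : K.map (toAmb V) = (K.map (QuotientGroup.mk' (centralizer (V : Set Γ)))).map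
        (SemidirectProduct.inr : _ →* Amb V) := by rw [Subgroup.map_map]
    let eq := ((K.map (QuotientGroup.mk' (centralizer (V : Set Γ)))).equivMapOfInjective
      (SemidirectProduct.inr : _ →* Amb V) SemidirectProduct.inr_injective).trans
        (MulEquiv.subgroupCongr e.symm)
    have h1 := Cores.pCore_map_mulEquiv (p := p) eq
    rw [hO, Subgroup.map_bot] at h1
    exact h1.symm

omit [Fact p.Prime] in
theorem offender (A : Subgroup Γ) (hA : Cfsg.IsBestOffenderOn p V A) :
    Cfsg.IsBestOffenderOn p (Vb V) (A.map (toAmb V)) := by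
  have hker : ∀ g ∈ centralizer (V : Set Γ), toAmb V g = 1 := fun g hg => by
    rwa [← MonoidHom.mem_ker, toAmb_ker]
  refine ⟨fun B hB => ?_, ?_, ?_⟩
  · set B' := A ⊓ B.comap (toAmb V) with hB'
    have hmap : B'.map (toAmb V) = B := by
      refine le_antisymm ?_ fun x hx => ?_
      · rintro _ ⟨y, hy, rfl⟩; exact hy.2
      · obtain ⟨y, hy, rfl⟩ := hB hx
        exact ⟨y, ⟨hy, hx⟩, rfl⟩
    have hinf : B' ⊓ centralizer (V : Set Γ) = A ⊓ centralizer (V : Set Γ) := by
      refine le_antisymm (inf_le_inf_right _ inf_le_left) (le_inf (le_inf inf_le_left ?_) inf_le_right)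
      intro g hg
      show toAmb V g ∈ B
      rw [hker g hg.2]; exact one_mem B
    have h1 := hA.1 B' inf_le_left
    rw [← card_map_toAmb V B', ← card_map_toAmb V A, ← card_fixed V B', ← card_fixed V A, hmap,
      hinf] at h1
    have hpos : 0 < Nat.card ↥(A ⊓ centralizer (V : Set Γ)) := Nat.card_pos
    refine Nat.le_of_mul_le_mul_right ?_ hpos
    calc _ = Nat.card B * Nat.card ↥(A ⊓ centralizer (V : Set Γ)) *
          Nat.card ↥(Vb V ⊓ centralizer (B : Set (Amb V))) := by ring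
      _ ≤ _ := h1
      _ = _ := by ring
  · rw [← map_commutator]
    rintro _ ⟨g, hg, rfl⟩
    rw [hker g (hA.2.1 hg)]; exact one_mem _
  · rintro _ ⟨g, hg, rfl⟩
    rw [← map_pow, hker _ (hA.2.2 g hg)]; exact one_mem _

/-- `|A| |C_V(A)| = |V| |C_A(V)|` for best offenders in a `p`-solvable group with
`O_p(Γ/C(V)) = 1`. -/
theorem weight (hV : Cfsg.IsElementaryAbelian p V) (K : Subgroup Γ) (hs : Cfsg.IsPSolvable p K)
    (hO : Cfsg.pCore p ↥(K.map (QuotientGroup.mk' (centralizer (V : Set Γ)))) = ⊥)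
    (A : Subgroup Γ) (hAK : A ≤ K) (hA : Cfsg.IsBestOffenderOn p V A) :
    Nat.card A * Nat.card ↥(V ⊓ centralizer (A : Set Γ)) =
      Nat.card V * Nat.card ↥(A ⊓ centralizer (V : Set Γ)) := by
  have h1 := (setting V hV K hs hO).weight_eq _ (A.map (toAmb V)) le_rfl (Subgroup.map_mono hAK)
    (offender V A hA)
  rw [offWeight, card_fixed, card_Vb] at h1
  rw [← card_map_toAmb V A, ← h1]
  ring

end Cfsg.Agent.H31.FFAmb
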