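import Cfsg.Agent.H31.JSub

/-!
The normal subgroup generated by the `Ω₁(Z(S))`, `S` a Sylow `p`-subgroup.
-/

namespace Cfsg.Agent.H31

open Subgroup
open scoped Pointwise

variable {G : Type*} [Group G]

/-- `Ω₁(Z(S))` inside `G`. -/
abbrev omegaZ (p : ℕ) (S : Subgroup G) : Subgroup G :=
  omegaOne p (S ⊓ centralizer (S : Set G))

theorem omegaZ_map {p : ℕ} (S : Subgroup G) (g : G) :
    (omegaZ p S).map (MulAut.conj g).toMonoidHom = omegaZ p (S.map (MulAut.conj g).toMonoidHom) := by
  rw [omegaZ, omegaOne_map (MulAut.conj g).injective, map_inf_centralizer (MulAut.conj g).injective]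

/-- The join of the `Ω₁(Z(S))` is normal. -/
theorem normal_iSup_omegaZ (p : ℕ) :
    (⨆ S : Sylow p G, omegaZ p (S : Subgroup G)).Normal := by
  constructor
  intro x hx g
  have : (⨆ S : Sylow p G, omegaZ p (S : Subgroup G)).map (MulAut.conj g).toMonoidHom
      ≤ ⨆ S : Sylow p G, omegaZ p (S : Subgroup G) := by
    rw [Subgroup.map_iSup]
    refine iSup_le fun S => ?_
    rw [omegaZ_map]
    refine le_trans (le_of_eq ?_) (le_iSup _ (g • S))
    rw [Sylow.coe_subgroup_smul, pointwise_smul_def]
    rfl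
  exact this (mem_map_of_mem _ hx)

/-- A subgroup centralizing every `Ω₁(Z(S))` centralizes their join. -/
theorem le_centralizer_iSup_omegaZ {p : ℕ} {D : Subgroup G}
    (h : ∀ S : Sylow p G, D ≤ centralizer (omegaZ p (S : Subgroup G) : Set G)) :
    D ≤ centralizer ((⨆ S : Sylow p G, omegaZ p (S : Subgroup G) : Subgroup G) : Set G) := by
  rw [le_centralizer_iff]
  exact iSup_le fun S => le_centralizer_iff.mp (h S)

end Cfsg.Agent.H31
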