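import Mathlib.Tactic
import Mathlib.GroupTheory.PGroup
import Mathlib.GroupTheory.Perm.Cycle.Type
import Mathlib.GroupTheory.Commutator.Basic
import Mathlib.GroupTheory.QuotientGroup.Basic
import Cfsg.Prelude.Def_PLocal
import Cfsg.Agent.H31.Product

/-!
Thompson / Timmesfeld replacement: a subgroup `A` acting with abelian image on an abelian `V` that
maximises `|A| |C_V(A)|`.
-/

namespace Cfsg.Agent.H31

open Subgroup
open scoped commutatorElement

variable {G : Type*} [Group G]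

/-- The quantity `|A| |C_V(A)|`. -/
noncomputable def offWeight (V A : Subgroup G) : ℕ :=
  Nat.card A * Nat.card ↥(V ⊓ centralizer (A : Set G))

theorem conj_mem_of_le_normalizer {V A : Subgroup G} (h : A ≤ normalizer (V : Set G)) {a v : G}
    (ha : a ∈ A) (hv : v ∈ V) : a * v * a⁻¹ ∈ V :=
  (mem_normalizer_iff.mp (h ha) v).mp hv

theorem commutator_mem_left {V A : Subgroup G} (h : A ≤ normalizer (V : Set G)) {a v : G}
    (ha : a ∈ A) (hv : v ∈ V) : ⁅v, a⁆ ∈ V := by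
  have e : ⁅v, a⁆ = v * (a * v⁻¹ * a⁻¹) := by rw [commutatorElement_def]; group
  rw [e]
  exact mul_mem hv (conj_mem_of_le_normalizer h ha (inv_mem hv))

theorem commutator_le_of_le {V A U : Subgroup G} (h : A ≤ normalizer (V : Set G)) (hU : U ≤ V) :
    ⁅U, A⁆ ≤ V :=
  commutator_le.mpr fun _ hu _ ha => commutator_mem_left h ha (hU hu)

/-- If the image of `A` is abelian then commutators of `A` act trivially on `V`. -/
theorem conj_conj_comm {V A : Subgroup G} (hAV : A ≤ normalizer (V : Set G))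
    (hab : ⁅A, A⁆ ≤ centralizer (V : Set G)) {a c v : G} (ha : a ∈ A) (hc : c ∈ A) (hv : v ∈ V) :
    a * (c * v * c⁻¹) * a⁻¹ = c * (a * v * a⁻¹) * c⁻¹ := by
  have hw : c * (a * v * a⁻¹) * c⁻¹ ∈ V :=
    conj_mem_of_le_normalizer hAV hc (conj_mem_of_le_normalizer hAV ha hv)
  have h1 := mem_centralizer_iff.mp (hab (commutator_mem_commutator ha hc)) _ hw
  calc a * (c * v * c⁻¹) * a⁻¹
      = ⁅a, c⁆ * (c * (a * v * a⁻¹) * c⁻¹) * ⁅a, c⁆⁻¹ := by
        simp only [commutatorElement_def]; group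
    _ = c * (a * v * a⁻¹) * c⁻¹ * ⁅a, c⁆ * ⁅a, c⁆⁻¹ := by rw [h1]
    _ = c * (a * v * a⁻¹) * c⁻¹ := by group

theorem fix_of_mem_centralizer {A : Subgroup G} {a x : G} (ha : a ∈ A)
    (hx : x ∈ centralizer (A : Set G)) : a * x * a⁻¹ = x := by
  rw [mem_centralizer_iff.mp hx a ha, mul_inv_cancel_right]

/-- Replacement for a single element: `C_A(X)` loses at most `|X C_V(A) : C_V(A)|`. -/
theorem single_bound [Finite G] {V A : Subgroup G} (hAV : A ≤ normalizer (V : Set G))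
    (hVc : ∀ x ∈ V, ∀ y ∈ V, x * y = y * x) (hab : ⁅A, A⁆ ≤ centralizer (V : Set G))
    {u : G} (hu : u ∈ V) :
    ∃ Y : Subgroup G, V ⊓ centralizer (A : Set G) ≤ Y ∧
      Y = closure {z | ∃ a ∈ A, ⁅u, a⁆ = z} ⊔ (V ⊓ centralizer (A : Set G)) ∧
      offWeight V A ≤ Nat.card ↥(A ⊓ centralizer (Y : Set G)) * Nat.card Y := by
  set C := V ⊓ centralizer (A : Set G) with hC
  set X := closure {z | ∃ a ∈ A, ⁅u, a⁆ = z} with hX
  refine ⟨X ⊔ C, le_sup_right, rfl, ?_⟩
  set Y := X ⊔ C with hY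
  set B := A ⊓ centralizer (Y : Set G) with hB
  -- `[u, a] ≡ [u, b]` modulo `C` forces `b⁻¹ a ∈ B`
  have key : ∀ c ∈ A, ⁅u, c⁆ ∈ C → c ∈ B := by
    intro c hc hx
    have hxV : ⁅u, c⁆ ∈ V := hx.1
    have hcu : c * u * c⁻¹ = ⁅u, c⁆⁻¹ * u := by rw [commutatorElement_def]; group
    refine ⟨hc, ?_⟩
    have hgen : ∀ y ∈ ({z | ∃ a ∈ A, ⁅u, a⁆ = z} : Set G) ∪ (C : Set G), c * y * c⁻¹ = y := by
      rintro y (⟨a, ha, rfl⟩ | hy)
      · have h1 : c * (a * u * a⁻¹) * c⁻¹ = ⁅u, c⁆⁻¹ * (a * u * a⁻¹) := by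
          rw [← conj_conj_comm hAV hab ha hc hu, hcu]
          calc a * (⁅u, c⁆⁻¹ * u) * a⁻¹ = (a * ⁅u, c⁆⁻¹ * a⁻¹) * (a * u * a⁻¹) := by group
            _ = _ := by rw [fix_of_mem_centralizer ha (inv_mem hx.2)]
        have hz : ⁅u, a⁆ = u * (a * u * a⁻¹)⁻¹ := by rw [commutatorElement_def]; group
        calc c * ⁅u, a⁆ * c⁻¹ = (c * u * c⁻¹) * (c * (a * u * a⁻¹) * c⁻¹)⁻¹ := by rw [hz]; group
          _ = ⁅u, c⁆⁻¹ * (u * (a * u * a⁻¹)⁻¹) * ⁅u, c⁆ := by rw [h1, hcu]; group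
          _ = ⁅u, c⁆⁻¹ * ⁅u, a⁆ * ⁅u, c⁆ := by rw [hz]
          _ = ⁅u, a⁆ := by
            rw [hVc _ (inv_mem hxV) _ (commutator_mem_left hAV ha hu), inv_mul_cancel_right]
      · exact fix_of_mem_centralizer hc hy.2
    show c ∈ centralizer (Y : Set G)
    rw [mem_centralizer_iff]
    intro y hy
    rw [SetLike.mem_coe, hY, hX, ← closure_eq C, ← Subgroup.closure_union] at hy
    refine (mem_centralizer_iff.mp ?_ c (Set.mem_singleton c)).symm
    refine (closure_le (centralizer ({c} : Set G))).mpr ?_ hy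
    intro z hz
    rw [SetLike.mem_coe, mem_centralizer_iff]
    rintro t rfl
    exact mul_inv_eq_iff_eq_mul.mp (hgen z hz)
  have hmem : ∀ a ∈ A, ⁅u, a⁆ ∈ Y := fun a ha => mem_sup_left (subset_closure ⟨a, ha, rfl⟩)
  let f : A ⧸ B.subgroupOf A → Y ⧸ C.subgroupOf Y :=
    fun q => QuotientGroup.mk ⟨⁅u, (q.out : A)⁆, hmem _ q.out.2⟩
  have hf : Function.Injective f := by
    intro q₁ q₂ he
    rw [← QuotientGroup.out_eq' q₁, ← QuotientGroup.out_eq' q₂, QuotientGroup.eq,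
      mem_subgroupOf]
    simp only [f, QuotientGroup.eq, mem_subgroupOf, Subgroup.coe_mul, InvMemClass.coe_inv] at he
    set a := (q₁.out : A).1
    set b := (q₂.out : A).1
    have ha : a ∈ A := (q₁.out).2
    have hb : b ∈ A := (q₂.out).2
    have hc : a⁻¹ * b ∈ A := mul_mem (inv_mem ha) hb
    refine key _ hc ?_
    have e : ⁅u, a⁆⁻¹ * ⁅u, b⁆ = a * ⁅u, a⁻¹ * b⁆ * a⁻¹ := by
      simp only [commutatorElement_def]; group
    rw [e] at he
    have h2 := fix_of_mem_centralizer (inv_mem ha) he.2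
    have e2 : a⁻¹ * (a * ⁅u, a⁻¹ * b⁆ * a⁻¹) * a⁻¹⁻¹ = ⁅u, a⁻¹ * b⁆ := by group
    rw [e2] at h2
    show ⁅u, a⁻¹ * b⁆ ∈ C
    rw [h2]
    exact he
  have h1 : B.relIndex A ≤ C.relIndex Y := Nat.card_le_card_of_injective f hf
  have hA : B.relIndex A * Nat.card B = Nat.card A := by
    have := relIndex_mul_card_inf A B
    rwa [inf_of_le_right (inf_le_left : B ≤ A)] at this
  have hY' : C.relIndex Y * Nat.card C = Nat.card Y := by
    have := relIndex_mul_card_inf Y C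
    rwa [inf_of_le_right (le_sup_right : C ≤ Y)] at this
  rw [offWeight, ← hC, ← hA, ← hY']
  calc B.relIndex A * Nat.card B * Nat.card C ≤ C.relIndex Y * Nat.card B * Nat.card C :=
        Nat.mul_le_mul_right _ (Nat.mul_le_mul_right _ h1)
    _ = _ := by ring

/-- `Y` is good: `|C_A(Y)| |Y| ≥ |A| |C_V(A)|`. -/
def IsGood (V A Y : Subgroup G) : Prop :=
  V ⊓ centralizer (A : Set G) ≤ Y ∧ Y ≤ V ∧
    offWeight V A ≤ Nat.card ↥(A ⊓ centralizer (Y : Set G)) * Nat.card Y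

theorem IsGood.spec [Finite G] {V A Y : Subgroup G} (h : IsGood V A Y)
    (hmax : ∀ B ≤ A, offWeight V B ≤ offWeight V A) :
    V ⊓ centralizer ((A ⊓ centralizer (Y : Set G) : Subgroup G) : Set G) = Y ∧
      Nat.card ↥(A ⊓ centralizer (Y : Set G)) * Nat.card Y = offWeight V A := by
  set B := A ⊓ centralizer (Y : Set G) with hB
  have hle : Y ≤ V ⊓ centralizer (B : Set G) :=
    le_inf h.2.1 (le_centralizer_iff.mp inf_le_right)
  have h1 : Nat.card B * Nat.card Y ≤ offWeight V B :=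
    Nat.mul_le_mul_left _ (card_le_of_le hle)
  have h2 := hmax B inf_le_left
  have h22 : offWeight V A ≤ Nat.card B * Nat.card Y := h.2.2
  have h3 : Nat.card B * Nat.card Y = offWeight V A := by omega
  refine ⟨(eq_of_le_of_card_ge hle ?_).symm, h3⟩
  have h4 : offWeight V B ≤ Nat.card B * Nat.card Y := by omega
  exact Nat.le_of_mul_le_mul_left h4 Nat.card_pos

theorem IsGood.sup [Finite G] {V A Y₁ Y₂ : Subgroup G} (h₁ : IsGood V A Y₁) (h₂ : IsGood V A Y₂)
    (hmax : ∀ B ≤ A, offWeight V B ≤ offWeight V A) : IsGood V A (Y₁ ⊔ Y₂) := by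
  refine ⟨h₁.1.trans le_sup_left, sup_le h₁.2.1 h₂.2.1, ?_⟩
  obtain ⟨e₁, m₁⟩ := h₁.spec hmax
  obtain ⟨e₂, m₂⟩ := h₂.spec hmax
  set B₁ := A ⊓ centralizer (Y₁ : Set G) with hB₁
  set B₂ := A ⊓ centralizer (Y₂ : Set G) with hB₂
  have hJ : V ⊓ centralizer ((B₁ ⊔ B₂ : Subgroup G) : Set G) = Y₁ ⊓ Y₂ := by
    have : centralizer ((B₁ ⊔ B₂ : Subgroup G) : Set G)
        = centralizer (B₁ : Set G) ⊓ centralizer (B₂ : Set G) :=
      le_antisymm (le_inf (centralizer_le (SetLike.coe_subset_coe.mpr le_sup_left))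
          (centralizer_le (SetLike.coe_subset_coe.mpr le_sup_right)))
        (le_centralizer_iff.mp (sup_le (le_centralizer_iff.mp inf_le_left)
          (le_centralizer_iff.mp inf_le_right)))
    rw [← e₁, ← e₂, this, inf_inf_inf_comm, inf_idem]
  have hI : B₁ ⊓ B₂ ≤ A ⊓ centralizer ((Y₁ ⊔ Y₂ : Subgroup G) : Set G) :=
    le_inf (inf_le_left.trans inf_le_left) (le_centralizer_iff.mp (sup_le
      (le_centralizer_iff.mp (inf_le_left.trans inf_le_right))
      (le_centralizer_iff.mp (inf_le_right.trans inf_le_right))))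
  have hJle := hmax (B₁ ⊔ B₂) (sup_le inf_le_left inf_le_left)
  rw [offWeight, hJ] at hJle
  have hB := card_mul_card_le B₁ B₂
  have hY := card_mul_card_le Y₁ Y₂
  set m := offWeight V A
  set I := Nat.card (B₁ ⊓ B₂ : Subgroup G)
  set S := Nat.card (Y₁ ⊔ Y₂ : Subgroup G)
  have hm : 0 < m := Nat.mul_pos Nat.card_pos Nat.card_pos
  have : m * m ≤ m * (I * S) := by
    calc m * m = (Nat.card B₁ * Nat.card B₂) * (Nat.card Y₁ * Nat.card Y₂) := by
          rw [← m₁]; nth_rewrite 2 [m₁]; rw [← m₂]; ring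
      _ ≤ (Nat.card (B₁ ⊔ B₂ : Subgroup G) * I) * (S * Nat.card (Y₁ ⊓ Y₂ : Subgroup G)) :=
          Nat.mul_le_mul hB hY
      _ = (Nat.card (B₁ ⊔ B₂ : Subgroup G) * Nat.card (Y₁ ⊓ Y₂ : Subgroup G)) * (I * S) := by ring
      _ ≤ m * (I * S) := Nat.mul_le_mul_right _ hJle
  exact (Nat.le_of_mul_le_mul_left this hm).trans (Nat.mul_le_mul_right _ (card_le_of_le hI))

/-- Thompson's replacement: if `A` maximises `|B| |C_V(B)|` among its subgroups, then
`B = C_A([U,A])` attains the maximum and `C_V(B) = [U,A] C_V(A)`. -/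
theorem replacement [Finite G] {V A U : Subgroup G} (hAV : A ≤ normalizer (V : Set G))
    (hVc : ∀ x ∈ V, ∀ y ∈ V, x * y = y * x) (hab : ⁅A, A⁆ ≤ centralizer (V : Set G))
    (hmax : ∀ B ≤ A, offWeight V B ≤ offWeight V A) (hU : U ≤ V) :
    V ⊓ centralizer ((A ⊓ centralizer ((⁅U, A⁆ : Subgroup G) : Set G) : Subgroup G) : Set G)
        = ⁅U, A⁆ ⊔ (V ⊓ centralizer (A : Set G)) ∧
      offWeight V (A ⊓ centralizer ((⁅U, A⁆ : Subgroup G) : Set G)) = offWeight V A := by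
  classical
  set C := V ⊓ centralizer (A : Set G) with hC
  set W := ⁅U, A⁆ ⊔ C with hW
  have hWV : W ≤ V := sup_le (commutator_le_of_le hAV hU) inf_le_left
  have hB : A ⊓ centralizer (W : Set G) = A ⊓ centralizer ((⁅U, A⁆ : Subgroup G) : Set G) := by
    refine le_antisymm (inf_le_inf_left A (centralizer_le (SetLike.coe_subset_coe.mpr le_sup_left)))
      (le_inf inf_le_left (le_centralizer_iff.mp (sup_le (le_centralizer_iff.mp inf_le_right) ?_)))
    exact inf_le_right.trans (centralizer_le (SetLike.coe_subset_coe.mpr inf_le_left))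
  have hbase : IsGood V A C := by
    refine ⟨le_rfl, inf_le_left, ?_⟩
    have : A ⊓ centralizer (C : Set G) = A := inf_eq_left.mpr (le_centralizer_iff.mp inf_le_right)
    rw [this, offWeight]
  suffices key : IsGood V A W by
    obtain ⟨e, m⟩ := key.spec hmax
    rw [hB] at e m
    refine ⟨e, ?_⟩
    rw [offWeight, e]
    exact m
  -- take a good subgroup of `W` that is as large as possible
  obtain ⟨Y, hCY, hmaxY⟩ := Finite.exists_le_maximal
    (p := fun Y : Subgroup G => IsGood V A Y ∧ Y ≤ W) ⟨hbase, le_sup_right⟩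
  obtain ⟨hYgood, hYW⟩ := hmaxY.prop
  suffices W ≤ Y by rwa [le_antisymm this hYW]
  refine sup_le (commutator_le.mpr fun u hu a ha => ?_) hCY
  obtain ⟨Y₁, hY₁C, hY₁e, hY₁⟩ := single_bound hAV hVc hab (hU hu)
  have hY₁W : Y₁ ≤ W := by
    rw [hY₁e]
    refine sup_le ((closure_le _).mpr ?_) le_sup_right
    rintro _ ⟨b, hb, rfl⟩
    exact mem_sup_left (commutator_mem_commutator hu hb)
  have hY₁good : IsGood V A Y₁ := ⟨hY₁C, hY₁W.trans hWV, hY₁⟩
  refine hmaxY.le_of_ge ⟨hYgood.sup hY₁good hmax, sup_le hYW hY₁W⟩ le_sup_left (mem_sup_right ?_)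
  rw [hY₁e]
  exact mem_sup_left (subset_closure ⟨a, ha, rfl⟩)

/-- A group acting on an abelian `p`-group `V` through an elementary abelian `p`-group cannot have
`V = [V,A] C_V(A)` unless the action is trivial. -/
theorem trivial_of_sup_eq [Finite G] {p : ℕ} [Fact p.Prime] {V A : Subgroup G}
    (hV : IsPGroup p V) (hAV : A ≤ normalizer (V : Set G))
    (hVc : ∀ x ∈ V, ∀ y ∈ V, x * y = y * x) (hab : ⁅A, A⁆ ≤ centralizer (V : Set G))
    (hpow : ∀ a ∈ A, a ^ p ∈ centralizer (V : Set G))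
    (h : ⁅V, A⁆ ⊔ (V ⊓ centralizer (A : Set G)) = V) : ⁅V, A⁆ = ⊥ := by
  set C := V ⊓ centralizer (A : Set G) with hC
  by_contra hne
  have hCV : C ≠ V := by
    intro e
    apply hne
    rw [commutator_eq_bot_iff_le_centralizer]
    exact e.ge.trans inf_le_right
  obtain ⟨W, hCW, hW⟩ := Finite.exists_le_maximal
    (p := fun W : Subgroup G => W ≤ V ∧ W ≠ V ∧ A ≤ normalizer (W : Set G))
    (a := C) ⟨inf_le_left, hCV, fun a ha => by
      rw [mem_normalizer_iff]
      refine fun x => ⟨fun hx => ?_, fun hx => ?_⟩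
      · rw [fix_of_mem_centralizer ha hx.2]; exact hx
      · have := fix_of_mem_centralizer (inv_mem ha) hx.2
        have e : a⁻¹ * (a * x * a⁻¹) * a⁻¹⁻¹ = x := by group
        rw [e] at this
        rwa [this]⟩
  obtain ⟨hWV, hWne, hWA⟩ := hW.prop
  suffices ⁅V, A⁆ ≤ W from hWne (le_antisymm hWV (h ▸ sup_le this hCW))
  refine commutator_le.mpr fun v hv a ha => ?_
  let Va : Subgroup G :=
    { carrier := {x | x ∈ V ∧ ⁅x, a⁆ ∈ W}
      one_mem' := ⟨one_mem V, by rw [commutatorElement_one_left]; exact one_mem W⟩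
      mul_mem' := fun {x y} hx hy => ⟨mul_mem hx.1 hy.1, by
        have e : ⁅x * y, a⁆ = x * ⁅y, a⁆ * x⁻¹ * ⁅x, a⁆ := by
          simp only [commutatorElement_def]; group
        rw [e, hVc x hx.1 _ (hWV hy.2), mul_inv_cancel_right]
        exact mul_mem hy.2 hx.2⟩
      inv_mem' := fun {x} hx => ⟨inv_mem hx.1, by
        have e : ⁅x⁻¹, a⁆ = x⁻¹ * ⁅x, a⁆⁻¹ * x := by simp only [commutatorElement_def]; group
        rw [e, hVc x⁻¹ (inv_mem hx.1) _ (inv_mem (hWV hx.2)), inv_mul_cancel_right]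
        exact inv_mem hx.2⟩ }
  have hWVa : W ≤ Va := by
    intro w hw
    refine ⟨hWV hw, ?_⟩
    have e : ⁅w, a⁆ = w * (a * w⁻¹ * a⁻¹) := by rw [commutatorElement_def]; group
    rw [e]
    exact mul_mem hw (conj_mem_of_le_normalizer hWA ha (inv_mem hw))
  -- `a` fixes a non-trivial coset of `W` in `V`
  set Q := V ⧸ W.subgroupOf V
  let σ : Equiv.Perm V :=
    { toFun := fun x => ⟨a * x * a⁻¹, conj_mem_of_le_normalizer hAV ha x.2⟩
      invFun := fun x => ⟨a⁻¹ * x * a, by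
        simpa using conj_mem_of_le_normalizer hAV (inv_mem ha) x.2⟩
      left_inv := fun x => Subtype.ext (by show a⁻¹ * (a * x * a⁻¹) * a = x; group)
      right_inv := fun x => Subtype.ext (by show a * (a⁻¹ * x * a) * a⁻¹ = x; group) }
  have hσ : ∀ x y : V, (QuotientGroup.leftRel (W.subgroupOf V)).r x y ↔
      (QuotientGroup.leftRel (W.subgroupOf V)).r (σ x) (σ y) := by
    intro x y
    rw [QuotientGroup.leftRel_apply, QuotientGroup.leftRel_apply, mem_subgroupOf, mem_subgroupOf]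
    have e : (((σ x)⁻¹ * σ y : V) : G) = a * ((x⁻¹ * y : V) : G) * a⁻¹ := by
      show (a * x * a⁻¹)⁻¹ * (a * y * a⁻¹) = a * ((x : G)⁻¹ * y) * a⁻¹
      group
    rw [e]
    exact (mem_normalizer_iff.mp (hWA ha) _)
  let τ : Equiv.Perm Q := Quotient.congr σ hσ
  have hτpow : ∀ (n : ℕ) (x : V), (τ ^ n) (QuotientGroup.mk x) = QuotientGroup.mk ((σ ^ n) x) := by
    intro n
    induction n with
    | zero => intro x; rfl
    | succ n ih => intro x; rw [pow_succ', pow_succ']; show τ ((τ ^ n) _) = _; rw [ih]; rfl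
  have hσpow : ∀ (n : ℕ) (x : V), (((σ ^ n) x : V) : G) = a ^ n * x * (a ^ n)⁻¹ := by
    intro n
    induction n with
    | zero => intro x; simp
    | succ n ih =>
      intro x
      rw [pow_succ', pow_succ']
      show a * (((σ ^ n) x : V) : G) * a⁻¹ = _
      rw [ih]; group
  have hτp : τ ^ p ^ 1 = 1 := by
    ext q
    obtain ⟨x, rfl⟩ := QuotientGroup.mk_surjective q
    rw [pow_one, hτpow]
    refine congrArg _ (Subtype.ext ?_)
    rw [hσpow, (mem_centralizer_iff.mp (hpow a ha) x x.2).symm, mul_inv_cancel_right]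
  haveI : Fintype Q := Fintype.ofFinite Q
  have hdvd : p ∣ Fintype.card Q := by
    rw [← Nat.card_eq_fintype_card]
    obtain ⟨k, hk⟩ := hV.index (W.subgroupOf V)
    have h1 : Nat.card Q = p ^ k := hk
    rw [h1]
    refine dvd_pow_self p ?_
    rintro rfl
    rw [pow_zero] at hk
    exact hWne (le_antisymm hWV (Subgroup.relIndex_eq_one.mp hk))
  obtain ⟨q, hq, hq1⟩ := Equiv.Perm.exists_fixed_point_of_prime' hdvd hτp
    (a := QuotientGroup.mk (1 : V)) (congrArg QuotientGroup.mk (Subtype.ext (show a * (1 : G) * a⁻¹ = 1 by group)))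
  obtain ⟨x, rfl⟩ := QuotientGroup.mk_surjective q
  have hxW : (x : G) ∉ W := fun hx => hq1 (QuotientGroup.eq.mpr (by
    rw [mem_subgroupOf]; simpa using inv_mem hx))
  have hxa : (x : G)⁻¹ * (a * x * a⁻¹) ∈ W := by
    have := QuotientGroup.eq.mp hq.symm
    rw [mem_subgroupOf] at this
    exact this
  have hxVa : (x : G) ∈ Va := by
    refine ⟨x.2, ?_⟩
    have hz : a * (x : G) * a⁻¹ ∈ V := conj_mem_of_le_normalizer hAV ha x.2
    have e : ⁅(x : G), a⁆ = ((x : G)⁻¹ * (a * x * a⁻¹))⁻¹ := by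
      rw [mul_inv_rev, inv_inv, hVc _ (inv_mem hz) _ x.2, commutatorElement_def]; group
    rw [e]
    exact inv_mem hxa
  have hVa : Va = V := by
    by_contra hVne
    refine hxW (hW.le_of_ge ⟨fun x (hx : x ∈ Va) => (show x ∈ V ∧ _ from hx).1, hVne, fun b hb => ?_⟩ hWVa hxVa)
    rw [mem_normalizer_iff]
    have key : ∀ b ∈ A, ∀ z ∈ Va, b * z * b⁻¹ ∈ Va := by
      intro b hb z hz
      refine ⟨conj_mem_of_le_normalizer hAV hb hz.1, ?_⟩
      have e : ⁅b * z * b⁻¹, a⁆ = b * ⁅z, a⁆ * b⁻¹ := by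
        have := conj_conj_comm hAV hab ha hb (inv_mem hz.1)
        calc ⁅b * z * b⁻¹, a⁆ = b * z * b⁻¹ * (a * (b * z⁻¹ * b⁻¹) * a⁻¹) := by
              simp only [commutatorElement_def]; group
          _ = b * z * b⁻¹ * (b * (a * z⁻¹ * a⁻¹) * b⁻¹) := by rw [this]
          _ = _ := by simp only [commutatorElement_def]; group
      rw [e]
      exact conj_mem_of_le_normalizer hWA hb hz.2
    refine fun z => ⟨key b hb z, fun hz => ?_⟩
    simpa [mul_assoc] using key b⁻¹ (inv_mem hb) _ hz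
  exact ((show v ∈ Va from hVa.symm ▸ hv).2)

end Cfsg.Agent.H31
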