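import Cfsg.Agent.H31.Offender
import Cfsg.Agent.Thompson.SL2
import Cfsg.Agent.Thompson.Jay
import Cfsg.Prelude.Def_PLocal

/-!
Transvections on an elementary abelian `p`-subgroup `V`, and the plane of two of them which do not
generate a `p`-group.
-/

set_option autoImplicit false

namespace Cfsg.Agent.H31.FF

open Subgroup
open scoped Pointwise commutatorElement

variable {G : Type*} [Group G]

/-! ### Generalities -/

theorem card_sup_mul_card_inf [Finite G] {A B : Subgroup G} (h : B ≤ normalizer (A : Set G)) :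
    Nat.card (A ⊔ B : Subgroup G) * Nat.card (A ⊓ B : Subgroup G) = Nat.card A * Nat.card B := by
  have h1 := relIndex_mul_card_inf B A
  have h2 := relIndex_mul_card_inf (A ⊔ B) A
  rw [inf_of_le_right (le_sup_left : A ≤ A ⊔ B)] at h2
  have h3 : A.relIndex (A ⊔ B) = A.relIndex B := by
    refine le_antisymm ?_ (Subgroup.relIndex_le_of_le_right le_sup_right
      Subgroup.index_ne_zero_of_finite)
    set f := Subgroup.quotientSubgroupOfEmbeddingOfLE A (le_sup_right : B ≤ A ⊔ B) with hf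
    refine Nat.card_le_card_of_surjective f ?_
    intro q
    obtain ⟨g, rfl⟩ := QuotientGroup.mk_surjective q
    have hg : (g : G) ∈ (B : Set G) * (A : Set G) := by
      rw [← Subgroup.coe_mul_of_left_le_normalizer_right B A h, sup_comm]; exact g.2
    obtain ⟨b, hb, a, ha, e⟩ := hg
    refine ⟨QuotientGroup.mk ⟨b, hb⟩, ?_⟩
    rw [hf, Subgroup.quotientSubgroupOfEmbeddingOfLE_apply_mk, QuotientGroup.eq,
      Subgroup.mem_subgroupOf]
    show b⁻¹ * (g : G) ∈ A
    rw [← e]; simpa using ha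
  rw [inf_comm A B, ← h2, h3, ← h1]
  ring

theorem eq_of_lt_of_card_mul [Finite G] {p : ℕ} [hp : Fact p.Prime] {B C A : Subgroup G}
    (hBC : B < C) (hCA : C ≤ A) (hcard : Nat.card A = p * Nat.card B) : C = A := by
  obtain ⟨m, hm⟩ := Subgroup.card_dvd_of_le hBC.le
  obtain ⟨l, hl⟩ := Subgroup.card_dvd_of_le hCA
  have hB : 0 < Nat.card B := Nat.card_pos
  have hml : m * l = p := by
    refine Nat.eq_of_mul_eq_mul_left hB ?_
    rw [← mul_assoc, ← hm, ← hl, hcard, mul_comm]
  have hm1 : m ≠ 1 := fun e => hBC.ne (Subgroup.eq_of_le_of_card_ge hBC.le (by rw [hm, e, mul_one]))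
  have hl1 : l = 1 := by
    rcases (Nat.dvd_prime hp.out).mp ⟨l, hml.symm⟩ with e | e
    · exact absurd e hm1
    · exact Nat.eq_of_mul_eq_mul_left hp.out.pos (by rw [mul_one]; exact e ▸ hml)
  exact Subgroup.eq_of_le_of_card_ge hCA (by rw [hl, hl1, mul_one])

/-- `δ a v = a v a⁻¹ v⁻¹`. -/
def del (a v : G) : G := a * v * a⁻¹ * v⁻¹

theorem conj_eq_del_mul (a v : G) : a * v * a⁻¹ = del a v * v := by
  rw [del, inv_mul_cancel_right]

/-- Elements acting trivially on `V / W`. -/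
def modStab (V W : Subgroup G) : Subgroup G where
  carrier := {x | x ∈ normalizer (V : Set G) ∧ x ∈ normalizer (W : Set G) ∧ ∀ v ∈ V, del x v ∈ W}
  one_mem' := ⟨one_mem _, one_mem _, fun v _ => by simp [del]⟩
  mul_mem' := fun {x y} hx hy => ⟨mul_mem hx.1 hy.1, mul_mem hx.2.1 hy.2.1, fun v hv => by
    have e : del (x * y) v = x * del y v * x⁻¹ * del x v := by simp only [del]; group
    rw [e]
    exact mul_mem ((mem_normalizer_iff.mp hx.2.1 _).mp (hy.2.2 v hv)) (hx.2.2 v hv)⟩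
  inv_mem' := fun {x} hx => ⟨inv_mem hx.1, inv_mem hx.2.1, fun v hv => by
    have hu : x⁻¹ * v * x ∈ V := by
      simpa using (mem_normalizer_iff.mp (inv_mem hx.1) v).mp hv
    have h1 := inv_mem (hx.2.2 _ hu)
    have e : (del x (x⁻¹ * v * x))⁻¹ = del x⁻¹ v := by simp only [del]; group
    rwa [e] at h1⟩

theorem mem_modStab {V W : Subgroup G} {x : G} : x ∈ modStab V W ↔
    x ∈ normalizer (V : Set G) ∧ x ∈ normalizer (W : Set G) ∧ ∀ v ∈ V, del x v ∈ W := Iff.rfl

theorem mem_centralizer_sup_iff {A B : Subgroup G} {x : G} :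
    x ∈ centralizer ((A ⊔ B : Subgroup G) : Set G) ↔
      x ∈ centralizer (A : Set G) ∧ x ∈ centralizer (B : Set G) := by
  constructor
  · exact fun h => ⟨centralizer_le (SetLike.coe_subset_coe.mpr le_sup_left) h,
      centralizer_le (SetLike.coe_subset_coe.mpr le_sup_right) h⟩
  · rintro ⟨h1, h2⟩
    have h3 : zpowers x ≤ centralizer ((A ⊔ B : Subgroup G) : Set G) :=
      le_centralizer_iff.mp (sup_le (le_centralizer_iff.mp (zpowers_le.mpr h1))
        (le_centralizer_iff.mp (zpowers_le.mpr h2)))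
    exact h3 (mem_zpowers x)

theorem conj_pow_of_stab {V W : Subgroup G} {x : G} (hx : x ∈ modStab V W)
    (hW : x ∈ centralizer (W : Set G)) {v : G} (hv : v ∈ V) :
    ∀ n : ℕ, x ^ n * v * (x ^ n)⁻¹ = del x v ^ n * v
  | 0 => by simp
  | n + 1 => by
    have hw : del x v ^ n ∈ W := pow_mem ((mem_modStab.mp hx).2.2 v hv) n
    have hwn : x * del x v ^ n * x⁻¹ = del x v ^ n := by
      rw [← mem_centralizer_iff.mp hW _ hw, mul_inv_cancel_right]
    calc x ^ (n + 1) * v * (x ^ (n + 1))⁻¹ = x * (x ^ n * v * (x ^ n)⁻¹) * x⁻¹ := by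
          rw [pow_succ']; group
      _ = x * (del x v ^ n * v) * x⁻¹ := by rw [conj_pow_of_stab hx hW hv n]
      _ = (x * del x v ^ n * x⁻¹) * del x v * v := by simp only [del]; group
      _ = del x v ^ (n + 1) * v := by rw [hwn, pow_succ]

theorem pow_mem_centralizer {V W : Subgroup G} {x : G} {n : ℕ} (hx : x ∈ modStab V W)
    (hW : x ∈ centralizer (W : Set G)) (hWn : ∀ w ∈ W, w ^ n = 1) :
    x ^ n ∈ centralizer (V : Set G) := by
  refine mem_centralizer_iff.mpr fun v hv => ?_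
  have h1 := conj_pow_of_stab hx hW hv n
  rw [hWn _ ((mem_modStab.mp hx).2.2 v hv), one_mul] at h1
  calc v * x ^ n = (x ^ n * v * (x ^ n)⁻¹) * x ^ n := by rw [h1]
    _ = x ^ n * v := by group

variable {p : ℕ} {V H : Subgroup G}

/-- The faithful setting. -/
structure Faith (p : ℕ) (V H : Subgroup G) : Prop where
  hV : Cfsg.IsElementaryAbelian p V
  hHV : H ≤ normalizer (V : Set G)
  hf : H ⊓ centralizer (V : Set G) = ⊥

theorem Faith.comm (h : Faith p V H) {x y : G} (hx : x ∈ V) (hy : y ∈ V) : x * y = y * x := by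
  haveI := h.hV.1
  exact congrArg Subtype.val (mul_comm' (⟨x, hx⟩ : V) ⟨y, hy⟩)

theorem Faith.pow_eq (h : Faith p V H) {x : G} (hx : x ∈ V) : x ^ p = 1 := h.hV.2 x hx

theorem Faith.isPGroup (h : Faith p V H) : IsPGroup p V :=
  fun x => ⟨1, by rw [pow_one]; exact Subtype.ext (h.pow_eq x.2)⟩

theorem Faith.eq_one (h : Faith p V H) {g : G} (hg : g ∈ H) (hc : g ∈ centralizer (V : Set G)) :
    g = 1 := by
  have h1 : g ∈ H ⊓ centralizer (V : Set G) := ⟨hg, hc⟩
  rwa [h.hf, mem_bot] at h1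

theorem Faith.del_mem (h : Faith p V H) {a v : G} (ha : a ∈ H) (hv : v ∈ V) : del a v ∈ V :=
  mul_mem ((mem_normalizer_iff.mp (h.hHV ha) v).mp hv) (inv_mem hv)

theorem Faith.del_mul (h : Faith p V H) {a v w : G} (ha : a ∈ H) (hv : v ∈ V) (hw : w ∈ V) :
    del a (v * w) = del a v * del a w := by
  have h1 := h.del_mem ha hw
  calc del a (v * w) = (a * v * a⁻¹) * del a w * v⁻¹ := by simp only [del]; group
    _ = del a v * (v * del a w * v⁻¹) := by simp only [del]; group
    _ = del a v * del a w := by rw [h.comm hv h1, mul_inv_cancel_right]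

/-- `x ↦ [a, x]` on `V`, with values in `V`. -/
def Faith.delHom (h : Faith p V H) (a : G) (ha : a ∈ H) : V →* V where
  toFun v := ⟨del a v, h.del_mem ha v.2⟩
  map_one' := Subtype.ext (by simp [del])
  map_mul' v w := Subtype.ext (h.del_mul ha v.2 w.2)

theorem Faith.del_pow (h : Faith p V H) {a v : G} (ha : a ∈ H) (hv : v ∈ V) (n : ℕ) :
    del a (v ^ n) = del a v ^ n :=
  (congrArg Subtype.val (map_pow (h.delHom a ha) ⟨v, hv⟩ n) :)

/-- The fixed points of `a` in `V`. -/
abbrev ax (V : Subgroup G) (a : G) : Subgroup G := V ⊓ centralizer ({a} : Set G)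

theorem centralizer_zpowers_eq (a : G) :
    centralizer ((zpowers a : Subgroup G) : Set G) = centralizer ({a} : Set G) := by
  rw [zpowers_eq_closure, centralizer_closure]

theorem mem_ax_iff {a v : G} : v ∈ ax V a ↔ v ∈ V ∧ del a v = 1 := by
  refine and_congr_right fun _ => ?_
  show v ∈ centralizer ({a} : Set G) ↔ _
  rw [mem_centralizer_singleton_iff, del, mul_inv_eq_one, mul_inv_eq_iff_eq_mul]
  exact eq_comm

theorem mem_ax_of_comm {a v : G} (hv : v ∈ V) (h : a * v * a⁻¹ = v) : v ∈ ax V a :=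
  mem_ax_iff.mpr ⟨hv, by rw [del, h, mul_inv_cancel]⟩

theorem conj_of_mem_ax {a v : G} (hv : v ∈ ax V a) : a * v * a⁻¹ = v := by
  have h := (mem_ax_iff.mp hv).2
  rw [conj_eq_del_mul, h, one_mul]

/-- A transvection of `V` in `H`. -/
def IsTv (p : ℕ) (V H : Subgroup G) (a : G) : Prop :=
  a ∈ H ∧ orderOf a = p ∧ (ax V a).relIndex V = p

theorem IsTv.mem {a : G} (h : IsTv p V H a) : a ∈ H := h.1

theorem IsTv.conj {a : G} (h : IsTv p V H a) (hs : Faith p V H) {x : G} (hx : x ∈ H) :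
    IsTv p V H (x * a * x⁻¹) := by
  refine ⟨mul_mem (mul_mem hx h.mem) (inv_mem hx), ?_, ?_⟩
  · exact ((MulAut.conj x).orderOf_eq a).trans h.2.1
  · have e : (ax V a).map (MulAut.conj x).toMonoidHom = ax V (x * a * x⁻¹) := by
      ext v
      constructor
      · rintro ⟨w, hw, rfl⟩
        refine mem_ax_of_comm ((mem_normalizer_iff.mp (hs.hHV hx) w).mp hw.1) ?_
        show x * a * x⁻¹ * (x * w * x⁻¹) * (x * a * x⁻¹)⁻¹ = x * w * x⁻¹
        calc _ = x * (a * w * a⁻¹) * x⁻¹ := by group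
          _ = _ := by rw [conj_of_mem_ax hw]
      · intro hv
        refine ⟨x⁻¹ * v * x, mem_ax_of_comm ?_ ?_, by simp [mul_assoc]⟩
        · simpa using (mem_normalizer_iff.mp (hs.hHV (inv_mem hx)) v).mp hv.1
        · calc a * (x⁻¹ * v * x) * a⁻¹ = x⁻¹ * (x * a * x⁻¹ * v * (x * a * x⁻¹)⁻¹) * x := by group
            _ = _ := by rw [conj_of_mem_ax hv]
    have eV : V.map (MulAut.conj x).toMonoidHom = V := by
      refine le_antisymm ?_ fun v hv => ⟨x⁻¹ * v * x, ?_, by simp [mul_assoc]⟩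
      · rintro _ ⟨v, hv, rfl⟩
        exact (mem_normalizer_iff.mp (hs.hHV hx) v).mp hv
      · simpa using (mem_normalizer_iff.mp (hs.hHV (inv_mem hx)) v).mp hv
    have h1 := Subgroup.relIndex_map_map_of_injective (ax V a) V
      (f := (MulAut.conj x).toMonoidHom) (MulAut.conj x).injective
    rw [e, eV] at h1
    exact h1.trans h.2.2

section Prime

variable [Finite G] [Fact p.Prime]

theorem Faith.orderOf_eq_of_ne_one (h : Faith p V H) {v : G} (hv : v ∈ V) (hne : v ≠ 1) :
    orderOf v = p :=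
  orderOf_eq_prime (h.pow_eq hv) hne

/-- The basic facts on a transvection. -/
theorem IsTv.spec {a : G} (h : IsTv p V H a) (hs : Faith p V H) {s : G} (hs' : s ∈ V)
    (hsA : s ∉ ax V a) :
    del a s ∈ ax V a ∧ del a s ≠ 1 ∧ ⁅V, zpowers a⁆ = zpowers (del a s) ∧
      ∀ v ∈ V, ∃ i : ℕ, v * (s ^ i)⁻¹ ∈ ax V a ∧ del a v = del a s ^ i := by
  set P := ax V a with hP
  set t := del a s with ht
  have ht1 : t ≠ 1 := fun e => hsA (mem_ax_iff.mpr ⟨hs', e⟩)
  have htV : t ∈ V := hs.del_mem h.mem hs'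
  have hgen : P ⊔ zpowers s = V := by
    refine eq_of_lt_of_card_mul (p := p) (left_lt_sup.mpr fun h' => hsA (h' (mem_zpowers s)))
      (sup_le inf_le_left (zpowers_le.mpr hs')) ?_
    have h1 := relIndex_mul_card_inf V P
    rw [inf_of_le_right (inf_le_left : P ≤ V), h.2.2] at h1
    exact h1.symm
  have hdec : ∀ v ∈ V, ∃ i : ℕ, v * (s ^ i)⁻¹ ∈ P ∧ del a v = t ^ i := by
    intro v hv
    have hv' : v ∈ (P : Set G) * (zpowers s : Set G) := by
      rw [← Subgroup.coe_mul_of_right_le_normalizer_left P (zpowers s), hgen]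
      · exact hv
      · refine (zpowers_le.mpr (centralizer_le_normalizer _ ?_))
        exact mem_centralizer_iff.mpr fun c hc => hs.comm hc.1 hs'
    obtain ⟨c, hc, w, hw, rfl⟩ := hv'
    obtain ⟨i, rfl⟩ := mem_powers_iff_mem_zpowers.mpr hw
    refine ⟨i, by simpa using hc, ?_⟩
    show del a (c * s ^ i) = t ^ i
    rw [hs.del_mul h.mem hc.1 (pow_mem hs' i), (mem_ax_iff.mp hc).2, one_mul, hs.del_pow h.mem hs']
  have hgena : a ∈ modStab V (zpowers t) := by
    refine mem_modStab.mpr ⟨hs.hHV h.mem, ?_, fun v hv => ?_⟩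
    · refine Thompson.mem_normalizer_of_map_conj (Subgroup.eq_of_le_of_card_ge ?_
        (le_of_eq (Subgroup.card_map_of_injective (MulAut.conj a).injective).symm))
      rintro _ ⟨w, hw, rfl⟩
      have hwV : w ∈ V := zpowers_le.mpr htV hw
      obtain ⟨i, -, hi⟩ := hdec w hwV
      show a * w * a⁻¹ ∈ zpowers t
      rw [conj_eq_del_mul, hi]
      exact mul_mem (pow_mem (mem_zpowers t) i) hw
    · obtain ⟨i, -, hi⟩ := hdec v hv
      rw [hi]; exact pow_mem (mem_zpowers t) i
  have hcomm : ⁅V, zpowers a⁆ = zpowers t := by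
    refine le_antisymm (commutator_le.mpr fun v hv b hb => ?_) (zpowers_le.mpr ?_)
    · have h1 := inv_mem ((mem_modStab.mp (zpowers_le.mpr hgena hb)).2.2 v hv)
      have e : (del b v)⁻¹ = ⁅v, b⁆ := by simp only [del, commutatorElement_def]; group
      rwa [e] at h1
    · have h1 := inv_mem (commutator_mem_commutator hs' (mem_zpowers a))
      have e : (⁅s, a⁆)⁻¹ = t := by simp only [ht, del, commutatorElement_def]; group
      rwa [e] at h1
  refine ⟨?_, ht1, hcomm, hdec⟩
  by_contra hcon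
  have hVA : (zpowers a : Subgroup G) ≤ normalizer (V : Set G) := zpowers_le.mpr (hs.hHV h.mem)
  have h0 := trivial_of_sup_eq hs.isPGroup hVA (fun x hx y hy => hs.comm hx hy)
    (by
      have : ⁅zpowers a, zpowers a⁆ = ⊥ := by
        rw [commutator_eq_bot_iff_le_centralizer, centralizer_zpowers_eq, zpowers_le,
          mem_centralizer_singleton_iff]
      rw [this]; exact bot_le)
    (fun b hb => by
      obtain ⟨i, rfl⟩ := mem_zpowers_iff.mp hb
      have : (a ^ i) ^ p = 1 := by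
        rw [← zpow_natCast, zpow_comm, zpow_natCast, ← h.2.1, pow_orderOf_eq_one, one_zpow]
      rw [this]; exact one_mem _)
    (by
      rw [hcomm, centralizer_zpowers_eq]
      refine eq_of_lt_of_card_mul (p := p) (B := P) (right_lt_sup.mpr fun h' => hcon (h' (mem_zpowers t)))
        (sup_le (zpowers_le.mpr htV) inf_le_left) ?_
      have h1 := relIndex_mul_card_inf V P
      rw [inf_of_le_right (inf_le_left : P ≤ V), h.2.2] at h1
      exact h1.symm)
  rw [hcomm, zpowers_eq_bot] at h0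
  exact ht1 h0

theorem IsTv.exists_not_mem {a : G} (h : IsTv p V H a) : ∃ s ∈ V, s ∉ ax V a := by
  by_contra hcon
  push Not at hcon
  have h1 : (ax V a).relIndex V = 1 := Subgroup.relIndex_eq_one.mpr fun v hv => hcon v hv
  rw [h.2.2] at h1
  exact (Fact.out : p.Prime).ne_one h1

theorem IsTv.commutator_le_ax {a : G} (h : IsTv p V H a) (hs : Faith p V H) :
    ⁅V, zpowers a⁆ ≤ ax V a := by
  obtain ⟨s, hs', hsA⟩ := h.exists_not_mem
  obtain ⟨h1, -, h3, -⟩ := h.spec hs hs' hsA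
  rw [h3, zpowers_le]; exact h1

theorem IsTv.del_mem_commutator {a v : G} (hv : v ∈ V) : del a v ∈ ⁅V, zpowers a⁆ := by
  have h1 := inv_mem (commutator_mem_commutator hv (mem_zpowers a))
  have e : (⁅v, a⁆)⁻¹ = del a v := by simp only [del, commutatorElement_def]; group
  rwa [e] at h1

/-- `a` normalizes every subgroup of `V` containing `[V,a]`. -/
theorem mem_modStab_of_le {a : G} (haV : a ∈ normalizer (V : Set G)) {W : Subgroup G} (hWV : W ≤ V)
    (hle : ⁅V, zpowers a⁆ ≤ W) : a ∈ modStab V W := by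
  refine mem_modStab.mpr ⟨haV, ?_, fun v hv => hle (IsTv.del_mem_commutator hv)⟩
  refine Thompson.mem_normalizer_of_map_conj (Subgroup.eq_of_le_of_card_ge ?_
    (le_of_eq (Subgroup.card_map_of_injective (MulAut.conj a).injective).symm))
  rintro _ ⟨w, hw, rfl⟩
  show a * w * a⁻¹ ∈ W
  rw [conj_eq_del_mul]
  exact mul_mem (hle (IsTv.del_mem_commutator (hWV hw))) hw

/-- If the centre of `a` lies in the axis of `b`, then `⟨a, b⟩` is a `p`-group. -/
theorem isPGroup_of_center_mem {a b : G} (ha : IsTv p V H a) (hb : IsTv p V H b)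
    (hs : Faith p V H) (hle : ⁅V, zpowers a⁆ ≤ ax V b) :
    IsPGroup p (zpowers a ⊔ zpowers b : Subgroup G) := by
  set T := ⁅V, zpowers a⁆ with hT
  set U := ⁅V, zpowers b⁆ with hU
  have hTV : T ≤ V := (ha.commutator_le_ax hs).trans inf_le_left
  have hUV : U ≤ V := (hb.commutator_le_ax hs).trans inf_le_left
  set W := T ⊔ U with hW
  have hWV : W ≤ V := sup_le hTV hUV
  have h1 : zpowers a ⊔ zpowers b ≤ modStab V W ⊓ modStab W T ⊓ centralizer (T : Set G) := by
    refine sup_le (zpowers_le.mpr ?_) (zpowers_le.mpr ?_)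
    · have h2 : a ∈ modStab V W := mem_modStab_of_le (hs.hHV ha.mem) hWV le_sup_left
      refine ⟨⟨h2, mem_modStab.mpr ⟨(mem_modStab.mp h2).2.1,
        (mem_modStab.mp (mem_modStab_of_le (hs.hHV ha.mem) hTV le_rfl)).2.1,
        fun w hw => IsTv.del_mem_commutator (hWV hw)⟩⟩, ?_⟩
      exact mem_centralizer_iff.mpr fun t ht =>
        (mem_centralizer_singleton_iff.mp (ha.commutator_le_ax hs ht).2)
    · have h2 : b ∈ modStab V W := mem_modStab_of_le (hs.hHV hb.mem) hWV le_sup_right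
      have h3 : b ∈ centralizer (T : Set G) := mem_centralizer_iff.mpr fun t ht =>
        mem_centralizer_singleton_iff.mp (hle ht).2
      have h4 : b ∈ centralizer (U : Set G) := mem_centralizer_iff.mpr fun t ht =>
        mem_centralizer_singleton_iff.mp (hb.commutator_le_ax hs ht).2
      have h5 : b ∈ centralizer (W : Set G) := mem_centralizer_sup_iff.mpr ⟨h3, h4⟩
      refine ⟨⟨h2, mem_modStab.mpr ⟨(mem_modStab.mp h2).2.1, centralizer_le_normalizer _ h3,
        fun w hw => ?_⟩⟩, h3⟩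
      rw [del, ← mem_centralizer_iff.mp h5 w hw, mul_inv_cancel_right, mul_inv_cancel]
      exact one_mem T
  intro g
  refine ⟨2, Subtype.ext ?_⟩
  obtain ⟨⟨hg1, hg2⟩, hg3⟩ := h1 g.2
  have h6 : (g : G) ^ p ∈ centralizer (W : Set G) :=
    pow_mem_centralizer hg2 hg3 fun t ht => hs.pow_eq (hTV ht)
  have h7 : ((g : G) ^ p) ^ p ∈ centralizer (V : Set G) :=
    pow_mem_centralizer (pow_mem hg1 p) h6 fun w hw => hs.pow_eq (hWV hw)
  have hgH : (g : G) ∈ H := sup_le (zpowers_le.mpr ha.mem) (zpowers_le.mpr hb.mem) g.2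
  rw [SubgroupClass.coe_pow, OneMemClass.coe_one, pow_two, pow_mul]
  exact hs.eq_one (pow_mem (pow_mem hgH p) p) h7

end Prime

/-! ### Two transvections not generating a `p`-group -/

/-- Coordinates with respect to `t, u`. -/
def plEval (t u : G) (x : Fin 2 → ZMod p) : G := t ^ (x 0).val * u ^ (x 1).val

theorem pow_val_add [Fact p.Prime] {t : G} (ht : t ^ p = 1) (x y : ZMod p) :
    t ^ (x + y).val = t ^ x.val * t ^ y.val := by
  rw [← pow_add, ZMod.val_add]
  conv_rhs => rw [← Nat.mod_add_div (x.val + y.val) p, pow_add, pow_mul, ht, one_pow, mul_one]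

/-- The data of a plane. -/
structure Plane (p : ℕ) (V H : Subgroup G) (a b t u : G) : Prop where
  ha : IsTv p V H a
  hb : IsTv p V H b
  htV : t ∈ V
  huV : u ∈ V
  htP : t ∈ ax V a
  huQ : u ∈ ax V b
  hVa : ⁅V, zpowers a⁆ = zpowers t
  hVb : ⁅V, zpowers b⁆ = zpowers u
  hau : a * u * a⁻¹ = t * u
  htQ : t ∉ ax V b
  huP : u ∉ ax V a

theorem exists_plane [Finite G] [Fact p.Prime] (hs : Faith p V H) {a b : G} (ha : IsTv p V H a)
    (hb : IsTv p V H b) (hnp : ¬ IsPGroup p (zpowers a ⊔ zpowers b : Subgroup G)) :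
    ∃ t u : G, Plane p V H a b t u := by
  obtain ⟨s', hs'1, hs'2⟩ := hb.exists_not_mem
  obtain ⟨hu1, hu2, hu3, -⟩ := hb.spec hs hs'1 hs'2
  set u := del b s' with hu
  have huV : u ∈ V := hu1.1
  have huP : u ∉ ax V a := fun h => hnp (by
    rw [sup_comm]
    exact isPGroup_of_center_mem hb ha hs (by rw [hu3]; exact zpowers_le.mpr h))
  obtain ⟨ht1, ht2, ht3, -⟩ := ha.spec hs huV huP
  refine ⟨del a u, u, ha, hb, ht1.1, huV, ht1, hu1, ht3, hu3, conj_eq_del_mul a u, fun h => ?_, huP⟩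
  exact hnp (isPGroup_of_center_mem ha hb hs (by rw [ht3]; exact zpowers_le.mpr h))

namespace Plane

variable {a b t u : G}

/-- The plane. -/
abbrev W (_h : Plane p V H a b t u) : Subgroup G := zpowers t ⊔ zpowers u

/-- The common fixed points. -/
abbrev C (_h : Plane p V H a b t u) : Subgroup G := ax V a ⊓ ax V b

variable [Finite G] [Fact p.Prime]

theorem W_le (h : Plane p V H a b t u) : h.W ≤ V :=
  sup_le (zpowers_le.mpr h.htV) (zpowers_le.mpr h.huV)

theorem eval_mem (h : Plane p V H a b t u) (x : Fin 2 → ZMod p) : plEval t u x ∈ h.W :=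
  mul_mem (mem_sup_left (pow_mem (mem_zpowers t) _)) (mem_sup_right (pow_mem (mem_zpowers u) _))

theorem eval_add (h : Plane p V H a b t u) (hs : Faith p V H) (x y : Fin 2 → ZMod p) :
    plEval t u (x + y) = plEval t u x * plEval t u y := by
  rw [plEval, plEval, plEval, Pi.add_apply, Pi.add_apply, pow_val_add (hs.pow_eq h.htV),
    pow_val_add (hs.pow_eq h.huV)]
  have := hs.comm (pow_mem h.huV (x 1).val) (pow_mem h.htV (y 0).val)
  calc t ^ (x 0).val * t ^ (y 0).val * (u ^ (x 1).val * u ^ (y 1).val)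
      = t ^ (x 0).val * (t ^ (y 0).val * u ^ (x 1).val) * u ^ (y 1).val := by group
    _ = t ^ (x 0).val * (u ^ (x 1).val * t ^ (y 0).val) * u ^ (y 1).val := by rw [this]
    _ = _ := by group

theorem eval_zero : plEval t u (0 : Fin 2 → ZMod p) = 1 := by simp [plEval]

theorem ne_one_t (h : Plane p V H a b t u) : t ≠ 1 := fun e => h.htQ (e ▸ one_mem _)

theorem ne_one_u (h : Plane p V H a b t u) : u ≠ 1 := fun e => h.huP (e ▸ one_mem _)

theorem eval_mem_C_imp (h : Plane p V H a b t u) (hs : Faith p V H) {x : Fin 2 → ZMod p}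
    (hx : plEval t u x ∈ h.C) : x = 0 := by
  have key : ∀ {w : G} {S : Subgroup G}, w ∈ V → w ∉ S → ∀ z : ZMod p, w ^ z.val ∈ S → z = 0 := by
    intro w S hw hwS z hz
    by_contra hne
    refine hwS ?_
    have hzv : z.val ≠ 0 := fun e => hne ((ZMod.val_eq_zero z).mp e)
    have hord : orderOf w = p := hs.orderOf_eq_of_ne_one hw fun e => hwS (e ▸ one_mem S)
    have hcop : z.val.Coprime (orderOf w) := by
      rw [hord]
      exact ((Nat.Prime.coprime_iff_not_dvd Fact.out).mpr fun hd =>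
        absurd (Nat.le_of_dvd (Nat.pos_of_ne_zero hzv) hd) (not_le.mpr (ZMod.val_lt z))).symm
    obtain ⟨k, hk⟩ := exists_pow_eq_self_of_coprime hcop
    rw [← hk]; exact pow_mem hz k
  have h1 : x 1 = 0 := key h.huV h.huP _ (by
    simpa [plEval] using mul_mem (inv_mem (pow_mem h.htP (x 0).val)) hx.1)
  have h0 : x 0 = 0 := key h.htV h.htQ _ (by
    have := hx.2
    rwa [plEval, h1, ZMod.val_zero, pow_zero, mul_one] at this)
  ext i; fin_cases i <;> assumption

theorem eval_injective (h : Plane p V H a b t u) (hs : Faith p V H) :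
    Function.Injective (plEval (p := p) t u) := by
  intro x y he
  have h1 : plEval t u (x - y) = 1 := by
    have h2 := h.eval_add hs (x - y) y
    rw [sub_add_cancel, he] at h2
    exact (mul_eq_right).mp h2.symm
  exact sub_eq_zero.mp (h.eval_mem_C_imp hs (by rw [h1]; exact one_mem _))

theorem exists_eval (h : Plane p V H a b t u) (hs : Faith p V H) {w : G} (hw : w ∈ h.W) :
    ∃ x : Fin 2 → ZMod p, plEval t u x = w := by
  have hw' : w ∈ (zpowers t : Set G) * (zpowers u : Set G) := by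
    rw [← Subgroup.coe_mul_of_right_le_normalizer_left]
    · exact hw
    · refine zpowers_le.mpr (centralizer_le_normalizer _ (mem_centralizer_iff.mpr fun c hc => ?_))
      exact hs.comm (zpowers_le.mpr h.htV hc) h.huV
  obtain ⟨c, hc, d, hd, rfl⟩ := hw'
  obtain ⟨i, rfl⟩ := mem_powers_iff_mem_zpowers.mpr hc
  obtain ⟨j, rfl⟩ := mem_powers_iff_mem_zpowers.mpr hd
  refine ⟨![(i : ZMod p), (j : ZMod p)], ?_⟩
  simp only [plEval, Matrix.cons_val_zero, Matrix.cons_val_one, ZMod.val_natCast]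
  rw [← pow_eq_pow_mod i (hs.pow_eq h.htV), ← pow_eq_pow_mod j (hs.pow_eq h.huV)]

theorem W_inf_C (h : Plane p V H a b t u) (hs : Faith p V H) : h.W ⊓ h.C = ⊥ := by
  refine (eq_bot_iff_forall _).mpr fun w hw => ?_
  obtain ⟨x, rfl⟩ := h.exists_eval hs hw.1
  rw [h.eval_mem_C_imp hs hw.2, eval_zero]

theorem card_W (h : Plane p V H a b t u) (hs : Faith p V H) : Nat.card h.W = p ^ 2 := by
  have : Nat.card (Fin 2 → ZMod p) = Nat.card h.W :=
    Nat.card_eq_of_bijective (fun x => ⟨plEval t u x, h.eval_mem x⟩)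
      ⟨fun x y e => h.eval_injective hs (congrArg Subtype.val e), fun w => by
        obtain ⟨x, hx⟩ := h.exists_eval hs w.2
        exact ⟨x, Subtype.ext hx⟩⟩
  rw [← this, Nat.card_eq_fintype_card, Fintype.card_fun, ZMod.card, Fintype.card_fin]

theorem sup_eq (h : Plane p V H a b t u) (hs : Faith p V H) : h.W ⊔ h.C = V := by
  refine le_antisymm (sup_le h.W_le (inf_le_left.trans inf_le_left)) fun v hv => ?_
  obtain ⟨-, -, -, hdec⟩ := h.ha.spec hs h.huV h.huP
  obtain ⟨i, hi, -⟩ := hdec v hv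
  obtain ⟨-, -, -, hdec'⟩ := h.hb.spec hs h.htV h.htQ
  obtain ⟨j, hj, -⟩ := hdec' _ hi.1
  have hc0 : v * (u ^ i)⁻¹ * (t ^ j)⁻¹ ∈ ax V a := mul_mem hi (inv_mem (pow_mem h.htP j))
  have hc : v * (u ^ i)⁻¹ * (t ^ j)⁻¹ ∈ h.C := ⟨hc0, hj⟩
  have e : v = v * (u ^ i)⁻¹ * (t ^ j)⁻¹ * (t ^ j * u ^ i) := by group
  rw [e]
  exact mul_mem (mem_sup_right hc) (mem_sup_left
    (mul_mem (mem_sup_left (pow_mem (mem_zpowers t) j)) (mem_sup_right (pow_mem (mem_zpowers u) i))))

/-- The elements of `H` acting on the plane and fixing the complement. -/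
abbrev S (h : Plane p V H a b t u) : Subgroup G :=
  H ⊓ normalizer (h.W : Set G) ⊓ centralizer (h.C : Set G)

theorem eq_of_action (h : Plane p V H a b t u) (hs : Faith p V H) {g g' : G} (hg : g ∈ h.S)
    (hg' : g' ∈ h.S) (hw : ∀ w ∈ h.W, g * w * g⁻¹ = g' * w * g'⁻¹) : g = g' := by
  refine inv_mul_eq_one.mp (hs.eq_one (mul_mem (inv_mem hg.1.1) hg'.1.1) ?_)
  rw [← h.sup_eq hs, mem_centralizer_sup_iff]
  refine ⟨mem_centralizer_iff.mpr fun w hw' => ?_,
    mul_mem (inv_mem hg.2) hg'.2⟩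
  calc w * (g⁻¹ * g') = g⁻¹ * (g * w * g⁻¹) * g' := by group
    _ = g⁻¹ * (g' * w * g'⁻¹) * g' := by rw [hw w hw']
    _ = g⁻¹ * g' * w := by group

theorem a_mem (h : Plane p V H a b t u) (hs : Faith p V H) : a ∈ h.S :=
  ⟨⟨h.ha.mem, (mem_modStab.mp (mem_modStab_of_le (hs.hHV h.ha.mem) h.W_le
    (h.hVa ▸ le_sup_left))).2.1⟩,
    mem_centralizer_iff.mpr fun _ hc => mem_centralizer_singleton_iff.mp hc.1.2⟩

theorem b_mem (h : Plane p V H a b t u) (hs : Faith p V H) : b ∈ h.S :=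
  ⟨⟨h.hb.mem, (mem_modStab.mp (mem_modStab_of_le (hs.hHV h.hb.mem) h.W_le
    (h.hVb ▸ le_sup_right))).2.1⟩,
    mem_centralizer_iff.mpr fun _ hc => mem_centralizer_singleton_iff.mp hc.2.2⟩

open scoped Classical in
/-- The matrix of an element of `S` on the plane. -/
noncomputable def mat (h : Plane p V H a b t u) (hs : Faith p V H) (g : h.S) :
    Matrix (Fin 2) (Fin 2) (ZMod p) :=
  Matrix.of fun i j => Classical.choose (h.exists_eval hs (w := (g : G) * plEval t u (Pi.single j (1 : ZMod p)) * (g : G)⁻¹)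
    ((mem_normalizer_iff.mp g.2.1.2 _).mp (h.eval_mem _))) i

theorem eval_mat_col (h : Plane p V H a b t u) (hs : Faith p V H) (g : h.S) (j : Fin 2) :
    plEval t u (fun i => h.mat hs g i j) =
      (g : G) * plEval t u (Pi.single j (1 : ZMod p)) * (g : G)⁻¹ :=
  Classical.choose_spec (h.exists_eval hs (w := (g : G) * plEval t u (Pi.single j (1 : ZMod p)) * (g : G)⁻¹)
    ((mem_normalizer_iff.mp g.2.1.2 _).mp (h.eval_mem _)))

theorem eval_nsmul (h : Plane p V H a b t u) (hs : Faith p V H) (x : Fin 2 → ZMod p) :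
    ∀ n : ℕ, plEval t u (n • x) = plEval t u x ^ n
  | 0 => by rw [zero_smul, eval_zero, pow_zero]
  | n + 1 => by rw [succ_nsmul, h.eval_add hs, eval_nsmul h hs x n, pow_succ]

theorem eval_mulVec (h : Plane p V H a b t u) (hs : Faith p V H) (g : h.S) (x : Fin 2 → ZMod p) :
    plEval t u ((h.mat hs g).mulVec x) = (g : G) * plEval t u x * (g : G)⁻¹ := by
  have e : x = (x 0).val • Pi.single (0 : Fin 2) (1 : ZMod p) +
      (x 1).val • Pi.single (1 : Fin 2) (1 : ZMod p) := by
    ext i; fin_cases i <;> simp [-ZMod.natCast_val, ZMod.natCast_zmod_val, nsmul_eq_mul]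
  have e2 : ∀ j, (h.mat hs g).mulVec (Pi.single j (1 : ZMod p)) = fun i => h.mat hs g i j := by
    intro j; ext i; simp
  conv_lhs => rw [e]
  rw [Matrix.mulVec_add, Matrix.mulVec_smul, Matrix.mulVec_smul, h.eval_add hs, h.eval_nsmul hs,
    h.eval_nsmul hs, e2, e2, h.eval_mat_col hs, h.eval_mat_col hs, conj_pow, conj_pow]
  conv_rhs => rw [e]
  rw [h.eval_add hs, h.eval_nsmul hs, h.eval_nsmul hs]
  group

theorem mat_eq (h : Plane p V H a b t u) (hs : Faith p V H) (g : h.S)
    {M : Matrix (Fin 2) (Fin 2) (ZMod p)}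
    (hM : ∀ j, plEval t u (fun i => M i j) =
      (g : G) * plEval t u (Pi.single j (1 : ZMod p)) * (g : G)⁻¹) : h.mat hs g = M := by
  ext i j
  exact congrFun (h.eval_injective hs ((h.eval_mat_col hs g j).trans (hM j).symm)) i

/-- The action on the plane as a homomorphism. -/
noncomputable def matHom (h : Plane p V H a b t u) (hs : Faith p V H) :
    h.S →* Matrix (Fin 2) (Fin 2) (ZMod p) where
  toFun := h.mat hs
  map_one' := h.mat_eq hs 1 fun j => by
    rw [OneMemClass.coe_one, one_mul, inv_one, mul_one]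
    congr 1; ext i
    rw [Matrix.one_apply, Pi.single_apply]
  map_mul' g g' := h.mat_eq hs (g * g') fun j => by
    have e : (fun i => (h.mat hs g * h.mat hs g') i j) =
        (h.mat hs g).mulVec (fun i => h.mat hs g' i j) := by
      ext i; simp [Matrix.mul_apply, Matrix.mulVec, dotProduct]
    rw [e, h.eval_mulVec hs, h.eval_mat_col hs, Subgroup.coe_mul, mul_inv_rev]
    simp only [mul_assoc]

theorem matHom_injective (h : Plane p V H a b t u) (hs : Faith p V H) :
    Function.Injective (h.matHom hs) := by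
  intro g g' e
  refine Subtype.ext (h.eq_of_action hs g.2 g'.2 fun w hw => ?_)
  obtain ⟨x, rfl⟩ := h.exists_eval hs hw
  rw [← h.eval_mulVec hs g, ← h.eval_mulVec hs g']
  exact congrArg (fun M : Matrix (Fin 2) (Fin 2) (ZMod p) => plEval t u (M.mulVec x)) e

theorem single_zero (h : Plane p V H a b t u) :
    plEval t u (Pi.single (0 : Fin 2) (1 : ZMod p)) = t := by
  simp [plEval, ZMod.val_one]

theorem single_one (h : Plane p V H a b t u) :
    plEval t u (Pi.single (1 : Fin 2) (1 : ZMod p)) = u := by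
  simp [plEval, ZMod.val_one]

/-- The group generated by `a` and `b`. -/
abbrev L (_h : Plane p V H a b t u) : Subgroup G := zpowers a ⊔ zpowers b

theorem L_le (h : Plane p V H a b t u) (hs : Faith p V H) : h.L ≤ h.S :=
  sup_le (zpowers_le.mpr (h.a_mem hs)) (zpowers_le.mpr (h.b_mem hs))

/-- Image of an element of `S` of determinant one. -/
noncomputable def toSL (h : Plane p V H a b t u) (hs : Faith p V H) (g : h.S)
    (hg : (h.matHom hs g).det = 1) : Matrix.SpecialLinearGroup (Fin 2) (ZMod p) :=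
  ⟨h.matHom hs g, hg⟩

theorem exists_images (h : Plane p V H a b t u) (hs : Faith p V H) :
    h.matHom hs ⟨a, h.a_mem hs⟩ = (Thompson.up (1 : ZMod p) : Matrix (Fin 2) (Fin 2) (ZMod p)) ∧
    ∃ μ : ZMod p, μ ≠ 0 ∧
      h.matHom hs ⟨b, h.b_mem hs⟩ = (Thompson.low μ : Matrix (Fin 2) (Fin 2) (ZMod p)) := by
  refine ⟨h.mat_eq hs _ fun j => ?_, ?_⟩
  · fin_cases j
    · show plEval t u (fun i => (!![1, 1; 0, 1] : Matrix (Fin 2) (Fin 2) (ZMod p)) i 0) =
        a * plEval t u (Pi.single (0 : Fin 2) (1 : ZMod p)) * a⁻¹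
      rw [h.single_zero, conj_of_mem_ax h.htP]
      simp [plEval, ZMod.val_one]
    · show plEval t u (fun i => (!![1, 1; 0, 1] : Matrix (Fin 2) (Fin 2) (ZMod p)) i 1) =
        a * plEval t u (Pi.single (1 : Fin 2) (1 : ZMod p)) * a⁻¹
      rw [h.single_one, h.hau]
      simp [plEval, ZMod.val_one]
  have hd : del b t ∈ zpowers u := h.hVb ▸ IsTv.del_mem_commutator h.htV
  obtain ⟨m, hm : u ^ m = del b t⟩ := mem_powers_iff_mem_zpowers.mpr hd
  refine ⟨(m : ZMod p), fun e => h.htQ (mem_ax_iff.mpr ⟨h.htV, ?_⟩), h.mat_eq hs _ fun j => ?_⟩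
  · rw [← hm]
    obtain ⟨k, rfl⟩ := (ZMod.natCast_eq_zero_iff _ _).mp e
    rw [pow_mul, hs.pow_eq h.huV, one_pow]
  · fin_cases j
    · show plEval t u (fun i => (!![1, 0; (m : ZMod p), 1] : Matrix (Fin 2) (Fin 2) (ZMod p)) i 0) =
        b * plEval t u (Pi.single (0 : Fin 2) (1 : ZMod p)) * b⁻¹
      rw [h.single_zero, conj_eq_del_mul, ← hm, hs.comm (pow_mem h.huV m) h.htV]
      simp [plEval, ZMod.val_one, ← pow_eq_pow_mod m (hs.pow_eq h.huV)]
    · show plEval t u (fun i => (!![1, 0; (m : ZMod p), 1] : Matrix (Fin 2) (Fin 2) (ZMod p)) i 1) =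
        b * plEval t u (Pi.single (1 : Fin 2) (1 : ZMod p)) * b⁻¹
      rw [h.single_one, conj_of_mem_ax h.huQ]
      simp [plEval, ZMod.val_one]

theorem det_eq_one (h : Plane p V H a b t u) (hs : Faith p V H) {g : h.S}
    (hg : g ∈ (h.L).subgroupOf h.S) : (h.matHom hs g).det = 1 := by
  obtain ⟨h1, μ, -, h2⟩ := h.exists_images hs
  let D : Subgroup h.S :=
    { carrier := {g | (h.matHom hs g).det = 1}
      one_mem' := by simp
      mul_mem' := fun {x y} hx hy => by
        show (h.matHom hs (x * y)).det = 1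
        rw [map_mul, Matrix.det_mul]
        rw [show (h.matHom hs x).det = 1 from hx, show (h.matHom hs y).det = 1 from hy, one_mul]
      inv_mem' := fun {x} hx => by
        show (h.matHom hs x⁻¹).det = 1
        have := congrArg Matrix.det (map_mul (h.matHom hs) x⁻¹ x)
        rw [inv_mul_cancel, map_one, Matrix.det_one, Matrix.det_mul,
          show (h.matHom hs x).det = 1 from hx, mul_one] at this
        exact this.symm }
  have hle : (h.L).subgroupOf h.S ≤ D := by
    rw [Subgroup.subgroupOf_sup (zpowers_le.mpr (h.a_mem hs)) (zpowers_le.mpr (h.b_mem hs))]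
    refine sup_le (fun x hx => ?_) (fun x hx => ?_)
    · obtain ⟨k, hk⟩ := mem_zpowers_iff.mp (mem_subgroupOf.mp hx)
      have : x = (⟨a, h.a_mem hs⟩ : h.S) ^ k := Subtype.ext (by rw [← hk]; rfl)
      rw [this]
      exact zpow_mem (show _ ∈ D from by
        show (h.matHom hs ⟨a, h.a_mem hs⟩).det = 1
        rw [h1]; exact (Thompson.up (1 : ZMod p)).2) k
    · obtain ⟨k, hk⟩ := mem_zpowers_iff.mp (mem_subgroupOf.mp hx)
      have : x = (⟨b, h.b_mem hs⟩ : h.S) ^ k := Subtype.ext (by rw [← hk]; rfl)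
      rw [this]
      exact zpow_mem (show _ ∈ D from by
        show (h.matHom hs ⟨b, h.b_mem hs⟩).det = 1
        rw [h2]; exact (Thompson.low μ).2) k
  exact hle hg

/-- The action of `⟨a,b⟩` on the plane. -/
noncomputable def rep (h : Plane p V H a b t u) (hs : Faith p V H) :
    h.L →* Matrix.SpecialLinearGroup (Fin 2) (ZMod p) where
  toFun g := h.toSL hs ⟨g, h.L_le hs g.2⟩ (h.det_eq_one hs (mem_subgroupOf.mpr g.2))
  map_one' := Subtype.ext (map_one (h.matHom hs))
  map_mul' x y := Subtype.ext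
    ((map_mul (h.matHom hs) ⟨x, h.L_le hs x.2⟩ ⟨y, h.L_le hs y.2⟩ :) :)

theorem rep_bijective (h : Plane p V H a b t u) (hs : Faith p V H) :
    Function.Bijective (h.rep hs) := by
  refine ⟨fun x y e => Subtype.ext ?_, ?_⟩
  · exact congrArg (fun z : h.S => (z : G)) (h.matHom_injective hs (congrArg Subtype.val e))
  · obtain ⟨h1, μ, hμ, h2⟩ := h.exists_images hs
    rw [← MonoidHom.range_eq_top, eq_top_iff, ← Thompson.closure_up_low p hμ, Subgroup.closure_le,
      Set.pair_subset_iff]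
    exact ⟨⟨⟨a, mem_sup_left (mem_zpowers a)⟩, Subtype.ext h1⟩,
      ⟨⟨b, mem_sup_right (mem_zpowers b)⟩, Subtype.ext h2⟩⟩

/-- The isomorphism with `SL(2, p)`. -/
noncomputable def equiv (h : Plane p V H a b t u) (hs : Faith p V H) :
    h.L ≃* Matrix.SpecialLinearGroup (Fin 2) (ZMod p) :=
  MulEquiv.ofBijective (h.rep hs) (h.rep_bijective hs)

theorem eval_rep (h : Plane p V H a b t u) (hs : Faith p V H) (g : h.L) (x : Fin 2 → ZMod p) :
    plEval t u ((h.rep hs g : Matrix (Fin 2) (Fin 2) (ZMod p)).mulVec x) =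
      (g : G) * plEval t u x * (g : G)⁻¹ :=
  h.eval_mulVec hs ⟨g, h.L_le hs g.2⟩ x

/-- Elements of order `p` of `S` lie in `⟨a, b⟩`. -/
theorem mem_L_of_orderOf (h : Plane p V H a b t u) (hs : Faith p V H) {g : G} (hg : g ∈ h.S)
    (hord : g ^ p = 1) : g ∈ h.L := by
  have hdet : (h.matHom hs ⟨g, hg⟩).det = 1 := by
    have h1 : ((h.matHom hs ⟨g, hg⟩).det) ^ p = 1 := by
      rw [← Matrix.det_pow, ← map_pow, show (⟨g, hg⟩ : h.S) ^ p = 1 from Subtype.ext hord, map_one,
        Matrix.det_one]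
    rwa [ZMod.pow_card] at h1
  obtain ⟨x, hx⟩ := (h.rep_bijective hs).2 ⟨_, hdet⟩
  have h3 := h.matHom_injective hs (congrArg Subtype.val hx)
  have h4 : (x : G) = g := congrArg (fun z : h.S => (z : G)) h3
  rw [← h4]
  exact x.2

/-- `⟨a,b⟩` is transitive on the nontrivial elements of the plane. -/
theorem exists_conj_eq (h : Plane p V H a b t u) (hs : Faith p V H) {w : G} (hw : w ∈ h.W)
    (hw1 : w ≠ 1) : ∃ g ∈ h.L, g * t * g⁻¹ = w := by
  obtain ⟨x, rfl⟩ := h.exists_eval hs hw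
  have hM : ∃ M : Matrix.SpecialLinearGroup (Fin 2) (ZMod p),
      (M : Matrix (Fin 2) (Fin 2) (ZMod p)) 0 0 = x 0 ∧
      (M : Matrix (Fin 2) (Fin 2) (ZMod p)) 1 0 = x 1 := by
    by_cases h0 : x 0 = 0
    · have h1 : x 1 ≠ 0 := fun e => hw1 (by
        have : x = 0 := by ext i; fin_cases i <;> assumption
        rw [this, eval_zero])
      exact ⟨⟨!![x 0, -(x 1)⁻¹; x 1, 0], by rw [Matrix.det_fin_two]; simp [h1]⟩, rfl, rfl⟩
    · exact ⟨⟨!![x 0, 0; x 1, (x 0)⁻¹], by rw [Matrix.det_fin_two]; simp [h0]⟩, rfl, rfl⟩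
  obtain ⟨M, hM0, hM1⟩ := hM
  obtain ⟨g, hg⟩ := (h.rep_bijective hs).2 M
  refine ⟨g, g.2, ?_⟩
  have h5 := h.eval_rep hs g (Pi.single (0 : Fin 2) (1 : ZMod p))
  rw [h.single_zero] at h5
  rw [← h5, hg]
  congr 1
  ext i; fin_cases i <;> simp [hM0, hM1]

theorem L_inf_centralizer_W (h : Plane p V H a b t u) (hs : Faith p V H) :
    h.L ⊓ centralizer (h.W : Set G) = ⊥ := by
  refine (eq_bot_iff_forall _).mpr fun g hg => h.eq_of_action hs (h.L_le hs hg.1) (one_mem _)
    fun w hw => ?_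
  rw [← mem_centralizer_iff.mp hg.2 w hw, mul_inv_cancel_right, one_mul, inv_one, mul_one]

theorem W_le_modStab (h : Plane p V H a b t u) (hs : Faith p V H) : h.L ≤ modStab V h.W :=
  sup_le (zpowers_le.mpr (mem_modStab_of_le (hs.hHV h.ha.mem) h.W_le (h.hVa ▸ le_sup_left)))
    (zpowers_le.mpr (mem_modStab_of_le (hs.hHV h.hb.mem) h.W_le (h.hVb ▸ le_sup_right)))

theorem commutator_eq (h : Plane p V H a b t u) (hs : Faith p V H) : ⁅V, h.L⁆ = h.W := by
  refine le_antisymm (commutator_le.mpr fun v hv g hg => ?_) (sup_le ?_ ?_)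
  · have h1 := inv_mem ((mem_modStab.mp (h.W_le_modStab hs hg)).2.2 v hv)
    have e : (del g v)⁻¹ = ⁅v, g⁆ := by simp only [del, commutatorElement_def]; group
    rwa [e] at h1
  · rw [← h.hVa]; exact commutator_mono le_rfl le_sup_left
  · rw [← h.hVb]; exact commutator_mono le_rfl le_sup_right

theorem inf_centralizer_L (h : Plane p V H a b t u) :
    V ⊓ centralizer (h.L : Set G) = h.C := by
  ext v
  rw [Subgroup.mem_inf, mem_centralizer_sup_iff, centralizer_zpowers_eq, centralizer_zpowers_eq]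
  exact ⟨fun hv => ⟨⟨hv.1, hv.2.1⟩, hv.1, hv.2.2⟩, fun hv => ⟨hv.1.1, hv.1.2, hv.2.2⟩⟩

end Plane

end Cfsg.Agent.H31.FF
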