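import Cfsg.Agent.H31.JSub

/-!
The stable normal closure `W(S)` of `Ω₁(Z(S))`.
-/

namespace Cfsg.Agent.H31

open Subgroup
open scoped commutatorElement Pointwise

universe u

variable {S : Type u} [Group S] {p : ℕ}

theorem omegaOne_center_le_omegaCenterThompson [Finite S] :
    omegaOne p (center S) ≤ omegaCenterThompson p S := by
  refine (closure_le _).mpr fun z hz => mem_omegaOne ?_ hz.2
  have hzc : ∀ y : S, y * z = z * y := mem_center_iff.mp hz.1
  refine ⟨?_, mem_centralizer_iff.mpr fun y _ => hzc y⟩
  obtain ⟨A, hA⟩ := exists_maxIn p (⊤ : Subgroup S)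
  have h1 : z ∈ omegaOne p ((⊤ : Subgroup S) ⊓ centralizer ((⊤ : Subgroup S) : Set S)) :=
    mem_omegaOne ⟨trivial, mem_centralizer_iff.mpr fun y _ => hzc y⟩ hz.2
  rw [← thompsonSubgroupOf_top]
  exact le_thompsonSubgroupOf hA (omegaOne_center_le_maxIn hA h1)

theorem omegaCenterThompson_map {H : Type*} [Group H] {f : S →* H} (hf : Function.Injective f) :
    (omegaCenterThompson p S).map f = omegaOne p
      (thompsonSubgroupOf p f.range ⊓ centralizer (thompsonSubgroupOf p f.range : Set H)) := by
  rw [omegaCenterThompson, omegaOne_map hf, map_inf_centralizer hf, thompsonSubgroup_map hf]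

theorem normal_omegaOne_center {H : Type*} [Group H] (K : Subgroup H) [K.Normal] :
    (omegaOne p (K ⊓ centralizer (K : Set H))).Normal := by
  constructor
  intro x hx g
  have hg : g ∈ normalizer (K : Set H) := by rw [normalizer_eq_top]; trivial
  have h : (omegaOne p (K ⊓ centralizer (K : Set H))).map (MulAut.conj g).toMonoidHom
      = omegaOne p (K ⊓ centralizer (K : Set H)) := by
    rw [omegaOne_map (MulAut.conj g).injective, map_inf_centralizer (MulAut.conj g).injective,
      map_conj_eq_of_mem_normalizer hg]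
  rw [← h]
  exact mem_map_of_mem _ hx

theorem mem_stableFamily_omegaCenterThompson [Finite S] :
    omegaOne p (center S) ≤ omegaCenterThompson p S ∧
      ∀ (H : Type u) [Group H] (τ : S →* H), IsStableEmbedding p τ →
        ((omegaCenterThompson p S).map τ).Normal := by
  refine ⟨omegaOne_center_le_omegaCenterThompson, fun H _ τ hτ => ?_⟩
  rw [omegaCenterThompson_map hτ.1]
  haveI : (thompsonSubgroupOf p τ.range).Normal := by
    rw [← thompsonSubgroup_map hτ.1]; exact hτ.2.2.2.2.1
  exact normal_omegaOne_center _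

theorem omegaOne_center_le_stableNormalClosure :
    omegaOne p (center S) ≤ stableNormalClosure p S := le_sInf fun _ hW => hW.1

theorem stableNormalClosure_le_omegaCenterThompson [Finite S] :
    stableNormalClosure p S ≤ omegaCenterThompson p S :=
  sInf_le mem_stableFamily_omegaCenterThompson

theorem elem_stableNormalClosure [Finite S] : IsElementaryAbelian p (stableNormalClosure p S) :=
  elem_le (elem_omegaOne_center p (thompsonSubgroup p S)) stableNormalClosure_le_omegaCenterThompson

theorem stableNormalClosure_map_normal [Finite S] {H : Type u} [Group H] {τ : S →* H}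
    (hτ : IsStableEmbedding p τ) : ((stableNormalClosure p S).map τ).Normal := by
  constructor
  rintro _ ⟨w, hw, rfl⟩ g
  obtain ⟨y, -, hye⟩ := (mem_stableFamily_omegaCenterThompson.2 H τ hτ).conj_mem _
    (mem_map_of_mem τ (stableNormalClosure_le_omegaCenterThompson hw)) g
  refine ⟨y, ?_, hye⟩
  rw [SetLike.mem_coe, stableNormalClosure, mem_sInf]
  intro W hW
  obtain ⟨y', hy', hye'⟩ := (hW.2 H τ hτ).conj_mem _
    (mem_map_of_mem τ (mem_sInf.mp hw W hW)) g
  rwa [hτ.1 (hye.trans hye'.symm)]

theorem isStableEmbedding_comp {S' : Type u} [Group S'] (η : S ≃* S') {H : Type u} [Group H]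
    {τ : S' →* H} (hτ : IsStableEmbedding p τ) : IsStableEmbedding p (τ.comp η.toMonoidHom) := by
  obtain ⟨h1, h2, ⟨P, hP⟩, h4, h5, h6⟩ := hτ
  have hr : (τ.comp η.toMonoidHom).range = τ.range := by
    rw [MonoidHom.range_comp, MonoidHom.range_eq_top.mpr η.surjective, ← MonoidHom.range_eq_map]
  have hi : Function.Injective (τ.comp η.toMonoidHom) := h1.comp η.injective
  refine ⟨hi, h2, ⟨P, hP.trans hr.symm⟩, h4, ?_, ?_⟩
  · rwa [thompsonSubgroup_map hi, hr, ← thompsonSubgroup_map h1]
  · intro V hV hle
    refine h6 V ?_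
    rwa [omegaCenterThompson_map hi, hr, ← omegaCenterThompson_map h1] at hle

theorem omegaOne_center_equiv {S' : Type u} [Group S'] (η : S ≃* S') :
    (omegaOne p (center S)).map η.toMonoidHom = omegaOne p (center S') := by
  rw [omegaOne_map η.injective]
  congr 1
  ext x
  constructor
  · rintro ⟨y, hy, rfl⟩
    rw [mem_center_iff]
    intro g
    have := congrArg η (mem_center_iff.mp hy (η.symm g))
    rw [map_mul, map_mul, MulEquiv.apply_symm_apply] at this
    exact this
  · intro hx
    refine ⟨η.symm x, ?_, η.apply_symm_apply x⟩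
    rw [SetLike.mem_coe, mem_center_iff]
    intro g
    apply η.injective
    rw [map_mul, map_mul, MulEquiv.apply_symm_apply]
    exact mem_center_iff.mp hx (η g)

theorem stableNormalClosure_le_map {S' : Type u} [Group S'] (η : S ≃* S') :
    stableNormalClosure p S' ≤ (stableNormalClosure p S).map η.toMonoidHom := by
  intro x hx
  refine ⟨η.symm x, ?_, η.apply_symm_apply x⟩
  rw [SetLike.mem_coe, stableNormalClosure, mem_sInf]
  intro W hW
  have hmem : W.map η.toMonoidHom ∈ {W' : Subgroup S' | omegaOne p (center S') ≤ W' ∧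
      ∀ (H : Type u) [Group H] (τ : S' →* H), IsStableEmbedding p τ → (W'.map τ).Normal} := by
    refine ⟨(omegaOne_center_equiv η).ge.trans (map_mono hW.1), fun H _ τ hτ => ?_⟩
    rw [map_map]
    exact hW.2 H _ (isStableEmbedding_comp η hτ)
  obtain ⟨y, hy, rfl⟩ := mem_sInf.mp hx _ hmem
  simpa using hy

/-- `W(S)` is natural in isomorphisms. -/
theorem stableNormalClosure_map {S' : Type u} [Group S'] (η : S ≃* S') :
    (stableNormalClosure p S).map η.toMonoidHom = stableNormalClosure p S' := by
  refine le_antisymm ?_ (stableNormalClosure_le_map η)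
  rintro _ ⟨x, hx, rfl⟩
  obtain ⟨y, hy, hye⟩ := stableNormalClosure_le_map η.symm hx
  have : η x = y := by rw [← hye]; exact η.apply_symm_apply y
  show η x ∈ _
  rwa [this]

theorem stableNormalClosure_characteristic :
    (stableNormalClosure p S).Characteristic :=
  characteristic_iff_map_eq.mpr fun φ => stableNormalClosure_map φ

theorem stableNormalClosure_ne_bot [Finite S] [Fact p.Prime] (hS : IsPGroup p S) [Nontrivial S] :
    stableNormalClosure p S ≠ ⊥ := by
  intro h
  haveI := hS.center_nontrivial
  have hd : p ∣ Nat.card (center S) := by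
    rcases (hS.to_subgroup (center S)).card_eq_or_dvd with h1 | h1
    · exact absurd h1 Finite.one_lt_card.ne'
    · exact h1
  obtain ⟨z, hz⟩ := exists_prime_orderOf_dvd_card' p hd
  have hmem : (z : S) ∈ omegaOne p (center S) := mem_omegaOne z.2 (by
    rw [← SubmonoidClass.coe_pow, ← hz, pow_orderOf_eq_one]; rfl)
  have := omegaOne_center_le_stableNormalClosure hmem
  rw [h, mem_bot] at this
  have hz1 : z = 1 := Subtype.ext this
  rw [hz1, orderOf_one] at hz
  exact (Fact.out : p.Prime).ne_one hz.symm

/-- No element of `S` acts quadratically and nontrivially on `W(S)`. -/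
theorem centralize_of_quadratic [Finite S] [Fact p.Prime] (x : S)
    (hq : ⁅⁅stableNormalClosure p S, zpowers x⁆, zpowers x⁆ = ⊥) :
    x ∈ centralizer (stableNormalClosure p S : Set S) := by
  set W := stableNormalClosure p S with hW
  set X : Set S := {x | ⁅⁅W, zpowers x⁆, zpowers x⁆ = ⊥} with hX
  suffices hU : W ⊓ centralizer X ∈ {W' : Subgroup S | omegaOne p (center S) ≤ W' ∧
      ∀ (H : Type u) [Group H] (τ : S →* H), IsStableEmbedding p τ → (W'.map τ).Normal} by
    have hle : W ≤ centralizer X := (sInf_le hU).trans inf_le_right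
    rw [mem_centralizer_iff]
    exact fun w hw => ((mem_centralizer_iff.mp (hle hw)) x hq).symm
  refine ⟨le_inf omegaOne_center_le_stableNormalClosure ?_, fun H _ τ hτ => ?_⟩
  · refine (omegaOne_le p _).trans (fun z hz => ?_)
    rw [mem_centralizer_iff]
    exact fun y _ => mem_center_iff.mp hz y
  haveI hN : (W.map τ).Normal := stableNormalClosure_map_normal hτ
  obtain ⟨hτi, hfin, ⟨P, hP⟩, -, -, hst⟩ := hτ
  haveI := hfin
  have hNstab := hst (W.map τ) (map_mono stableNormalClosure_le_omegaCenterThompson)
  set N := W.map τ with hNdef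
  set C := centralizer (N : Set H) with hC
  set D := (pCore p (H ⧸ C)).comap (QuotientGroup.mk' C) with hD
  haveI : (pCore p (H ⧸ C)).Normal := inferInstance
  haveI : D.Normal := Subgroup.Normal.comap inferInstance _
  obtain ⟨k, hk⟩ := exists_relIndex_comap_pCore (p := p) C
  have htop := normalizer_sylow_inf_sup_of_relIndex P (le_comap_mk' C _) hk
  rw [← normalizer_eq_top_iff, eq_top_iff, ← htop, sup_le_iff]
  have key : ∀ h ∈ normalizer (((P : Subgroup H) ⊓ D : Subgroup H) : Set H),
      ∀ z ∈ (W ⊓ centralizer X).map τ, h * z * h⁻¹ ∈ (W ⊓ centralizer X).map τ := by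
    intro h hh z hz
    obtain ⟨u, hu, rfl⟩ := hz
    obtain ⟨u', hu', hue⟩ := hN.conj_mem _ (mem_map_of_mem τ (mem_inf.mp hu).1) h
    refine ⟨u', mem_inf.mpr ⟨hu', ?_⟩, hue⟩
    rw [mem_centralizer_iff]
    intro x hx
    apply hτi
    rw [map_mul, map_mul, hue]
    -- pull `τ x` back by `h`
    have hxD : τ x ∈ D := by
      rw [hD, mem_comap]
      refine hNstab (τ x) ?_
      rw [← MonoidHom.map_zpowers, ← map_commutator, ← map_commutator, hx, Subgroup.map_bot]
    have hxP : τ x ∈ (P : Subgroup H) ⊓ D := ⟨by rw [hP]; exact ⟨x, rfl⟩, hxD⟩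
    have hyP : h⁻¹ * τ x * h ∈ (P : Subgroup H) ⊓ D := by
      have := (mem_normalizer_iff.mp (inv_mem hh) (τ x)).mp hxP
      rwa [inv_inv] at this
    obtain ⟨y, hy⟩ : h⁻¹ * τ x * h ∈ τ.range := hP ▸ (mem_inf.mp hyP).1
    have hyX : y ∈ X := by
      show ⁅⁅W, zpowers y⁆, zpowers y⁆ = ⊥
      apply map_injective hτi
      rw [Subgroup.map_bot, map_commutator, map_commutator, MonoidHom.map_zpowers, hy, ← hNdef]
      have e : (MulAut.conj h⁻¹).toMonoidHom (τ x) = h⁻¹ * τ x * h := by simp
      have eN : N.map (MulAut.conj h⁻¹).toMonoidHom = N :=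
        map_conj_eq_of_mem_normalizer (by rw [normalizer_eq_top]; trivial)
      rw [← e, ← MonoidHom.map_zpowers, ← eN, ← map_commutator, ← map_commutator, hNdef,
        ← MonoidHom.map_zpowers, ← map_commutator, ← map_commutator, hx, Subgroup.map_bot,
        Subgroup.map_bot]
    have hc := congrArg τ (mem_centralizer_iff.mp (mem_inf.mp hu).2 y hyX)
    rw [map_mul, map_mul, hy] at hc
    calc τ x * (h * τ u * h⁻¹) = h * (h⁻¹ * τ x * h * τ u) * h⁻¹ := by group
      _ = h * (τ u * (h⁻¹ * τ x * h)) * h⁻¹ := by rw [hc]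
      _ = h * τ u * h⁻¹ * τ x := by group
  constructor
  · intro h hh
    rw [mem_normalizer_iff]
    refine fun z => ⟨key h hh z, fun hz => ?_⟩
    simpa [mul_assoc] using key h⁻¹ (inv_mem hh) _ hz
  · intro c hc
    rw [mem_normalizer_iff]
    intro z
    constructor
    · intro hz
      rw [← mem_centralizer_iff.mp hc z (map_mono inf_le_left hz), mul_inv_cancel_right]
      exact hz
    · intro hz
      have h1 := mem_centralizer_iff.mp (inv_mem hc) _ (map_mono inf_le_left hz)
      have e : z = c * z * c⁻¹ := by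
        calc z = c⁻¹ * (c * z * c⁻¹) * c := by group
          _ = c * z * c⁻¹ * c⁻¹ * c := by rw [← h1]
          _ = c * z * c⁻¹ := by group
      rw [e]; exact hz

end Cfsg.Agent.H31
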