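import Mathlib.Tactic
import Mathlib.GroupTheory.Sylow
import Mathlib.GroupTheory.Nilpotent
import Mathlib.GroupTheory.Solvable
import Mathlib.GroupTheory.Frattini
import Mathlib.GroupTheory.SchurZassenhaus
import Mathlib.GroupTheory.Commutator.Basic
import Mathlib.Algebra.Group.Subgroup.Pointwise
import Mathlib.GroupTheory.Coset.Card

/-!
Small shared lemmas of helper31 on minimal normal subgroups, products of subgroups and
nilpotent groups.
-/

namespace Cfsg.Agent.H31

open Subgroup
open scoped Pointwise commutatorElement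

variable {G : Type*} [Group G]

/-- A nontrivial normal subgroup of a finite group contains a minimal normal subgroup. -/
theorem exists_minNormal [Finite G] {K : Subgroup G} (hK : K.Normal) (hne : K ≠ ⊥) :
    ∃ N ≤ K, N.Normal ∧ N ≠ ⊥ ∧ ∀ L : Subgroup G, L.Normal → L ≤ N → L = ⊥ ∨ L = N := by
  obtain ⟨N, hNK, hmin⟩ := Finite.exists_le_minimal
    (p := fun L : Subgroup G => L.Normal ∧ L ≠ ⊥) ⟨hK, hne⟩
  refine ⟨N, hNK, hmin.prop.1, hmin.prop.2, fun L hL hLN => ?_⟩
  by_cases h : L = ⊥
  · exact Or.inl h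
  · exact Or.inr (le_antisymm hLN (hmin.le_of_le ⟨hL, h⟩ hLN))

/-- A finite solvable group has, in every nontrivial normal subgroup, an abelian minimal normal
subgroup of exponent a prime. -/
theorem exists_minNormal_elementary [Finite G] [Group.IsSolvable G] {K : Subgroup G}
    (hK : K.Normal) (hne : K ≠ ⊥) :
    ∃ N ≤ K, N.Normal ∧ N ≠ ⊥ ∧ (∀ L : Subgroup G, L.Normal → L ≤ N → L = ⊥ ∨ L = N) ∧
      (∀ x ∈ N, ∀ y ∈ N, x * y = y * x) ∧
      ∃ p : ℕ, p.Prime ∧ (∀ x ∈ N, x ^ p = 1) ∧ IsPGroup p N ∧ p ∣ Nat.card N := by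
  obtain ⟨N, hNK, hN, hNne, hmin⟩ := exists_minNormal hK hne
  haveI := hN
  have hcomm : ∀ x ∈ N, ∀ y ∈ N, x * y = y * x := by
    rcases hmin ⁅N, N⁆ inferInstance (commutator_le_self N) with h | h
    · intro x hx y hy
      exact commutatorElement_eq_one_iff_mul_comm.mp
        (by simpa [h] using commutator_mem_commutator hx hy)
    · haveI : Nontrivial N := (Subgroup.nontrivial_iff_ne_bot N).mpr hNne
      exfalso
      have hlt : commutator N < (⊤ : Subgroup N) :=
        Group.IsSolvable.commutator_lt_top_of_nontrivial N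
      apply hlt.ne
      apply map_injective N.subtype_injective
      rw [map_subtype_commutator, h, ← MonoidHom.range_eq_map, range_subtype]
  obtain ⟨p, hp, hpd⟩ := Nat.exists_prime_and_dvd
    (mt (Subgroup.card_eq_one (H := N)).mp hNne)
  haveI := Fact.mk hp
  let L : Subgroup G :=
    { carrier := {x | x ∈ N ∧ x ^ p = 1}
      one_mem' := ⟨one_mem N, one_pow p⟩
      mul_mem' := fun {a b} ha hb => ⟨mul_mem ha.1 hb.1, by
        rw [Commute.mul_pow (hcomm a ha.1 b hb.1), ha.2, hb.2, one_mul]⟩
      inv_mem' := fun {a} ha => ⟨inv_mem ha.1, by rw [inv_pow, ha.2, inv_one]⟩ }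
  have hLn : L.Normal := ⟨fun x hx g => ⟨hN.conj_mem x hx.1 g, by rw [conj_pow, hx.2]; group⟩⟩
  have hexp : ∀ x ∈ N, x ^ p = 1 := by
    rcases hmin L hLn (fun x hx => hx.1) with h | h
    · exfalso
      obtain ⟨x, hx⟩ := exists_prime_orderOf_dvd_card' p hpd
      have hxL : (x : G) ∈ L := ⟨x.2, by
        rw [← SubmonoidClass.coe_pow, ← hx, pow_orderOf_eq_one]; rfl⟩
      rw [h, mem_bot] at hxL
      have hx1 : x = 1 := Subtype.ext hxL
      rw [hx1, orderOf_one] at hx
      exact hp.ne_one hx.symm
    · intro x hx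
      exact (show x ∈ L by rw [h]; exact hx).2
  refine ⟨N, hNK, hN, hNne, hmin, hcomm, p, hp, hexp, fun x => ⟨1, ?_⟩, hpd⟩
  apply Subtype.ext
  simpa using hexp x x.2

/-- A subgroup normalized by a supplement of an abelian normal subgroup meets it in a normal
subgroup. -/
theorem inf_normal_of_supplement {A H : Subgroup G} [hA : A.Normal]
    (hcomm : ∀ x ∈ A, ∀ y ∈ A, x * y = y * x) (hsup : A ⊔ H = ⊤) : (A ⊓ H).Normal := by
  constructor
  intro d hd g
  have hg : g ∈ (↑(A ⊔ H) : Set G) := by rw [hsup]; trivial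
  rw [normal_mul] at hg
  obtain ⟨a, ha, h, hh, rfl⟩ := hg
  have hh' : h ∈ H := hh
  have h1 : h * d * h⁻¹ ∈ A ⊓ H :=
    mem_inf.mpr ⟨hA.conj_mem d (mem_inf.mp hd).1 h,
      mul_mem (mul_mem hh' (mem_inf.mp hd).2) (inv_mem hh')⟩
  have : a * h * d * (a * h)⁻¹ = h * d * h⁻¹ := by
    have := hcomm a ha _ h1.1
    calc a * h * d * (a * h)⁻¹ = (a * (h * d * h⁻¹)) * a⁻¹ := by group
      _ = h * d * h⁻¹ := by rw [this]; group
  rw [this]; exact h1

/-- In a finite nilpotent group elements of coprime orders commute. -/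
theorem commute_of_coprime_orderOf [Group.IsNilpotent G] {x y : G}
    (h : (orderOf x).Coprime (orderOf y)) : x * y = y * x := by
  revert x y
  apply Group.nilpotent_center_quotient_ind
    (P := fun (G : Type _) _ _ => ∀ x y : G, (orderOf x).Coprime (orderOf y) → x * y = y * x) G
  · intro G _ _ x y _
    exact Subsingleton.elim _ _
  · intro G _ _ ih x y hxy
    set z := ⁅x, y⁆ with hz
    have hzc : z ∈ center G := by
      rw [← QuotientGroup.eq_one_iff]
      have := ih (QuotientGroup.mk x : G ⧸ center G) (QuotientGroup.mk y)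
        (Nat.Coprime.coprime_dvd_left (orderOf_map_dvd (QuotientGroup.mk' (center G)) x)
          (Nat.Coprime.coprime_dvd_right (orderOf_map_dvd (QuotientGroup.mk' (center G)) y) hxy))
      show QuotientGroup.mk' (center G) z = 1
      rw [hz, map_commutatorElement]
      exact commutatorElement_eq_one_iff_mul_comm.mpr this
    have hc : ∀ g : G, g * z = z * g := mem_center_iff.mp hzc
    have h1 : x * y = z * (y * x) := by rw [hz, commutatorElement_def]; group
    have hy : ∀ n : ℕ, x ^ n * y = z ^ n * (y * x ^ n) := by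
      intro n
      induction n with
      | zero => simp
      | succ n ihn =>
        calc x ^ (n + 1) * y = x * (x ^ n * y) := by rw [pow_succ']; group
          _ = x * z ^ n * (y * x ^ n) := by rw [ihn]; group
          _ = z ^ n * x * (y * x ^ n) := by rw [(Commute.pow_right (hc x) n).eq]
          _ = z ^ n * (x * y) * x ^ n := by group
          _ = z ^ (n + 1) * (y * x ^ (n + 1)) := by rw [h1]; group
    have hx : ∀ n : ℕ, x * y ^ n = z ^ n * (y ^ n * x) := by
      intro n
      induction n with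
      | zero => simp
      | succ n ihn =>
        calc x * y ^ (n + 1) = (x * y ^ n) * y := by rw [pow_succ]; group
          _ = z ^ n * y ^ n * (x * y) := by rw [ihn]; group
          _ = z ^ n * (y ^ n * z) * (y * x) := by rw [h1]; group
          _ = z ^ (n + 1) * (y ^ (n + 1) * x) := by rw [hc]; group
    have hzx : z ^ orderOf x = 1 := by
      have := hy (orderOf x)
      rw [pow_orderOf_eq_one, one_mul, mul_one] at this
      exact right_eq_mul.mp this
    have hzy : z ^ orderOf y = 1 := by
      have := hx (orderOf y)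
      rw [pow_orderOf_eq_one, one_mul, mul_one] at this
      exact right_eq_mul.mp this
    have : z = 1 := by
      have h' := pow_gcd_eq_one.mpr ⟨hzx, hzy⟩
      rwa [hxy.gcd_eq_one, pow_one] at h'
    rw [h1, this, one_mul]

/-- The derived subgroup lies in every normal maximal subgroup. -/
theorem commutator_le_of_isCoatom {M : Subgroup G} [M.Normal] (hM : IsCoatom M) :
    commutator G ≤ M := by
  obtain ⟨g, -, hg⟩ := SetLike.exists_of_lt hM.lt_top
  have hgen : M ⊔ zpowers g = ⊤ := hM.2 _ (left_lt_sup.mpr fun h => hg (h (mem_zpowers g)))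
  rw [commutator_def, commutator_le]
  intro u _ v _
  rw [← QuotientGroup.eq_one_iff]
  show QuotientGroup.mk' M _ = 1
  rw [map_commutatorElement, commutatorElement_eq_one_iff_mul_comm]
  have key : ∀ x : G, ∃ n : ℤ, QuotientGroup.mk' M x = QuotientGroup.mk' M g ^ n := by
    intro x
    have hx : x ∈ (↑(M ⊔ zpowers g) : Set G) := by rw [hgen]; trivial
    rw [normal_mul] at hx
    obtain ⟨m, hm, t, ⟨n, rfl⟩, rfl⟩ := hx
    refine ⟨n, ?_⟩
    rw [map_mul, map_zpow, show QuotientGroup.mk' M m = 1 from (QuotientGroup.eq_one_iff m).mpr hm,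
      one_mul]
  obtain ⟨a, ha⟩ := key u
  obtain ⟨b, hb⟩ := key v
  rw [ha, hb, ← zpow_add, ← zpow_add, add_comm]

end Cfsg.Agent.H31
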