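import Cfsg.Agent.H31.Basic
import Cfsg.Agent.H31.JSub
import Cfsg.Agent.S0588
import Mathlib.GroupTheory.Transfer

/-!
A maximal, self-normalizing, abelian TI subgroup has an abelian normal complement.
-/

namespace Cfsg.Agent.H31

open Subgroup
open scoped commutatorElement

variable {G : Type*} [Group G]

/-- A group with an abelian maximal subgroup `A ≠ 1` meeting its other conjugates trivially is
metabelian. -/
theorem metabelian_of_abelian_TI_coatom [Finite G] {A : Subgroup G} (hM : IsCoatom A)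
    (hc : ∀ x ∈ A, ∀ y ∈ A, x * y = y * x) (hne : A ≠ ⊥)
    (hTI : ∀ g : G, g ∉ A → ∀ x ∈ A, g⁻¹ * x * g ∈ A → x = 1) :
    ∀ u v w z : G, ⁅⁅u, v⁆, ⁅w, z⁆⁆ = 1 := by
  classical
  haveI : IsMulCommutative A := ⟨⟨fun a b => Subtype.ext (hc a a.2 b b.2)⟩⟩
  letI : CommGroup A := { mul_comm := fun a b => Subtype.ext (hc a a.2 b b.2) }
  -- centralizers
  have hC : ∀ x ∈ A, x ≠ 1 → centralizer ({x} : Set G) ≤ A := by
    intro x hx hx1 g hg
    by_contra hgA
    apply hx1 (hTI g hgA x hx ?_)
    have h := mem_centralizer_iff.mp hg x rfl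
    have : g⁻¹ * x * g = x := by rw [mul_assoc, h, inv_mul_cancel_left]
    rw [this]; exact hx
  have hHall : (Nat.card A).Coprime A.index := Cfsg.Agent.S0588.result A hC
  -- transfer
  haveI : A.FiniteIndex := inferInstance
  set tr := MonoidHom.transfer (MonoidHom.id A) with htr
  have hkey : ∀ (g : G) (hg : g ∈ A), (tr g : G) = g ^ A.index := by
    intro g hg
    have key : ∀ (k : ℕ) (g₀ : G), g₀⁻¹ * g ^ k * g₀ ∈ A → g₀⁻¹ * g ^ k * g₀ = g ^ k := by
      intro k g₀ h
      by_cases h1 : g ^ k = 1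
      · rw [h1]; group
      · have hg0 : g₀ ∈ A := by
          by_contra h0
          exact h1 (hTI g₀ h0 _ (pow_mem hg k) h)
        rw [mul_assoc, hc _ (pow_mem hg k) g₀ hg0, inv_mul_cancel_left]
    exact congrArg Subtype.val (MonoidHom.transfer_eq_pow (MonoidHom.id A) g key)
  set K := tr.ker with hK
  haveI : K.Normal := inferInstance
  have hKA : K ⊓ A = ⊥ := by
    rw [eq_bot_iff]
    intro x hx
    have h1 : x ^ A.index = 1 := by
      rw [← hkey x hx.2, MonoidHom.mem_ker.mp hx.1]; rfl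
    have h2 : x ^ Nat.card A = 1 := orderOf_dvd_iff_pow_eq_one.mp (A.orderOf_dvd_natCard hx.2)
    have := pow_gcd_eq_one.mpr ⟨h2, h1⟩
    rw [hHall.gcd_eq_one, pow_one] at this
    exact mem_bot.mpr this
  have hKAtop : K ⊔ A = ⊤ := by
    rw [eq_top_iff]
    intro g _
    obtain ⟨a, ha⟩ := (powCoprime hHall).surjective (tr g)
    rw [powCoprime_apply] at ha
    have h1 : g * (a : G)⁻¹ ∈ K := by
      rw [hK, MonoidHom.mem_ker, map_mul, map_inv, mul_inv_eq_one, ← ha]
      apply Subtype.ext
      rw [hkey a a.2, SubmonoidClass.coe_pow]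
    have : g = g * (a : G)⁻¹ * a := by group
    rw [this]
    exact mul_mem (mem_sup_left h1) (mem_sup_right a.2)
  have hcompl : IsComplement' K A := isComplement'_of_disjoint_and_mul_eq_univ
    (disjoint_iff.mpr hKA) (by rw [← normal_mul, hKAtop, coe_top])
  have hKidx : K.index = Nat.card A := hcompl.symm.index_eq_card
  have hcard : Nat.card K * Nat.card A = Nat.card G := hcompl.card_mul_card
  have hcop : (Nat.card A).Coprime (Nat.card K) := by
    rw [← hcompl.index_eq_card]; exact hHall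
  -- commutators lie in `K`
  have hcK : ∀ u v : G, ⁅u, v⁆ ∈ K := fun u v => by
    rw [hK, MonoidHom.mem_ker, map_commutatorElement, commutatorElement_eq_one_iff_mul_comm]
    exact mul_comm _ _
  suffices hKc : ⁅K, K⁆ = ⊥ by
    intro u v w z
    rw [← mem_bot, ← hKc]
    exact commutator_mem_commutator (hcK u v) (hcK w z)
  by_cases hK0 : K = ⊥
  · rw [hK0]; exact eq_bot_iff.mpr (commutator_le_self _)
  -- `K` is a `p`-group
  obtain ⟨p, hp, hpK⟩ := Nat.exists_prime_and_dvd (mt (card_eq_one (H := K)).mp hK0)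
  haveI := Fact.mk hp
  obtain ⟨P⟩ : Nonempty (Sylow p K) := inferInstance
  set P₁ := (P : Subgroup K).map K.subtype with hP₁
  have hP1p : IsPGroup p P₁ := P.isPGroup'.map _
  have hP1K : P₁ ≤ K := map_subtype_le _
  have hP1ne : P₁ ≠ ⊥ := by
    rw [hP₁, Ne, map_eq_bot_iff_of_injective _ K.subtype_injective]
    exact P.ne_bot_of_dvd_card hpK
  set N := normalizer (P₁ : Set G) with hN
  have hNK : N ⊔ K = ⊤ := Sylow.normalizer_sup_eq_top P
  have hidx : (K.subgroupOf N).index = Nat.card A := by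
    show K.relIndex N = _
    rw [← relIndex_sup_right (H := N) (K := K), hNK, relIndex_top_right, hKidx]
  have hco : (Nat.card (K.subgroupOf N)).Coprime (K.subgroupOf N).index := by
    rw [hidx]
    refine (hcop.coprime_dvd_right ?_).symm
    rw [← card_map_of_injective N.subtype_injective, subgroupOf_map_subtype]
    exact card_dvd_of_le inf_le_left
  obtain ⟨B₀, hB₀⟩ := exists_right_complement'_of_coprime hco
  have hB0card : Nat.card B₀ = Nat.card A := by rw [← hB₀.symm.index_eq_card, hidx]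
  set B := B₀.map N.subtype with hB
  have hBcard : Nat.card B = Nat.card A := by
    rw [hB, card_map_of_injective N.subtype_injective, hB0card]
  have hBK : B ⊓ K = ⊥ := disjoint_iff.mp
    (disjoint_of_coprime_natCard (by rw [hBcard]; exact hcop))
  have hBc : ∀ x ∈ B, ∀ y ∈ B, x * y = y * x := by
    intro x hx y hy
    have h : ⁅x, y⁆ ∈ B ⊓ K := ⟨by
      rw [commutatorElement_def]; exact B.mul_mem (B.mul_mem (B.mul_mem hx hy) (B.inv_mem hx)) (B.inv_mem hy), hcK x y⟩
    rw [hBK, mem_bot, commutatorElement_eq_one_iff_mul_comm] at h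
    exact h
  -- `B` is conjugate to `A`
  obtain ⟨q, hq, hqA⟩ := Nat.exists_prime_and_dvd (mt (card_eq_one (H := A)).mp hne)
  haveI := Fact.mk hq
  obtain ⟨b, hb⟩ := exists_prime_orderOf_dvd_card' (G := B) q (hBcard ▸ hqA)
  obtain ⟨T⟩ : Nonempty (Sylow q A) := inferInstance
  have hTp : IsPGroup q ((T : Subgroup A).map A.subtype) := T.isPGroup'.map _
  have hTidx : ¬ q ∣ ((T : Subgroup A).map A.subtype).index := by
    rw [← relIndex_mul_index (map_subtype_le (T : Subgroup A))]
    intro hd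
    rcases hq.dvd_mul.mp hd with h | h
    · apply T.not_dvd_index
      rwa [relIndex, subgroupOf, comap_map_eq_self_of_injective A.subtype_injective] at h
    · exact Nat.not_coprime_of_dvd_of_dvd hq.one_lt hqA h hHall
  have hbp : IsPGroup q (zpowers (b : G)) := IsPGroup.of_card (n := 1) (by
    rw [Nat.card_zpowers, orderOf_coe, hb, pow_one])
  obtain ⟨g, hg⟩ := exists_conj_le_sylow (hTp.toSylow hTidx) hbp
  have hgA : g * (b : G) * g⁻¹ ∈ A :=
    map_subtype_le (T : Subgroup A) (hg (mem_map_of_mem _ (mem_zpowers (b : G))))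
  have hgb1 : g * (b : G) * g⁻¹ ≠ 1 := by
    intro e
    have : (b : G) = 1 := conj_eq_one_iff.mp e
    rw [OneMemClass.coe_eq_one] at this
    rw [this, orderOf_one] at hb
    exact hq.ne_one hb.symm
  have hBA : B.map (MulAut.conj g).toMonoidHom ≤ A := by
    rintro _ ⟨y, hy, rfl⟩
    apply hC _ hgA hgb1
    rw [mem_centralizer_iff]
    rintro t rfl
    show g * (b : G) * g⁻¹ * (g * y * g⁻¹) = g * y * g⁻¹ * (g * (b : G) * g⁻¹)
    have := hBc b b.2 y hy
    calc g * (b : G) * g⁻¹ * (g * y * g⁻¹) = g * ((b : G) * y) * g⁻¹ := by group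
      _ = g * (y * (b : G)) * g⁻¹ := by rw [this]
      _ = _ := by group
  have hBA' : B.map (MulAut.conj g).toMonoidHom = A :=
    eq_of_le_of_card_ge hBA (by rw [card_map_of_injective (MulAut.conj g).injective, hBcard])
  set P₂ := P₁.map (MulAut.conj g).toMonoidHom with hP₂
  have hAP : A ≤ normalizer (P₂ : Set G) := by
    rw [← hBA']
    exact le_trans (map_mono (map_subtype_le _)) (le_normalizer_map _)
  have hP2K : P₂ ≤ K := by
    rintro _ ⟨y, hy, rfl⟩
    exact (inferInstance : K.Normal).conj_mem y (hP1K hy) g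
  have hP2ne : ¬ P₂ ≤ A := by
    intro h
    apply hP1ne
    rw [← map_eq_bot_iff_of_injective (f := (MulAut.conj g).toMonoidHom) _ (MulAut.conj g).injective,
      ← hP₂, eq_bot_iff, ← hKA]
    exact le_inf hP2K h
  have htop : P₂ ⊔ A = ⊤ := hM.2 _ (by rw [sup_comm]; exact left_lt_sup.mpr hP2ne)
  have hKP : K ≤ P₂ := by
    intro k hk
    have : k ∈ (↑(P₂ ⊔ A) : Set G) := by rw [htop]; trivial
    rw [coe_mul_of_right_le_normalizer_left P₂ A hAP] at this
    obtain ⟨u, hu, a, ha, rfl⟩ := this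
    have haK : a ∈ K ⊓ A := ⟨by
      have := mul_mem (inv_mem (hP2K hu)) hk
      rwa [inv_mul_cancel_left] at this, ha⟩
    rw [hKA, mem_bot] at haK
    simpa [haK] using hu
  have hKp : IsPGroup p K := (hP1p.map _).to_le hKP
  -- so `K' < K` and `K' = 1` by maximality
  haveI : ⁅K, K⁆.Normal := inferInstance
  have hlt : ⁅K, K⁆ ≠ K := by
    intro e
    haveI : Nontrivial K := (nontrivial_iff_ne_bot K).mpr hK0
    haveI : Group.IsNilpotent K := hKp.isNilpotent
    haveI : Group.IsSolvable K := inferInstance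
    have h := Group.IsSolvable.commutator_lt_top_of_nontrivial K
    apply h.ne
    apply map_injective K.subtype_injective
    rw [map_subtype_commutator, e, ← MonoidHom.range_eq_map, range_subtype]
  by_contra hne'
  have hnA : ¬ ⁅K, K⁆ ≤ A := fun h => hne' (eq_bot_iff.mpr (hKA ▸ le_inf (commutator_le_self K) h))
  have htop2 : ⁅K, K⁆ ⊔ A = ⊤ := hM.2 _ (by rw [sup_comm]; exact left_lt_sup.mpr hnA)
  apply hlt
  refine le_antisymm (commutator_le_self K) fun k hk => ?_
  have : k ∈ (↑(⁅K, K⁆ ⊔ A) : Set G) := by rw [htop2]; trivial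
  rw [normal_mul] at this
  obtain ⟨u, hu, a, ha, rfl⟩ := this
  have haK : a ∈ K ⊓ A := ⟨by
    have := mul_mem (inv_mem (commutator_le_self K hu)) hk
    rwa [inv_mul_cancel_left] at this, ha⟩
  rw [hKA, mem_bot] at haK
  simpa [haK] using hu

end Cfsg.Agent.H31
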