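import Cfsg.Agent.H31.FFPlane
import Cfsg.Agent.Coprime.Generation
import Cfsg.Agent.Coprime.Centralize
import Cfsg.Agent.Cores.PCore

/-!
Failure of factorization: best offenders on `V` in a group with self-centralizing `p'`-core are
generated by transvections, and each transvection lies in an `SL(2, p)`.
-/

set_option autoImplicit false

namespace Cfsg.Agent.H31.FF

open Subgroup
open scoped Pointwise commutatorElement

variable {G : Type*} [Group G] {p : ℕ} {V H : Subgroup G}

/-- The `p'`-core of `H`, inside `G`. -/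
abbrev core (p : ℕ) (H : Subgroup G) : Subgroup G := (Cfsg.pPrimeCore p H).map H.subtype

/-- The setting. -/
structure Setting (p : ℕ) (V H : Subgroup G) : Prop extends Faith p V H where
  hS1 : centralizer (Cfsg.pPrimeCore p ↥H : Set ↥H) ≤ Cfsg.pPrimeCore p ↥H

namespace Setting

theorem core_le : core p H ≤ H := map_subtype_le _

theorem le_normalizer_core : H ≤ normalizer (core p H : Set G) := by
  have h1 := Subgroup.le_normalizer_map (H := Cfsg.pPrimeCore p H) H.subtype
  rwa [normalizer_eq_top, ← MonoidHom.range_eq_map, range_subtype] at h1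

theorem mem_core_iff {g : G} (hg : g ∈ H) : g ∈ core p H ↔ (⟨g, hg⟩ : H) ∈ Cfsg.pPrimeCore p H := by
  constructor
  · rintro ⟨y, hy, e⟩
    rwa [show (⟨g, hg⟩ : H) = y from Subtype.ext e.symm]
  · exact fun h => ⟨_, h, rfl⟩

theorem mem_core_of_centralizes (h : Setting p V H) {g : G} (hg : g ∈ H)
    (hc : g ∈ centralizer (core p H : Set G)) : g ∈ core p H := by
  rw [mem_core_iff hg]
  exact h.hS1 (mem_centralizer_iff.mpr fun y hy =>
    Subtype.ext (mem_centralizer_iff.mp hc _ ⟨y, hy, rfl⟩))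

/-- The quotient map by the core. -/
abbrev quot (p : ℕ) (H : Subgroup G) : H →* H ⧸ Cfsg.pPrimeCore p H :=
  QuotientGroup.mk' _

theorem quot_eq_one_iff {g : G} (hg : g ∈ H) : quot p H ⟨g, hg⟩ = 1 ↔ g ∈ core p H := by
  rw [mem_core_iff hg]; exact QuotientGroup.eq_one_iff _

section Finite

variable [Finite G] [hp : Fact p.Prime]

theorem coprime_card_core : (Nat.card (core p H)).Coprime p := by
  rw [Subgroup.card_map_of_injective H.subtype_injective]
  exact Cores.coprime_card_pPrimeCore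

theorem not_dvd_card_core : ¬ p ∣ Nat.card (core p H) := fun h => by
  have := Nat.eq_one_of_dvd_coprimes (coprime_card_core (p := p) (H := H)) h dvd_rfl
  exact hp.out.ne_one this

theorem eq_one_of_mem_core {g : G} (hg : g ∈ core p H) {k : ℕ} (hk : g ^ p ^ k = 1) : g = 1 := by
  rw [← orderOf_eq_one_iff]
  exact Nat.eq_one_of_dvd_coprimes ((coprime_card_core (p := p) (H := H)).pow_right k)
    (orderOf_dvd_natCard _ hg) (orderOf_dvd_of_pow_eq_one hk)

theorem eq_one_of_mem_core_of_isPGroup {g : G} (hg : g ∈ core p H) {P : Subgroup G}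
    (hP : IsPGroup p P) (hgP : g ∈ P) : g = 1 := by
  obtain ⟨k, hk⟩ := hP ⟨g, hgP⟩
  exact eq_one_of_mem_core hg (k := k) (congrArg Subtype.val hk)

theorem eq_bot_of_centralizes (h : Setting p V H) {A : Subgroup G} (hA : A ≤ H) (hAp : IsPGroup p A)
    (hc : core p H ≤ centralizer (A : Set G)) : A = ⊥ :=
  (eq_bot_iff_forall _).mpr fun a ha => eq_one_of_mem_core_of_isPGroup
    (h.mem_core_of_centralizes (hA ha) (le_centralizer_iff.mp hc ha)) hAp ha

/-- Best offenders are elementary abelian. -/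
theorem offender_comm (h : Setting p V H) {A : Subgroup G} (hAH : A ≤ H)
    (hA : Cfsg.IsBestOffenderOn p V A) : (∀ x ∈ A, ∀ y ∈ A, x * y = y * x) ∧ ∀ a ∈ A, a ^ p = 1 := by
  refine ⟨fun x hx y hy => ?_, fun a ha => h.eq_one (pow_mem (hAH ha) p) (hA.2.2 a ha)⟩
  have h1 : ⁅x, y⁆ = 1 := by
    refine h.eq_one ?_ (hA.2.1 (commutator_mem_commutator hx hy))
    rw [commutatorElement_def]
    exact mul_mem (mul_mem (mul_mem (hAH hx) (hAH hy)) (inv_mem (hAH hx))) (inv_mem (hAH hy))
  exact commutatorElement_eq_one_iff_mul_comm.mp h1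

theorem offender_isPGroup (h : Setting p V H) {A : Subgroup G} (hAH : A ≤ H)
    (hA : Cfsg.IsBestOffenderOn p V A) : IsPGroup p A := fun a =>
  ⟨1, by rw [pow_one]; exact Subtype.ext ((h.offender_comm hAH hA).2 a a.2)⟩

/-- A hyperplane of an offender seen by the core. -/
def Good (p : ℕ) (H A B : Subgroup G) : Prop :=
  B ≤ A ∧ (∃ a ∈ A, B ⊔ zpowers a = A) ∧
    ¬ core p H ⊓ centralizer (B : Set G) ≤ centralizer (A : Set G)

theorem le_of_good_le (h : Setting p V H) {A : Subgroup G} (hAH : A ≤ H)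
    (hA : Cfsg.IsBestOffenderOn p V A) {M : Subgroup G} (hM : centralizer (A : Set G) ≤ M)
    (hgood : ∀ B : Subgroup G, Good p H A B → core p H ⊓ centralizer (B : Set G) ≤ M) :
    core p H ≤ M := by
  haveI : IsMulCommutative A :=
    Thompson.isMulCommutative_iff_forall.mpr (h.offender_comm hAH hA).1
  refine Coprime.le_of_centralizer_cyclic_quotient_le (A := A) (hAH.trans le_normalizer_core) ?_
    fun B hBA hcyc => ?_
  · obtain ⟨k, hk⟩ := IsPGroup.iff_card.mp (h.offender_isPGroup hAH hA)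
    rw [hk]; exact ((coprime_card_core (p := p) (H := H)).symm.pow_left k)
  · by_cases hb : core p H ⊓ centralizer (B : Set G) ≤ centralizer (A : Set G)
    · exact hb.trans hM
    · exact hgood B ⟨hBA, hcyc, hb⟩

theorem exists_good (h : Setting p V H) {A : Subgroup G} (hAH : A ≤ H)
    (hA : Cfsg.IsBestOffenderOn p V A) (hne : A ≠ ⊥) : ∃ B, Good p H A B := by
  by_contra hcon
  push Not at hcon
  exact hne (h.eq_bot_of_centralizes hAH (h.offender_isPGroup hAH hA)
    (h.le_of_good_le hAH hA le_rfl fun B hB => absurd hB (hcon B)))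

theorem good_spec (h : Setting p V H) {A B : Subgroup G} (hAH : A ≤ H)
    (hA : Cfsg.IsBestOffenderOn p V A) (hB : Good p H A B) :
    Nat.card A = p * Nat.card B ∧ offWeight V B = offWeight V A ∧
      Cfsg.IsBestOffenderOn p V B := by
  obtain ⟨hBA, ⟨a, ha, hgen⟩, hnc⟩ := hB
  obtain ⟨hcomm, hpow⟩ := h.offender_comm hAH hA
  have haB : a ∉ B := fun haB => hnc (by
    rw [← hgen, sup_of_le_left (zpowers_le.mpr haB)]; exact inf_le_right)
  have hord : orderOf a = p := orderOf_eq_prime (hpow a ha) fun e => haB (e ▸ one_mem B)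
  have hcard : Nat.card A = p * Nat.card B := by
    have h1 := card_sup_mul_card_inf (A := B) (B := zpowers a) (zpowers_le.mpr
      (centralizer_le_normalizer _ (mem_centralizer_iff.mpr fun b hb => hcomm b (hBA hb) a ha)))
    have h2 : B ⊓ zpowers a = ⊥ := by
      refine (eq_bot_iff_forall _).mpr fun x hx => by_contra fun hx1 => haB ?_
      obtain ⟨i, rfl⟩ := mem_powers_iff_mem_zpowers.mpr hx.2
      have hcop : i.Coprime (orderOf a) := by
        rw [hord]
        refine ((Nat.Prime.coprime_iff_not_dvd hp.out).mpr fun ⟨k, hk⟩ => hx1 ?_).symm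
        show a ^ i = 1
        rw [hk, pow_mul, hpow a ha, one_pow]
      obtain ⟨m, hm⟩ := exists_pow_eq_self_of_coprime hcop
      rw [← hm]; exact pow_mem hx.1 m
    rw [h2, Subgroup.card_bot, mul_one, hgen, Nat.card_zpowers, hord, mul_comm] at h1
    exact h1
  have hle := hA.1 B hBA
  set U := V ⊓ centralizer (B : Set G) with hU
  set C := V ⊓ centralizer (A : Set G) with hC
  have hCU : C < U := by
    refine lt_of_le_of_ne (inf_le_inf_left V (centralizer_le (SetLike.coe_subset_coe.mpr hBA)))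
      fun e => hnc fun y hy => ?_
    -- `a` and hence `[a, y]` fixes `U`
    have hyA : ∀ x ∈ A, y * x * y⁻¹ * x⁻¹ = 1 := by
      intro x hx
      set z := y * x * y⁻¹ * x⁻¹ with hz
      have hzF : z ∈ core p H := by
        have := (mem_normalizer_iff.mp (le_normalizer_core (hAH hx)) _).mp (inv_mem hy.1)
        simpa [hz, mul_assoc] using mul_mem hy.1 this
      refine h.eq_one (core_le hzF) ?_
      have hBp : IsPGroup p B := (h.offender_isPGroup hAH hA).to_le hBA
      have hzB : z ∈ centralizer (B : Set G) := by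
        have hxB : x ∈ centralizer (B : Set G) :=
          mem_centralizer_iff.mpr fun b hb => hcomm b (hBA hb) x hx
        exact mul_mem (mul_mem (mul_mem hy.2 hxB) (inv_mem hy.2)) (inv_mem hxB)
      have hcopz : (Nat.card (zpowers z)).Coprime p :=
        (coprime_card_core (p := p) (H := H)).coprime_dvd_left
          (Subgroup.card_dvd_of_le (zpowers_le.mpr hzF))
      have h3 := Coprime.thompson_AxB (P := B) (Q := zpowers z) hBp hcopz
        (le_centralizer_iff.mp (zpowers_le.mpr hzB)) V h.isPGroup ((hBA.trans hAH).trans h.hHV)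
        (zpowers_le.mpr (h.hHV (core_le hzF))) (by
          intro v hv
          rw [centralizer_zpowers_eq, mem_centralizer_singleton_iff]
          have hfix : ∀ w ∈ U, x * w = w * x := fun w hw =>
            (mem_centralizer_iff.mp (e.ge hw : w ∈ C).2 x hx)
          have hyU : ∀ w ∈ U, y⁻¹ * w * y ∈ U := fun w hw => ⟨by
              simpa using (mem_normalizer_iff.mp (h.hHV (inv_mem (core_le hy.1))) w).mp hw.1,
            (mul_mem (mul_mem (inv_mem hy.2) hw.2) hy.2 :
              y⁻¹ * w * y ∈ centralizer (B : Set G))⟩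
          have h4 : x⁻¹ * v * x = v := by rw [mul_assoc, ← hfix v hv, inv_mul_cancel_left]
          have h5 := hfix _ (hyU v hv)
          calc v * z = v * y * x * y⁻¹ * x⁻¹ := by rw [hz]; group
            _ = y * ((y⁻¹ * v * y) * x) * y⁻¹ * x⁻¹ := by group
            _ = y * (x * (y⁻¹ * v * y)) * y⁻¹ * x⁻¹ := by rw [h5]
            _ = y * x * y⁻¹ * x⁻¹ * (x * v * x⁻¹) := by group
            _ = z * v := by rw [← hz, hfix v hv, mul_inv_cancel_right])
      exact h3 (mem_zpowers z)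
    rw [mem_centralizer_iff]
    intro x hx
    have h6 := hyA x hx
    calc x * y = (y * x * y⁻¹ * x⁻¹) * (x * y) := by rw [h6, one_mul]
      _ = y * x := by group
  obtain ⟨i, hi⟩ := IsPGroup.iff_card.mp (h.isPGroup.to_le (inf_le_left : U ≤ V))
  obtain ⟨j, hj⟩ := IsPGroup.iff_card.mp (h.isPGroup.to_le (inf_le_left : C ≤ V))
  have hji : j < i := by
    have h1 : Nat.card C < Nat.card U := by
      refine lt_of_le_of_ne (Subgroup.card_le_of_le hCU.le) fun e => hCU.ne ?_
      exact Subgroup.eq_of_le_of_card_ge hCU.le e.ge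
    rw [hi, hj] at h1
    exact (Nat.pow_lt_pow_iff_right hp.out.one_lt).mp h1
  have hweq : offWeight V B = offWeight V A := by
    refine le_antisymm hle ?_
    show Nat.card A * Nat.card C ≤ Nat.card B * Nat.card U
    rw [hcard, hj, hi]
    calc p * Nat.card B * p ^ j = Nat.card B * p ^ (j + 1) := by ring
      _ ≤ _ := Nat.mul_le_mul_left _ (Nat.pow_le_pow_right hp.out.pos hji)
  exact ⟨hcard, hweq, fun B' hB' => (hA.1 B' (hB'.trans hBA)).trans_eq hweq.symm,
    (commutator_mono hBA hBA).trans hA.2.1, fun b hb => hA.2.2 b (hBA hb)⟩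

omit hp in
theorem offWeight_bot : offWeight V (⊥ : Subgroup G) = Nat.card V := by
  have h1 : V ⊓ centralizer ((⊥ : Subgroup G) : Set G) = V :=
    inf_eq_left.mpr (le_centralizer_iff.mp bot_le)
  rw [offWeight, h1, Subgroup.card_bot, one_mul]

theorem weight_eq (h : Setting p V H) (n : ℕ) : ∀ A : Subgroup G, Nat.card A ≤ n → A ≤ H →
    Cfsg.IsBestOffenderOn p V A → offWeight V A = Nat.card V := by
  induction n with
  | zero => intro A hn; exact absurd hn (by have := Nat.card_pos (α := A); omega)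
  | succ n ih =>
    intro A hn hAH hA
    rcases eq_or_ne A ⊥ with rfl | hne
    · exact offWeight_bot
    obtain ⟨B, hB⟩ := h.exists_good hAH hA hne
    obtain ⟨hc, hw, hBo⟩ := h.good_spec hAH hA hB
    rw [← hw]
    refine ih B ?_ (hB.1.trans hAH) hBo
    have h1 : 2 * Nat.card B ≤ p * Nat.card B := Nat.mul_le_mul_right _ hp.out.two_le
    have := Nat.card_pos (α := B)
    omega

theorem le_closure_tv (h : Setting p V H) (n : ℕ) : ∀ A : Subgroup G, Nat.card A ≤ n → A ≤ H →
    Cfsg.IsBestOffenderOn p V A → A ≤ closure {a | a ∈ A ∧ IsTv p V H a} := by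
  induction n with
  | zero => intro A hn; exact absurd hn (by have := Nat.card_pos (α := A); omega)
  | succ n ih =>
    intro A hn hAH hA
    set T := closure {a | a ∈ A ∧ IsTv p V H a} with hT
    have hTA : T ≤ A := (closure_le _).mpr fun _ ha => ha.1
    rcases eq_or_ne A ⊥ with rfl | hne
    · exact bot_le
    have hgoodT : ∀ B : Subgroup G, Good p H A B → B ≤ T := by
      intro B hB
      obtain ⟨hc, -, hBo⟩ := h.good_spec hAH hA hB
      have h1 : 2 * Nat.card B ≤ p * Nat.card B := Nat.mul_le_mul_right _ hp.out.two_le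
      have := Nat.card_pos (α := B)
      exact (ih B (by omega) (hB.1.trans hAH) hBo).trans
        (closure_mono fun a ha => ⟨hB.1 ha.1, ha.2⟩)
    by_contra hcon
    obtain ⟨B, hB⟩ := h.exists_good hAH hA hne
    obtain ⟨hc, -, -⟩ := h.good_spec hAH hA hB
    have hBT : B = T := by
      rcases (hgoodT B hB).eq_or_lt with e | hlt
      · exact e
      · exact absurd (eq_of_lt_of_card_mul hlt hTA hc).ge hcon
    have huniq : ∀ B' : Subgroup G, Good p H A B' → B' = B := by
      intro B' hB'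
      obtain ⟨hc', -, -⟩ := h.good_spec hAH hA hB'
      rcases (hgoodT B' hB').eq_or_lt with e | hlt
      · rw [e, hBT]
      · exact absurd (eq_of_lt_of_card_mul hlt hTA hc').ge hcon
    have hFB : core p H ≤ centralizer (B : Set G) :=
      h.le_of_good_le hAH hA (centralizer_le (SetLike.coe_subset_coe.mpr hB.1))
        fun B' hB' => huniq B' hB' ▸ inf_le_right
    have hB1 : B = ⊥ := h.eq_bot_of_centralizes (hB.1.trans hAH)
      ((h.offender_isPGroup hAH hA).to_le hB.1) hFB
    rw [hB1, Subgroup.card_bot, mul_one] at hc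
    obtain ⟨⟨a, ha⟩, ha1⟩ := @exists_ne _ (A.nontrivial_iff_ne_bot.mpr hne) (1 : A)
    have ha' : a ≠ 1 := fun e => ha1 (Subtype.ext e)
    have hord : orderOf a = p := orderOf_eq_prime ((h.offender_comm hAH hA).2 a ha) ha'
    have hAeq : zpowers a = A := Subgroup.eq_of_le_of_card_ge (zpowers_le.mpr ha)
      (by rw [Nat.card_zpowers, hord, hc])
    have hw := h.weight_eq (Nat.card A) A le_rfl hAH hA
    rw [offWeight, hc, ← hAeq, centralizer_zpowers_eq] at hw
    have hrel : (ax V a).relIndex V = p := by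
      have h1 := relIndex_mul_card_inf V (ax V a)
      rw [inf_of_le_right (inf_le_left : ax V a ≤ V), ← hw] at h1
      exact Nat.eq_of_mul_eq_mul_right Nat.card_pos h1
    refine hcon ?_
    rw [← hAeq, zpowers_le]
    exact subset_closure ⟨ha, hAH ha, hord, hrel⟩

theorem tv_offender (h : Setting p V H) {a : G} (ha : IsTv p V H a) :
    Cfsg.IsBestOffenderOn p V (zpowers a) ∧ ⁅V, zpowers a⁆ ≠ ⊥ ∧
      Nat.card (zpowers a) = p ∧ Nat.card ↥(⁅V, zpowers a⁆) = p ∧
      (V ⊓ centralizer ((zpowers a : Subgroup G) : Set G)).relIndex V = p := by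
  have hcard : Nat.card (zpowers a) = p := by rw [Nat.card_zpowers, ha.2.1]
  have hax : V ⊓ centralizer ((zpowers a : Subgroup G) : Set G) = ax V a := by
    rw [centralizer_zpowers_eq]
  have hweight : offWeight V (zpowers a) = Nat.card V := by
    have h1 := relIndex_mul_card_inf V (ax V a)
    rw [inf_of_le_right (inf_le_left : ax V a ≤ V), ha.2.2] at h1
    rw [offWeight, hcard, hax, h1]
  obtain ⟨s, hs', hsA⟩ := ha.exists_not_mem
  obtain ⟨h1, h2, h3, -⟩ := ha.spec h.toFaith hs' hsA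
  refine ⟨⟨fun B hB => ?_, ?_, fun b hb => ?_⟩, ?_, hcard, ?_, by rw [hax]; exact ha.2.2⟩
  · show offWeight V B ≤ offWeight V (zpowers a)
    rcases (Nat.dvd_prime hp.out).mp (hcard ▸ Subgroup.card_dvd_of_le hB) with e | e
    · rw [Subgroup.card_eq_one.mp e, offWeight_bot, hweight]
    · rw [Subgroup.eq_of_le_of_card_ge hB (by rw [hcard, e])]
  · have : ⁅zpowers a, zpowers a⁆ = ⊥ := by
      rw [commutator_eq_bot_iff_le_centralizer, centralizer_zpowers_eq, zpowers_le,
        mem_centralizer_singleton_iff]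
    rw [this]; exact bot_le
  · obtain ⟨i, rfl⟩ := mem_zpowers_iff.mp hb
    have : (a ^ i) ^ p = 1 := by
      rw [← zpow_natCast, zpow_comm, zpow_natCast, ← ha.2.1, pow_orderOf_eq_one, one_zpow]
    rw [this]; exact one_mem _
  · rw [h3, Ne, zpowers_eq_bot]; exact h2
  · rw [h3, Nat.card_zpowers, h.orderOf_eq_of_ne_one h1.1 h2]

/-- Minimal best offenders are generated by a transvection. -/
theorem exists_eq_zpowers (h : Setting p V H) {A : Subgroup G} (hAH : A ≤ H)
    (hA : Cfsg.IsBestOffenderOn p V A) (hAV : ⁅V, A⁆ ≠ ⊥)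
    (hmin : ∀ B : Subgroup G, B ≤ A → Cfsg.IsBestOffenderOn p V B → ⁅V, B⁆ ≠ ⊥ → B = A) :
    ∃ a, IsTv p V H a ∧ A = zpowers a := by
  have hne : A ≠ ⊥ := fun e => hAV (by rw [e, commutator_bot_right])
  have hex : ∃ a ∈ A, IsTv p V H a := by
    by_contra hcon
    push Not at hcon
    have he : {a | a ∈ A ∧ IsTv p V H a} = (∅ : Set G) :=
      Set.eq_empty_of_forall_notMem fun a ha => hcon a ha.1 ha.2
    have := h.le_closure_tv (Nat.card A) A le_rfl hAH hA
    rw [he, Subgroup.closure_empty] at this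
    exact hne (le_bot_iff.mp this)
  obtain ⟨a, ha, hat⟩ := hex
  obtain ⟨h1, h2, -⟩ := h.tv_offender hat
  exact ⟨a, hat, (hmin _ (zpowers_le.mpr ha) h1 h2).symm⟩

/-! ### The block of a transvection -/

/-- `[F, a]`. -/
abbrev nblk (p : ℕ) (H : Subgroup G) (a : G) : Subgroup G := ⁅core p H, zpowers a⁆

/-- `[F, a]⟨a⟩`. -/
abbrev blk (p : ℕ) (H : Subgroup G) (a : G) : Subgroup G := nblk p H a ⊔ zpowers a

theorem nblk_le_core {a : G} (ha : a ∈ H) : nblk p H a ≤ core p H :=
  le_normalizer_iff_commutator_le_left.mp (zpowers_le.mpr (le_normalizer_core ha))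

theorem exists_noncomm (h : Setting p V H) {a : G} (ha : IsTv p V H a) :
    ∃ x ∈ core p H, x ∉ centralizer ((zpowers a : Subgroup G) : Set G) := by
  by_contra hcon
  push Not at hcon
  have hPa : IsPGroup p (zpowers a) :=
    IsPGroup.of_card (n := 1) (by rw [Nat.card_zpowers, ha.2.1, pow_one])
  have := h.eq_bot_of_centralizes (zpowers_le.mpr ha.mem) hPa hcon
  rw [zpowers_eq_bot] at this
  have h1 := ha.2.1
  rw [this, orderOf_one] at h1
  exact hp.out.one_lt.ne h1

theorem quot_conj_mem {a f g : G} (ha : a ∈ H) (hf : f ∈ core p H) (hg : g ∈ core p H) :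
    f * a * f⁻¹ * (g * a * g⁻¹)⁻¹ ∈ core p H := by
  have h1 := (mem_normalizer_iff.mp (le_normalizer_core ha) _).mp (mul_mem (inv_mem hf) hg)
  have e : f * a * f⁻¹ * (g * a * g⁻¹)⁻¹ = f * (a * (f⁻¹ * g) * a⁻¹) * g⁻¹ := by group
  rw [e]
  exact mul_mem (mul_mem hf h1) (inv_mem hg)

theorem notPGroup_pair {a x : G} (ha : IsTv p V H a) (hx : x ∈ core p H)
    (hxa : x ∉ centralizer ((zpowers a : Subgroup G) : Set G)) :
    ¬ IsPGroup p (zpowers a ⊔ zpowers (x * a * x⁻¹) : Subgroup G) := by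
  intro hP
  refine hxa ?_
  have h1 : x * a * x⁻¹ * (1 * a * 1⁻¹)⁻¹ ∈ core p H := quot_conj_mem ha.mem hx (one_mem _)
  have h2 := eq_one_of_mem_core_of_isPGroup h1 hP (by
    simpa using mul_mem (mem_sup_right (S := zpowers a) (mem_zpowers (x * a * x⁻¹)))
      (inv_mem (mem_sup_left (T := zpowers (x * a * x⁻¹)) (mem_zpowers a))))
  rw [centralizer_zpowers_eq, mem_centralizer_singleton_iff]
  rw [one_mul, inv_one, mul_one, mul_inv_eq_one, mul_inv_eq_iff_eq_mul] at h2
  exact h2

theorem exists_blk_plane (h : Setting p V H) {a x : G} (ha : IsTv p V H a) (hx : x ∈ core p H)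
    (hxa : x ∉ centralizer ((zpowers a : Subgroup G) : Set G)) :
    ∃ t u : G, ∃ P : Plane p V H a (x * a * x⁻¹) t u, P.L = blk p H a := by
  obtain ⟨t, u, P⟩ := exists_plane h.toFaith ha (ha.conj h.toFaith (core_le hx))
    (notPGroup_pair ha hx hxa)
  refine ⟨t, u, P, le_antisymm (sup_le le_sup_right (zpowers_le.mpr ?_)) (sup_le ?_ le_sup_left)⟩
  · have e : x * a * x⁻¹ = ⁅x, a⁆ * a := by rw [commutatorElement_def]; group
    rw [e]
    exact mul_mem (mem_sup_left (commutator_mem_commutator hx (mem_zpowers a)))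
      (mem_sup_right (mem_zpowers a))
  -- every conjugate of `a` under the core lies in `⟨a, x a x⁻¹⟩`
  have key : ∀ y ∈ core p H, y * a * y⁻¹ ∈ P.L := by
    intro y hy
    set c := y * a * y⁻¹ with hc
    have hct : IsTv p V H c := ha.conj h.toFaith (core_le hy)
    obtain ⟨w, hw, hw1⟩ : ∃ w ∈ P.W ⊓ ax V c, w ≠ 1 := by
      by_contra hcon
      push Not at hcon
      have hbot : P.W ⊓ ax V c = ⊥ := (eq_bot_iff_forall _).mpr hcon
      have h1 := card_sup_mul_card_inf (A := P.W) (B := ax V c)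
        (fun v hv => centralizer_le_normalizer _ (mem_centralizer_iff.mpr fun z hz =>
          h.comm (P.W_le hz) hv.1))
      rw [hbot, Subgroup.card_bot, mul_one, P.card_W h.toFaith] at h1
      have h2 := relIndex_mul_card_inf V (ax V c)
      rw [inf_of_le_right (inf_le_left : ax V c ≤ V), hct.2.2] at h2
      have h3 : Nat.card (P.W ⊔ ax V c : Subgroup G) ≤ p * Nat.card (ax V c) := by
        rw [h2]; exact Subgroup.card_le_of_le (sup_le P.W_le inf_le_left)
      rw [h1, pow_two] at h3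
      have h4 := Nat.le_of_mul_le_mul_right h3 Nat.card_pos
      have := hp.out.two_le
      nlinarith
    obtain ⟨g, hg, hgt⟩ := P.exists_conj_eq h.toFaith hw.1 hw1
    have hgE : g ∈ (core p H : Set G) * (zpowers a : Set G) := by
      rw [← Subgroup.coe_mul_of_right_le_normalizer_left _ _
        (zpowers_le.mpr (le_normalizer_core ha.mem))]
      refine (sup_le le_sup_right (zpowers_le.mpr ?_) : P.L ≤ core p H ⊔ zpowers a) hg
      exact mul_mem (mul_mem (mem_sup_left hx) (mem_sup_right (mem_zpowers a)))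
        (mem_sup_left (inv_mem hx))
    obtain ⟨f, hf, d, hd, rfl⟩ := hgE
    obtain ⟨i, rfl⟩ := mem_zpowers_iff.mp hd
    have hga : f * a ^ i * a * (f * a ^ i)⁻¹ = f * a * f⁻¹ := by group
    have ha0 : f * a * f⁻¹ ∈ P.L := hga ▸
      mul_mem (mul_mem hg (mem_sup_left (mem_zpowers a))) (inv_mem hg)
    have hdt : a ^ i * t * (a ^ i)⁻¹ = t := by
      have : Commute a t := (mem_centralizer_singleton_iff.mp P.htP.2).symm
      rw [(this.zpow_left i).eq, mul_inv_cancel_right]
    have hft : f * t * f⁻¹ = w := by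
      rw [← hgt]
      show f * t * f⁻¹ = f * a ^ i * t * (f * a ^ i)⁻¹
      calc f * t * f⁻¹ = f * (a ^ i * t * (a ^ i)⁻¹) * f⁻¹ := by rw [hdt]
        _ = f * a ^ i * t * (f * a ^ i)⁻¹ := by group
    have hcomm : ⁅V, zpowers (f * a * f⁻¹)⁆ = zpowers w := by
      have e1 : (⁅V, zpowers a⁆).map (MulAut.conj f).toMonoidHom =
          ⁅V, zpowers (f * a * f⁻¹)⁆ := by
        rw [map_commutator, MonoidHom.map_zpowers,
          Thompson.map_conj_of_mem_normalizer (h.hHV (core_le hf))]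
        rfl
      rw [← e1, P.hVa, MonoidHom.map_zpowers, ← hft]
      rfl
    have hp2 := isPGroup_of_center_mem (ha.conj h.toFaith (core_le hf)) hct h.toFaith
      (by rw [hcomm, zpowers_le]; exact hw.2)
    have heq : c * (f * a * f⁻¹)⁻¹ = 1 :=
      eq_one_of_mem_core_of_isPGroup (quot_conj_mem ha.mem hy hf) hp2
        (mul_mem (mem_sup_right (mem_zpowers c))
          (inv_mem (mem_sup_left (mem_zpowers (f * a * f⁻¹)))))
    rw [mul_inv_eq_one] at heq
    rwa [heq]
  refine commutator_le.mpr fun y hy d hd => ?_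
  obtain ⟨i, rfl⟩ := mem_zpowers_iff.mp hd
  have e : ⁅y, a ^ i⁆ = (y * a * y⁻¹) ^ i * (a ^ i)⁻¹ := by
    rw [conj_zpow, commutatorElement_def]
  rw [e]
  exact mul_mem (zpow_mem (key y hy) i) (inv_mem (zpow_mem (mem_sup_left (mem_zpowers a)) i))

theorem exists_blk (h : Setting p V H) {a : G} (ha : IsTv p V H a) :
    ∃ x t u : G, ∃ P : Plane p V H a (x * a * x⁻¹) t u, x ∈ core p H ∧ P.L = blk p H a := by
  obtain ⟨x, hx, hxa⟩ := h.exists_noncomm ha
  obtain ⟨t, u, P, hP⟩ := h.exists_blk_plane ha hx hxa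
  exact ⟨x, t, u, P, hx, hP⟩

theorem prime_two_or_three (h : Setting p V H) {a : G} (ha : IsTv p V H a) : p = 2 ∨ p = 3 := by
  obtain ⟨x, t, u, P, hx, hP⟩ := h.exists_blk ha
  by_cases hp2 : p = 2
  · exact Or.inl hp2
  refine Or.inr ?_
  have hLH : P.L ≤ H := (P.L_le h.toFaith).trans (inf_le_left.trans inf_le_left)
  let θ : Matrix.SpecialLinearGroup (Fin 2) (ZMod p) →* H ⧸ Cfsg.pPrimeCore p H :=
    (quot p H).comp ((inclusion hLH).comp (P.equiv h.toFaith).symm.toMonoidHom)
  set α := quot p H ⟨a, ha.mem⟩ with hα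
  have hrange : ∀ M, θ M ∈ zpowers α := by
    intro M
    set g := (P.equiv h.toFaith).symm M
    show quot p H ⟨(g : G), hLH g.2⟩ ∈ zpowers α
    have hg : (g : G) ∈ blk p H a := hP ▸ g.2
    have : blk p H a ≤ ((zpowers α).comap (quot p H)).map H.subtype := by
      refine sup_le (fun z hz => ?_) (zpowers_le.mpr ⟨⟨a, ha.mem⟩, mem_zpowers α, rfl⟩)
      have hz' := nblk_le_core ha.mem hz
      refine ⟨⟨z, core_le hz'⟩, ?_, rfl⟩
      show quot p H ⟨z, core_le hz'⟩ ∈ zpowers α
      rw [(quot_eq_one_iff _).mpr hz']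
      exact one_mem _
    obtain ⟨y, hy, e⟩ := this hg
    rwa [show (⟨(g : G), hLH g.2⟩ : H) = y from Subtype.ext e.symm]
  have hup : θ (Thompson.up 1) = α := by
    have h1 : (P.equiv h.toFaith) ⟨a, mem_sup_left (mem_zpowers a)⟩ = Thompson.up 1 :=
      Subtype.ext (P.exists_images h.toFaith).1
    show quot p H ⟨(((P.equiv h.toFaith).symm (Thompson.up 1) : P.L) : G), _⟩ = _
    simp only [← h1, MulEquiv.symm_apply_apply]
    rfl
  have h2 : (2 : ZMod p) ≠ 0 := by
    intro e
    have h3 : ((2 : ℕ) : ZMod p) = 0 := by exact_mod_cast e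
    exact hp2 ((Nat.prime_dvd_prime_iff_eq hp.out Nat.prime_two).mp
      ((ZMod.natCast_eq_zero_iff _ _).mp h3))
  let d : Matrix.SpecialLinearGroup (Fin 2) (ZMod p) :=
    ⟨!![2, 0; 0, 2⁻¹], by rw [Matrix.det_fin_two]; simp [h2]⟩
  have hconj : d * Thompson.up 1 = Thompson.up (4 : ZMod p) * d := by
    apply Subtype.ext
    show (!![2, 0; 0, 2⁻¹] : Matrix (Fin 2) (Fin 2) (ZMod p)) * !![1, 1; 0, 1] =
      !![1, 4; 0, 1] * !![2, 0; 0, 2⁻¹]
    have h4' : (4 : ZMod p) * 2⁻¹ = 2 := by field_simp; norm_num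
    ext i j
    fin_cases i <;> fin_cases j <;> simp [Matrix.mul_apply, Fin.sum_univ_two, h4']
  have h4 : Thompson.up (4 : ZMod p) = Thompson.up (1 : ZMod p) ^ 4 := by
    rw [Thompson.up_pow]; norm_num
  have h5 := congrArg θ hconj
  rw [map_mul, map_mul, h4, map_pow, hup] at h5
  obtain ⟨k, hk⟩ := mem_zpowers_iff.mp (hrange d)
  rw [← hk, (Commute.self_zpow α k).symm.eq] at h5
  have h6 : α = α ^ 4 := mul_right_cancel h5
  have h7 : (quot p H) (⟨a, ha.mem⟩ ^ 3) = 1 := by
    rw [map_pow, ← hα]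
    have : α * α ^ 3 = α * 1 := by rw [← pow_succ', mul_one]; exact h6.symm
    exact mul_left_cancel this
  have h8 : a ^ 3 ∈ core p H := (quot_eq_one_iff (pow_mem ha.mem 3)).mp h7
  have h9 : a ^ 3 = 1 := eq_one_of_mem_core h8 (k := 1) (by
    rw [pow_one, ← pow_mul, mul_comm, pow_mul, ← ha.2.1, pow_orderOf_eq_one, one_pow])
  have h10 := orderOf_dvd_of_pow_eq_one h9
  rw [ha.2.1] at h10
  exact (Nat.prime_dvd_prime_iff_eq hp.out Nat.prime_three).mp h10

theorem mem_core_of_blk {a g : G} (ha : IsTv p V H a) (hg : g ∈ blk p H a) {m : ℕ}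
    (hm : g ^ m = 1) (hcop : m.Coprime p) : g ∈ nblk p H a := by
  have hnorm : zpowers a ≤ normalizer (nblk p H a : Set G) := by
    rw [zpowers_le]
    refine Thompson.mem_normalizer_of_map_conj ?_
    rw [map_commutator, Thompson.map_conj_of_mem_normalizer (le_normalizer_core ha.mem),
      Thompson.map_conj_of_mem_normalizer (le_normalizer (mem_zpowers a))]
  have hg' : g ∈ (nblk p H a : Set G) * (zpowers a : Set G) := by
    rw [← Subgroup.coe_mul_of_right_le_normalizer_left _ _ hnorm]; exact hg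
  obtain ⟨n, hn, d, hd, rfl⟩ := hg'
  have hdH : d ∈ H := zpowers_le.mpr ha.mem hd
  have hnH : n ∈ H := core_le (nblk_le_core ha.mem hn)
  have hd1 : d = 1 := by
    have hq : quot p H ⟨n * d, mul_mem hnH hdH⟩ = quot p H ⟨d, hdH⟩ := by
      have : (⟨n * d, mul_mem hnH hdH⟩ : H) = ⟨n, hnH⟩ * ⟨d, hdH⟩ := rfl
      rw [this, map_mul, (quot_eq_one_iff hnH).mpr (nblk_le_core ha.mem hn), one_mul]
    have h1 : (quot p H ⟨d, hdH⟩) ^ m = 1 := by
      rw [← hq, ← map_pow, show (⟨n * d, mul_mem hnH hdH⟩ : H) ^ m = 1 from Subtype.ext hm, map_one]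
    have hdp : d ^ p = 1 := by
      obtain ⟨i, rfl⟩ := mem_zpowers_iff.mp hd
      rw [← zpow_natCast, zpow_comm, zpow_natCast, ← ha.2.1, pow_orderOf_eq_one, one_zpow]
    have h2 : (quot p H ⟨d, hdH⟩) ^ p = 1 := by
      rw [← map_pow, show (⟨d, hdH⟩ : H) ^ p = 1 from Subtype.ext hdp, map_one]
    have h3 : quot p H ⟨d, hdH⟩ = 1 := by
      rw [← orderOf_eq_one_iff]
      exact Nat.eq_one_of_dvd_coprimes hcop (orderOf_dvd_of_pow_eq_one h1)
        (orderOf_dvd_of_pow_eq_one h2)
    exact eq_one_of_mem_core ((quot_eq_one_iff hdH).mp h3) (k := 1) (by rw [pow_one]; exact hdp)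
  show n * d ∈ nblk p H a
  rw [hd1, mul_one]; exact hn

omit [Group G] [Finite G] hp in
theorem free_two : ∃ M : Matrix.SpecialLinearGroup (Fin 2) (ZMod 2), M ^ 3 = 1 ∧
    ∀ y : Fin 2 → ZMod 2, ((M ^ (2 - 1) : Matrix.SpecialLinearGroup (Fin 2) (ZMod 2)) :
      Matrix (Fin 2) (Fin 2) (ZMod 2)).mulVec y = y → y = 0 :=
  ⟨⟨!![0, 1; 1, 1], by decide +kernel⟩, by decide +kernel, by decide +kernel⟩

omit [Group G] [Finite G] hp in
theorem free_three : ∃ M : Matrix.SpecialLinearGroup (Fin 2) (ZMod 3), M ^ 4 = 1 ∧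
    ∀ y : Fin 2 → ZMod 3, ((M ^ (3 - 1) : Matrix.SpecialLinearGroup (Fin 2) (ZMod 3)) :
      Matrix (Fin 2) (Fin 2) (ZMod 3)).mulVec y = y → y = 0 :=
  ⟨⟨!![0, 2; 1, 0], by decide +kernel⟩, by decide +kernel, by decide +kernel⟩

/-- `[F, a]` has an element acting freely on the plane. -/
theorem exists_free (h : Setting p V H) {a x t u : G} (P : Plane p V H a (x * a * x⁻¹) t u)
    (hP : P.L = blk p H a) : ∃ g ∈ nblk p H a, g ∈ P.L ∧
      ∀ w ∈ P.W, g ^ (p - 1) * w * (g ^ (p - 1))⁻¹ = w → w = 1 := by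
  suffices ∃ M : Matrix.SpecialLinearGroup (Fin 2) (ZMod p), ∃ m : ℕ, M ^ m = 1 ∧ m.Coprime p ∧
      ∀ y : Fin 2 → ZMod p,
        ((M ^ (p - 1) : Matrix.SpecialLinearGroup (Fin 2) (ZMod p)) :
          Matrix (Fin 2) (Fin 2) (ZMod p)).mulVec y = y → y = 0 by
    obtain ⟨M, m, hMm, hcop, hfree⟩ := this
    obtain ⟨g, rfl⟩ := (P.equiv h.toFaith).surjective M
    have hg1 : g ^ m = 1 := (P.equiv h.toFaith).injective (by rw [map_pow, hMm, map_one])
    refine ⟨g, mem_core_of_blk P.ha (hP ▸ g.2) (congrArg Subtype.val hg1) hcop, g.2,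
      fun w hw e => ?_⟩
    obtain ⟨y, rfl⟩ := P.exists_eval h.toFaith hw
    have h1 := P.eval_rep h.toFaith (g ^ (p - 1)) y
    rw [SubgroupClass.coe_pow, e] at h1
    have h2 := P.eval_injective h.toFaith h1
    have h3 : y = 0 := hfree y (by
      rw [← map_pow]
      exact h2)
    rw [h3, Plane.eval_zero]
  rcases h.prime_two_or_three P.ha with rfl | rfl
  · obtain ⟨M, hM, hfree⟩ := free_two
    exact ⟨M, 3, hM, by decide, hfree⟩
  · obtain ⟨M, hM, hfree⟩ := free_three
    exact ⟨M, 4, hM, by decide, hfree⟩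

end Finite

end Setting

end Cfsg.Agent.H31.FF
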