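import Cfsg.Agent.H31.FFOperator
import Cfsg.Agent.H31.FFAmbient
import Cfsg.Agent.H31.VSub
import Cfsg.Agent.Coprime.Action
import Cfsg.Agent.S0600
import Cfsg.Agent.S0601
import Cfsg.Agent.S0602
import Cfsg.Agent.S0604
import Cfsg.Agent.S0606

/-!
Failure of factorization in a normal `p`-solvable subgroup `K`, in the presence of a group `X` of
operators of order prime to `|K|`.
-/

set_option autoImplicit false

namespace Cfsg.Agent.H31

open Subgroup
open scoped Pointwise

/-- The image of a best offender under an injective map. -/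
theorem isBestOffenderOn_map {G G' : Type*} [Group G] [Group G'] {f : G →* G'}
    (hf : Function.Injective f) {p : ℕ} {V A : Subgroup G}
    (h : Cfsg.IsBestOffenderOn p V A) : Cfsg.IsBestOffenderOn p (V.map f) (A.map f) := by
  have hinf : ∀ B : Subgroup G, V.map f ⊓ centralizer (B.map f : Set G') =
      (V ⊓ centralizer (B : Set G)).map f := by
    intro B
    ext x
    constructor
    · rintro ⟨⟨v, hv, rfl⟩, hc⟩
      exact ⟨v, ⟨hv, mem_centralizer_iff.mpr fun b hb => hf (by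
        rw [map_mul, map_mul]; exact mem_centralizer_iff.mp hc _ (mem_map_of_mem f hb))⟩, rfl⟩
    · rintro ⟨v, ⟨hv, hc⟩, rfl⟩
      refine ⟨mem_map_of_mem f hv, mem_centralizer_iff.mpr ?_⟩
      rintro _ ⟨b, hb, rfl⟩
      rw [← map_mul, ← map_mul, mem_centralizer_iff.mp hc b hb]
  have hC : (centralizer (V : Set G)).map f ≤ centralizer (V.map f : Set G') := by
    rintro _ ⟨g, hg, rfl⟩
    refine mem_centralizer_iff.mpr ?_
    rintro _ ⟨v, hv, rfl⟩
    rw [← map_mul, ← map_mul, mem_centralizer_iff.mp hg v hv]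
  refine ⟨fun B hB => ?_, ?_, ?_⟩
  · have hB' : (A ⊓ B.comap f).map f = B := by
      refine le_antisymm ?_ fun x hx => ?_
      · rintro _ ⟨y, hy, rfl⟩; exact hy.2
      · obtain ⟨y, hy, rfl⟩ := hB hx
        exact ⟨y, ⟨hy, hx⟩, rfl⟩
    rw [← hB', hinf, hinf, card_map_of_injective hf, card_map_of_injective hf,
      card_map_of_injective hf, card_map_of_injective hf]
    exact h.1 _ inf_le_left
  · rw [← map_commutator]
    exact (Subgroup.map_mono h.2.1).trans hC
  · rintro _ ⟨a, ha, rfl⟩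
    rw [← map_pow]
    exact hC (mem_map_of_mem f (h.2.2 a ha))

/-- The join of the `Ω₁(Z(S))` is characteristic. -/
theorem characteristic_iSup_omegaZ {G : Type*} [Group G] {p : ℕ} :
    (⨆ S : Sylow p G, omegaZ p (S : Subgroup G)).Characteristic := by
  refine characteristic_iff_map_le.mpr fun φ => ?_
  rw [Subgroup.map_iSup]
  refine iSup_le fun S => ?_
  rw [omegaZ, omegaOne_map φ.injective, map_inf_centralizer φ.injective]
  exact le_iSup (fun T : Sylow p G => omegaZ p (T : Subgroup G)) (φ • S)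

/-- A map `e ↦ e · r`, `r` centralizing, is injective on a subgroup meeting the centralizer trivially. -/
theorem injective_of_diag {A : Type*} [Group A] {T R : Subgroup A} (hRT : R ≤ T) (δ : T →* A)
    (hδ : ∀ e : T, ∃ r ∈ centralizer (T : Set A), δ e = (e : A) * r)
    (hR : ∀ x ∈ R, x ∈ centralizer (T : Set A) → x = 1) : Function.Injective (δ.comp (inclusion hRT)) := by
  refine (injective_iff_map_eq_one _).mpr fun x hx => ?_
  obtain ⟨r, hr, hre⟩ := hδ (inclusion hRT x)
  rw [show δ (inclusion hRT x) = 1 from hx, eq_comm, mul_eq_one_iff_eq_inv] at hre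
  refine Subtype.ext (hR x x.2 ?_)
  rw [show (x : A) = r⁻¹ from hre]
  exact inv_mem hr

/-- Conjugation in a subgroup is preserved by a homomorphism on it. -/
theorem conj_inclusion {A : Type*} [Group A] {T P Q : Subgroup A} (hP : P ≤ T) (hQ : Q ≤ T) (δ : T →* A)
    (b : Q) (w w' : P) (h : (w' : A) = b * w * (b : A)⁻¹) :
    δ.comp (inclusion hQ) b * δ.comp (inclusion hP) w * (δ.comp (inclusion hQ) b)⁻¹ =
      δ.comp (inclusion hP) w' := by
  rw [MonoidHom.comp_apply, MonoidHom.comp_apply, MonoidHom.comp_apply, ← map_inv, ← map_mul, ← map_mul]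
  exact congrArg δ (Subtype.ext h.symm)

/-- A map covered by the preimages of an injective map is surjective. -/
theorem surjective_pullback {A Γ : Type*} [Group A] [Group Γ] {B : Subgroup A} (D : Subgroup Γ) (τ : Γ →* A)
    (ψ : B →* A) (hψ : Function.Injective ψ) (θ : D →* B) (hθ : ∀ d : D, ψ (θ d) = τ d)
    (h : ∀ e : B, ∃ c ∈ D, τ c = ψ e) : Function.Surjective θ := fun e => by
  obtain ⟨c, hc, hce⟩ := h e
  exact ⟨⟨c, hc⟩, hψ ((hθ ⟨c, hc⟩).trans hce)⟩

namespace FFAmb

variable {Γ : Type*} [Group Γ] (p : ℕ) (K : Subgroup Γ) [K.Normal]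

/-- The subgroup of `K` generated by the `Ω₁(Z(S))`. -/
def KV : Subgroup Γ := (⨆ S : Sylow p K, omegaZ p (S : Subgroup K)).map K.subtype

/-- The Thompson subgroup of `K`. -/
def KJ : Subgroup Γ := (Cfsg.thompsonSubgroup p K).map K.subtype

variable [Finite Γ] [Fact p.Prime]

omit [Finite Γ] [Fact p.Prime] in
instance KV_normal : (KV p K).Normal :=
  haveI := characteristic_iSup_omegaZ (G := K) (p := p)
  inferInstanceAs ((⨆ S : Sylow p K, omegaZ p (S : Subgroup K)).map K.subtype).Normal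

instance KJ_normal : (KJ p K).Normal :=
  haveI := (S0602.result (G := K) (p := p)).1
  inferInstanceAs ((Cfsg.thompsonSubgroup p K).map K.subtype).Normal

/-- The copy of `J(K)` in `Amb`. -/
abbrev KH : Subgroup (Amb (KV p K)) := (KJ p K).map (toAmb (KV p K))

omit [Finite Γ] [Fact p.Prime] in
theorem KJ_le : KJ p K ≤ K := map_subtype_le _

omit [Finite Γ] [Fact p.Prime] in
theorem centralizer_KV_subgroupOf :
    (centralizer (KV p K : Set Γ)).subgroupOf K =
      centralizer ((⨆ S : Sylow p K, omegaZ p (S : Subgroup K) : Subgroup K) : Set K) := by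
  ext k
  rw [mem_subgroupOf, mem_centralizer_iff, mem_centralizer_iff]
  constructor
  · exact fun h v hv => Subtype.ext (h _ (mem_map_of_mem _ hv))
  · rintro h _ ⟨v, hv, rfl⟩
    exact congrArg Subtype.val (h v hv)

variable {p} {K} (hs : Cfsg.IsPSolvable p K) (hO : Cfsg.pPrimeCore p K = ⊥)

include hs hO

theorem KV_elem : Cfsg.IsElementaryAbelian p (KV p K) :=
  (elem_map_iff K.subtype_injective).mpr (S0601.result (Cores.centralizer_pCore_le hs hO)).2.1

theorem KJ_core : Cfsg.pCore p ↥((KJ p K).map (QuotientGroup.mk'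
    (centralizer (KV p K : Set Γ)))) = ⊥ := by
  set C := centralizer (KV p K : Set Γ)
  set Jb := (KJ p K).map (QuotientGroup.mk' C) with hJb
  haveI : Jb.Normal := Subgroup.Normal.map inferInstance _ (QuotientGroup.mk'_surjective C)
  set Q := (Cfsg.pCore p Jb).map Jb.subtype with hQ
  haveI : (Cfsg.pCore p Jb).Characteristic := Cores.pCore_characteristic
  haveI : Q.Normal := inferInstanceAs ((Cfsg.pCore p Jb).map Jb.subtype).Normal
  set f := (QuotientGroup.mk' C).comp K.subtype with hf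
  have hker : f.ker = centralizer
      ((⨆ S : Sylow p K, omegaZ p (S : Subgroup K) : Subgroup K) : Set K) := by
    rw [hf, ← MonoidHom.comap_ker, QuotientGroup.ker_mk']
    exact centralizer_KV_subgroupOf p K
  have hQp : IsPGroup p Q := Cores.pCore_isPGroup.map _
  obtain ⟨k, hk⟩ := IsPGroup.iff_card.mp (hQp.to_le (Subgroup.map_comap_le f Q))
  have hD := (S0601.result (Cores.centralizer_pCore_le hs hO)).2.2 (Q.comap f) inferInstance
    (hker ▸ f.ker_le_comap Q) ⟨k, by rw [← hk, ← Subgroup.relIndex_ker, hker]⟩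
  rw [eq_bot_iff]
  intro j hj
  rw [mem_bot]
  refine Subtype.ext ?_
  obtain ⟨g, ⟨g', hg', rfl⟩, hg⟩ := j.2
  have h1 : g' ∈ Cfsg.thompsonSubgroup p K := hg'
  have h2 : g' ∈ Q.comap f := by
    show QuotientGroup.mk' C (g' : Γ) ∈ Q
    exact ⟨j, hj, hg.symm⟩
  rw [hD] at h2
  have h3 : g' ∈ f.ker := hker.symm ▸ h2
  exact hg.symm.trans h3

theorem KH_setting : FF.Setting p (Vb (KV p K)) (KH p K) :=
  setting _ (KV_elem hs hO) _
    (Cores.isPSolvable_of_surjective (Cores.isPSolvable_subgroup hs _) _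
      (K.subtype.subgroupMap_surjective _)) (KJ_core hs hO)

theorem KH_generated : KH p K = ⨆ A : {A : Subgroup (Amb (KV p K)) //
    A ≤ KH p K ∧ Cfsg.IsBestOffenderOn p (Vb (KV p K)) A}, (A : Subgroup (Amb (KV p K))) := by
  refine le_antisymm ?_ (iSup_le fun A => A.2.1)
  rw [KH, KJ, Subgroup.map_le_iff_le_comap, Subgroup.map_le_iff_le_comap]
  refine sSup_le fun A hA => ?_
  rw [← Subgroup.map_le_iff_le_comap, ← Subgroup.map_le_iff_le_comap]
  haveI : (⨆ S : Sylow p K, omegaZ p (S : Subgroup K)).Normal := normal_iSup_omegaZ p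
  refine le_iSup_of_le ⟨(A.map K.subtype).map (toAmb (KV p K)), ?_, ?_⟩ le_rfl
  · exact Subgroup.map_mono (Subgroup.map_mono (le_sSup hA))
  · exact offender _ _ (isBestOffenderOn_map K.subtype_injective
      (S0606.result _ (S0601.result (Cores.centralizer_pCore_le hs hO)).2.1 A hA))

variable {q : ℕ} [Fact q.Prime] {X : Subgroup Γ}
  (hXq : ∀ x ∈ X, x ^ q = 1) (hq : ¬ q ∣ Nat.card K)

include hXq hq

/-- Fixed points of `X` realize the diagonal of an orbit of blocks. -/
theorem exists_diagonal_lift {a : Amb (KV p K)} (ha : FF.IsTv p (Vb (KV p K)) (KH p K) a) :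
    ∃ δ : ↥(FF.bW p (Vb (KV p K)) (KH p K) a ⊔ FF.Setting.blk p (KH p K) a) →* Amb (KV p K),
      (∀ x ∈ X, ∀ e, toAmb (KV p K) x * δ e * (toAmb (KV p K) x)⁻¹ = δ e) ∧
      (∀ e, ∃ r ∈ centralizer ((FF.bW p (Vb (KV p K)) (KH p K) a ⊔
        FF.Setting.blk p (KH p K) a : Subgroup _) : Set (Amb (KV p K))), δ e = (e : Amb (KV p K)) * r) ∧
      (∀ e : ↥(FF.bW p (Vb (KV p K)) (KH p K) a ⊔ FF.Setting.blk p (KH p K) a),
        (e : Amb (KV p K)) ∈ FF.Setting.blk p (KH p K) a →
          ∃ c ∈ K ⊓ centralizer (X : Set Γ), toAmb (KV p K) c = δ e) ∧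
      (∀ e : ↥(FF.bW p (Vb (KV p K)) (KH p K) a ⊔ FF.Setting.blk p (KH p K) a),
        (e : Amb (KV p K)) ∈ FF.bW p (Vb (KV p K)) (KH p K) a → δ e ∈ Vb (KV p K)) := by
  have h := KH_setting hs hO
  have hN : ∀ g : Γ, toAmb (KV p K) g ∈ normalizer (KH p K : Set (Amb (KV p K))) := fun g => by
    refine Thompson.mem_normalizer_of_map_conj ?_
    have e : (MulAut.conj (toAmb (KV p K) g)).toMonoidHom.comp (toAmb (KV p K)) =
        (toAmb (KV p K)).comp (MulAut.conj g).toMonoidHom :=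
      MonoidHom.ext fun y => by simp [MulAut.conj_apply]
    rw [KH, Subgroup.map_map, e, ← Subgroup.map_map, Thompson.map_conj_of_mem_normalizer]
    rw [normalizer_eq_top]; trivial
  have hqH : ¬ q ∣ Nat.card (KH p K) := fun hd => hq
    (hd.trans ((Subgroup.card_map_dvd _ _).trans (Subgroup.card_dvd_of_le (KJ_le p K))))
  obtain ⟨δ, hfix, hr, hδH, hδV⟩ := h.exists_diagonal ha (X := X.map (toAmb (KV p K))) (q := q)
    (by
      haveI : (Vb (KV p K)).Normal := by
        rw [Vb, SemidirectProduct.range_inl_eq_ker_rightHom]; infer_instance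
      rw [normalizer_eq_top]; exact le_top)
    (by rintro _ ⟨x, -, rfl⟩; exact hN x)
    (by rintro _ ⟨x, hx, rfl⟩; rw [← map_pow, hXq x hx, map_one]) hqH
  refine ⟨δ, fun x hx => hfix _ (mem_map_of_mem _ hx), hr, fun e he => ?_, hδV⟩
  obtain ⟨j, hj, hje⟩ := hδH e he
  have hjK : j ∈ K := KJ_le p K hj
  set N := K ⊓ centralizer (KV p K : Set Γ)
  have hXp : IsPGroup q X := fun x => ⟨1, by rw [pow_one]; exact Subtype.ext (hXq x x.2)⟩
  obtain ⟨n, hn⟩ := IsPGroup.iff_card.mp hXp
  haveI := hXp.isNilpotent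
  have hcop : (Nat.card X).Coprime (Nat.card K) := by
    rw [hn]; exact Nat.Coprime.pow_left n ((Fact.out : q.Prime).coprime_iff_not_dvd.mpr hq)
  obtain ⟨c, hc, hjc⟩ := Coprime.exists_centralizer_mem_of_comm_mem (A := X) (K := K) (N := N)
    (by rw [normalizer_eq_top]; exact le_top) hcop (Or.inl inferInstance) inf_le_left
    (by rw [normalizer_eq_top]; exact le_top) (by rw [normalizer_eq_top]; exact le_top) hjK
    (fun x hx => by
      refine ⟨K.mul_mem (Subgroup.Normal.conj_mem inferInstance j hjK x) (K.inv_mem hjK), ?_⟩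
      show x * j * x⁻¹ * j⁻¹ ∈ centralizer (KV p K : Set Γ)
      rw [← toAmb_ker, MonoidHom.mem_ker, map_mul, map_mul, map_mul, map_inv, map_inv, hje,
        hfix _ (mem_map_of_mem _ hx), mul_inv_cancel])
  refine ⟨c, hc, ?_⟩
  have h1 : toAmb (KV p K) (j⁻¹ * c) = 1 := by
    rw [← MonoidHom.mem_ker, toAmb_ker]; exact hjc.2
  rw [map_mul, map_inv, inv_mul_eq_one] at h1
  rw [← h1, hje]

/-- `K` is generated by `N_K(J(S))`, `C_K(Ω₁(Z(S)))` and `C_K(X)`. -/
theorem generation (S : Sylow p K) {M : Subgroup Γ}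
    (hN : (normalizer (Cfsg.thompsonSubgroupOf p (S : Subgroup K) : Set K)).map K.subtype ≤ M)
    (hC : (centralizer (omegaZ p (S : Subgroup K) : Set K)).map K.subtype ≤ M)
    (hX : K ⊓ centralizer (X : Set Γ) ≤ M) : K ≤ M := by
  set M₀ := M.subgroupOf K
  set J₀ := Cfsg.thompsonSubgroup p K with hJ₀
  haveI : J₀.Characteristic := (S0602.result (G := K) (p := p)).1
  haveI : J₀.Normal := inferInstance
  set C₀ := centralizer ((⨆ S : Sylow p K, omegaZ p (S : Subgroup K) : Subgroup K) : Set K) with hC₀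
  haveI : (⨆ S : Sylow p K, omegaZ p (S : Subgroup K)).Normal := normal_iSup_omegaZ p
  haveI : C₀.Normal := inferInstance
  have hN₀ : normalizer (Cfsg.thompsonSubgroupOf p (S : Subgroup K) : Set K) ≤ M₀ := fun k hk =>
    hN (mem_map_of_mem _ hk)
  have hCM : C₀ ≤ M₀ := fun k hk => hC (mem_map_of_mem _
    (centralizer_le (SetLike.coe_subset_coe.mpr
      (le_iSup (fun T : Sylow p K => omegaZ p (T : Subgroup K)) S)) hk))
  have hJS : Cfsg.thompsonSubgroupOf p (S : Subgroup K) ≤ J₀ := by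
    rw [hJ₀, S0604.result]
    exact le_iSup (fun T : Sylow p K => Cfsg.thompsonSubgroupOf p (T : Subgroup K)) S
  suffices hJ : J₀ ≤ M₀ by
    set D := J₀ ⊔ C₀
    have hJD : Cfsg.thompsonSubgroupOf p ((S : Subgroup K) ⊓ D) =
        Cfsg.thompsonSubgroupOf p (S : Subgroup K) :=
      thompsonSubgroupOf_eq_of_le (le_inf (thompsonSubgroupOf_le p _) (hJS.trans le_sup_left))
        inf_le_left
    have htop : (⊤ : Subgroup K) ≤ M₀ := by
      rw [← normalizer_sylow_inf_sup S D]
      refine sup_le ?_ (sup_le hJ hCM)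
      refine le_trans ?_ hN₀
      rw [← hJD]
      exact normalizer_le_normalizer_thompsonSubgroupOf p _
    exact fun k hk => htop (mem_top ⟨k, hk⟩)
  have hSM : (S : Subgroup K) ≤ M₀ :=
    le_normalizer.trans ((normalizer_le_normalizer_thompsonSubgroupOf p _).trans hN₀)
  have h := KH_setting hs hO
  -- `J(K)` in `Amb`
  set f := (toAmb (KV p K)).comp K.subtype with hf
  have hfH : J₀.map f = KH p K := (Subgroup.map_map _ _ _).symm
  suffices hH : KH p K ≤ M₀.map f by
    intro k hk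
    obtain ⟨m, hm, hmk⟩ := hH (hfH ▸ mem_map_of_mem f hk)
    have h1 : m⁻¹ * k ∈ C₀ := by
      have h2 : f (m⁻¹ * k) = 1 := by rw [map_mul, map_inv, hmk, inv_mul_cancel]
      rw [hC₀, ← centralizer_KV_subgroupOf p K, mem_subgroupOf, ← toAmb_ker]
      exact h2
    have := mul_mem hm (hCM h1)
    rwa [mul_inv_cancel_left] at this
  set T := ((S : Subgroup K) ⊓ J₀).map f with hT
  have hTM : T ≤ M₀.map f := Subgroup.map_mono (inf_le_left.trans hSM)
  refine (h.le_closure (KH_generated hs hO)).trans ((closure_le _).mpr fun b hb => ?_)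
  have hb' : FF.IsTv p (Vb (KV p K)) (KH p K) b := hb
  -- a conjugate of `b` lies in `T`
  obtain ⟨g, hgH, hgT⟩ : ∃ g ∈ KH p K, g⁻¹ * b * g ∈ T := by
    have hp0 : IsPGroup p ((S : Subgroup K).subgroupOf J₀) :=
      S.isPGroup'.comap_of_injective J₀.subtype J₀.subtype_injective
    let P : Sylow p J₀ := hp0.toSylow (sylow_relIndex_not_dvd S J₀)
    have hsurj : Function.Surjective (f.subgroupMap J₀) := f.subgroupMap_surjective J₀
    let P' : Sylow p (J₀.map f) := P.mapSurjective hsurj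
    have hbJ : b ∈ J₀.map f := hfH.symm ▸ hb'.mem
    have hz : IsPGroup p (zpowers (⟨b, hbJ⟩ : J₀.map f)) := IsPGroup.of_card (n := 1) (by
      rw [Nat.card_zpowers, ← orderOf_coe]; simpa using hb'.2.1)
    obtain ⟨R, hR⟩ := hz.exists_le_sylow
    obtain ⟨g, hg⟩ := MulAction.exists_smul_eq (J₀.map f) P' R
    have h1 : (⟨b, hbJ⟩ : J₀.map f) ∈ ((g • P' : Sylow p (J₀.map f)) : Subgroup (J₀.map f)) := by
      rw [hg]; exact hR (mem_zpowers _)
    rw [Sylow.coe_subgroup_smul, Subgroup.mem_pointwise_smul_iff_inv_smul_mem, ← map_inv,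
      MulAut.smul_def, MulAut.conj_apply, inv_inv] at h1
    obtain ⟨y, hy, hye⟩ := h1
    refine ⟨g, hfH ▸ g.2, y, ⟨mem_subgroupOf.mp hy, y.2⟩, ?_⟩
    have := congrArg Subtype.val hye
    simpa using this
  -- it can be moved inside the block of `b`
  set B := FF.Setting.blk p (KH p K) b with hB
  obtain ⟨hBR, -, hsup, -⟩ := h.centralizer_bW_facts (KH_generated hs hO) hb'
  rw [commutator_eq_bot_iff_le_centralizer] at hBR
  set R := KH p K ⊓ centralizer (FF.bW p (Vb (KV p K)) (KH p K) b : Set (Amb (KV p K)))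
  have hgBR : g ∈ (B : Set (Amb (KV p K))) * (R : Set (Amb (KV p K))) := by
    rw [← Subgroup.coe_mul_of_right_le_normalizer_left _ _
      ((le_centralizer_iff.mp hBR).trans (centralizer_le_normalizer _)), hsup]
    exact hgH
  obtain ⟨u, hu, r, hr, rfl⟩ := hgBR
  have hbB : b ∈ B := mem_sup_right (mem_zpowers b)
  set t := u⁻¹ * b * u with ht
  have htB : t ∈ B := mul_mem (mul_mem (inv_mem hu) hbB) hu
  have htT : t ∈ T := by
    have e : (u * r)⁻¹ * b * (u * r) = t := by
      have h1 : r * t = t * r := (mem_centralizer_iff.mp (hBR htB) r hr)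
      calc (u * r)⁻¹ * b * (u * r) = r⁻¹ * (t * r) := by rw [ht]; group
        _ = t := by rw [← h1, inv_mul_cancel_left]
    rwa [e] at hgT
  obtain ⟨δ, -, hδr, hδc, -⟩ := exists_diagonal_lift hs hO hXq hq hb'
  obtain ⟨c, hc, hce⟩ := hδc ⟨u, mem_sup_right hu⟩ hu
  obtain ⟨s, hs', hse⟩ := hδr ⟨u, mem_sup_right hu⟩
  have hcM : toAmb (KV p K) c ∈ M₀.map f :=
    ⟨⟨c, hc.1⟩, show c ∈ M from hX hc, rfl⟩
  have htM : t ∈ M₀.map f := hTM htT
  have h2 : toAmb (KV p K) c * t * (toAmb (KV p K) c)⁻¹ = b := by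
    have h3 : t * s = s * t := mem_centralizer_iff.mp hs' t (mem_sup_right htB)
    rw [hce, hse]
    calc u * s * t * (u * s)⁻¹ = u * (s * t) * s⁻¹ * u⁻¹ := by group
      _ = b := by rw [← h3, ht]; group
  exact h2 ▸ mul_mem (mul_mem hcM htM) (inv_mem hcM)

/-- The plane and its `SL₂(p)` among the fixed points of `X`. -/
theorem fixed_plane (hJ : ¬ KJ p K ≤ centralizer (KV p K : Set Γ)) :
    (p = 2 ∨ p = 3) ∧ ∃ W D : Subgroup Γ, W ≤ K ⊓ centralizer (X : Set Γ) ∧
      D ≤ K ⊓ centralizer (X : Set Γ) ∧ Cfsg.IsElementaryAbelian p W ∧ Nat.card W = p ^ 2 ∧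
      D ≤ normalizer (W : Set Γ) ∧
      ∃ θ : D →* Matrix.SpecialLinearGroup (Fin 2) (ZMod p),
        Function.Surjective θ ∧ θ.ker = (centralizer (W : Set Γ)).subgroupOf D := by
  have h := KH_setting hs hO
  obtain ⟨a, ha⟩ : ∃ a, FF.IsTv p (Vb (KV p K)) (KH p K) a := by
    by_contra hne
    refine hJ ?_
    rw [← toAmb_ker, ← Subgroup.map_eq_bot_iff, eq_bot_iff]
    refine (h.le_closure (KH_generated hs hO)).trans ((closure_le _).mpr fun b hb => ?_)
    exact absurd ⟨b, hb⟩ hne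
  refine ⟨h.prime_two_or_three ha, ?_⟩
  obtain ⟨⟨eSL⟩, hcard, hWV, hWC, -, hfaith⟩ := h.blk_facts ha
  set bw := FF.bW p (Vb (KV p K)) (KH p K) a with hbw
  set B := FF.Setting.blk p (KH p K) a with hB
  obtain ⟨δ, hfix, hδr, hδc, hδV⟩ := exists_diagonal_lift hs hO hXq hq ha
  let ψ : B →* Amb (KV p K) := δ.comp (Subgroup.inclusion le_sup_right)
  have hψ : Function.Injective ψ := injective_of_diag le_sup_right δ hδr fun x hx hc =>
    mem_bot.mp (hfaith.le (mem_inf.mpr ⟨hx, (FF.mem_centralizer_sup_iff.mp hc).1⟩))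
  let χ : bw →* Amb (KV p K) := δ.comp (Subgroup.inclusion le_sup_left)
  have hχ : Function.Injective χ := injective_of_diag le_sup_left δ hδr fun x hx hc =>
    mem_bot.mp (hWC.le (mem_inf.mpr ⟨hx, mem_inf.mpr ⟨hWV hx, (FF.mem_centralizer_sup_iff.mp hc).2⟩⟩))
  let inlV : KV p K →* Amb (KV p K) := SemidirectProduct.inl
  have hinl : Function.Injective inlV := SemidirectProduct.inl_injective
  set W := (χ.range.comap inlV).map (KV p K).subtype with hW
  let D : Subgroup Γ := (K ⊓ centralizer (X : Set Γ)) ⊓ ψ.range.comap (toAmb (KV p K))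
  let θ₀ : D →* B := (MonoidHom.ofInjective hψ).symm.toMonoidHom.comp
    (((toAmb (KV p K)).comp D.subtype).codRestrict ψ.range fun d => d.2.2)
  have hθ₀ : ∀ d : D, ψ (θ₀ d) = toAmb (KV p K) d := fun d =>
    congrArg Subtype.val ((MonoidHom.ofInjective hψ).apply_symm_apply _)
  have hconj : ∀ (g : Γ) (v : KV p K), (g : Γ) * v * g⁻¹ = (MulAut.conjNormal g v : KV p K) :=
    fun g v => rfl
  -- `ψ` acts on the plane as `B` does
  have hact : ∀ (d : D) (v : KV p K), inlV v ∈ χ.range → ∃ w : bw, inlV v = χ w ∧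
      ∃ w' : bw, (w' : Amb (KV p K)) = θ₀ d * w * (θ₀ d : Amb (KV p K))⁻¹ ∧
        inlV (MulAut.conjNormal (d : Γ) v) = χ w' := by
    rintro d v ⟨w, hw⟩
    have hN : (θ₀ d : Amb (KV p K)) ∈ normalizer (bw : Set (Amb (KV p K))) :=
      FF.mem_normalizer_commutator (h.hHV (FF.Setting.blk_le ha (θ₀ d).2)) (le_normalizer (θ₀ d).2)
    refine ⟨w, hw.symm, ⟨_, (mem_normalizer_iff.mp hN _).mp w.2⟩, rfl, ?_⟩
    show SemidirectProduct.inl (MulAut.conjNormal (d : Γ) v) = χ ⟨_, _⟩
    rw [← toAmb_conj, ← hθ₀ d, show SemidirectProduct.inl v = χ w from hw.symm]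
    exact conj_inclusion le_sup_left le_sup_right δ (θ₀ d) w ⟨_, (mem_normalizer_iff.mp hN _).mp w.2⟩ rfl
  refine ⟨W, D, le_inf ?_ ?_, inf_le_left, ?_, ?_, ?_, eSL.toMonoidHom.comp θ₀, ?_, ?_⟩
  · exact (map_subtype_le _).trans (map_subtype_le _)
  · rintro _ ⟨v, ⟨w, hw⟩, rfl⟩
    refine mem_centralizer_iff.mpr fun x hx => ?_
    have h1 : (MulAut.conjNormal x v : KV p K) = v := hinl (by
      show SemidirectProduct.inl (MulAut.conjNormal x v) = SemidirectProduct.inl v
      rw [← toAmb_conj, show SemidirectProduct.inl v = χ w from hw.symm]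
      exact hfix x hx _)
    have h2 : x * (v : Γ) * x⁻¹ = v := by rw [hconj, h1]
    calc x * (v : Γ) = (x * (v : Γ) * x⁻¹) * x := by group
      _ = v * x := by rw [h2]
  · exact elem_le (KV_elem hs hO) (map_subtype_le _)
  · have hle : χ.range ≤ inlV.range := by
      rintro _ ⟨w, rfl⟩
      exact hδV _ w.2
    rw [hW, card_map_of_injective (subtype_injective _), ← card_map_of_injective hinl,
      map_comap_eq_self hle, ← Nat.card_congr (MonoidHom.ofInjective hχ).toEquiv, hcard]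
  · intro d hd
    refine Thompson.mem_normalizer_of_map_conj (Subgroup.eq_of_le_of_card_ge ?_
      (le_of_eq (card_map_of_injective (MulAut.conj d).injective).symm))
    rintro _ ⟨_, ⟨v, hv, rfl⟩, rfl⟩
    obtain ⟨w, -, w', -, hw'⟩ := hact ⟨d, hd⟩ v hv
    exact ⟨MulAut.conjNormal d v, ⟨w', hw'.symm⟩, rfl⟩
  · rw [MonoidHom.coe_comp]
    refine eSL.surjective.comp (surjective_pullback D (toAmb (KV p K)) ψ hψ θ₀ hθ₀ fun e => ?_)
    have hmem : ((Subgroup.inclusion le_sup_right e : ↥(bw ⊔ B)) : Amb (KV p K)) ∈ B := by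
      rw [Subgroup.coe_inclusion]; exact e.2
    obtain ⟨c, hc, hce⟩ := hδc (Subgroup.inclusion le_sup_right e) hmem
    have hce' : toAmb (KV p K) c = ψ e := hce.trans (MonoidHom.comp_apply _ _ _).symm
    exact ⟨c, mem_inf.mpr ⟨hc, mem_comap.mpr (MonoidHom.mem_range.mpr ⟨e, hce'.symm⟩)⟩, hce'⟩
  · ext d
    rw [MonoidHom.mem_ker, mem_subgroupOf]
    constructor
    · intro hd
      have h1 : θ₀ d = 1 := eSL.injective (hd.trans (map_one _).symm)
      have h2 : (d : Γ) ∈ centralizer (KV p K : Set Γ) := by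
        rw [← toAmb_ker, MonoidHom.mem_ker, ← hθ₀, h1, map_one]
      exact centralizer_le (SetLike.coe_subset_coe.mpr (map_subtype_le _)) h2
    · intro hd
      suffices θ₀ d = 1 by rw [MonoidHom.comp_apply, this]; exact map_one _
      refine Subtype.ext ((eq_bot_iff_forall _).mp hfaith _ ⟨(θ₀ d).2, ?_⟩)
      refine mem_centralizer_iff.mpr fun w hw => ?_
      have hle : χ ⟨w, hw⟩ ∈ inlV.range := hδV _ hw
      obtain ⟨v, hv⟩ := hle
      obtain ⟨w₀, hw₀, w', hw', hw'v⟩ := hact d v ⟨_, hv.symm⟩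
      have hvW : (v : Γ) ∈ W := ⟨v, ⟨_, hv.symm⟩, rfl⟩
      have h1 : (MulAut.conjNormal (d : Γ) v : KV p K) = v := Subtype.ext (by
        rw [← hconj, ← mem_centralizer_iff.mp hd _ hvW, mul_inv_cancel_right])
      rw [h1] at hw'v
      have e1 : w' = w₀ := hχ (hw'v.symm.trans hw₀)
      have e2 : (⟨w, hw⟩ : bw) = w₀ := hχ (hv.symm.trans hw₀)
      have e3 : (θ₀ d : Amb (KV p K)) * w * (θ₀ d : Amb (KV p K))⁻¹ = w := by
        have := congrArg Subtype.val (e1.trans e2.symm)
        rw [hw', ← e2] at this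
        exact this
      calc w * (θ₀ d : Amb (KV p K)) = (θ₀ d * w * (θ₀ d : Amb (KV p K))⁻¹) * θ₀ d := by rw [e3]
        _ = _ := by group

end FFAmb

end Cfsg.Agent.H31
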