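import Cfsg.Agent.H31.FFStructure
import Mathlib.GroupTheory.NoncommPiCoprod

/-!
A coprime group of operators on the blocks: the diagonal of an orbit of blocks.
-/

set_option autoImplicit false

namespace Cfsg.Agent.H31.FF

open Subgroup
open scoped Pointwise commutatorElement

variable {G : Type*} [Group G] [Finite G] {p : ℕ} [hp : Fact p.Prime] {V H : Subgroup G}

theorem map_core_of_mem_normalizer {x : G} (hx : x ∈ normalizer (H : Set G)) :
    (core p H).map (MulAut.conj x).toMonoidHom = core p H := by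
  let φ : MulAut H := Subgroup.normalizerMonoidHom H ⟨x, hx⟩
  have e : (MulAut.conj x).toMonoidHom.comp H.subtype = H.subtype.comp φ.toMonoidHom :=
    MonoidHom.ext fun h => rfl
  rw [core, Subgroup.map_map, e, ← Subgroup.map_map, Cores.pPrimeCore_map_mulEquiv]

theorem map_blk_of_mem_normalizer {a x : G} (hx : x ∈ normalizer (H : Set G)) :
    (Setting.blk p H a).map (MulAut.conj x).toMonoidHom = Setting.blk p H (x * a * x⁻¹) := by
  rw [Subgroup.map_sup, map_commutator, MonoidHom.map_zpowers, map_core_of_mem_normalizer hx]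
  rfl

theorem IsTv.conj_normalizer {a : G} (h : IsTv p V H a) {x : G}
    (hxV : x ∈ normalizer (V : Set G)) (hxH : x ∈ normalizer (H : Set G)) :
    IsTv p V H (x * a * x⁻¹) := by
  refine ⟨(mem_normalizer_iff.mp hxH a).mp h.mem, ((MulAut.conj x).orderOf_eq a).trans h.2.1, ?_⟩
  have eV := Thompson.map_conj_of_mem_normalizer hxV
  have e : (ax V a).map (MulAut.conj x).toMonoidHom = ax V (x * a * x⁻¹) := by
    have h1 : (centralizer ({a} : Set G)).map (MulAut.conj x).toMonoidHom =
        centralizer ({x * a * x⁻¹} : Set G) := by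
      ext v
      simp only [mem_map, mem_centralizer_singleton_iff, MulEquiv.coe_toMonoidHom, MulAut.conj_apply]
      constructor
      · rintro ⟨w, hw, rfl⟩
        calc x * w * x⁻¹ * (x * a * x⁻¹) = x * (w * a) * x⁻¹ := by group
          _ = _ := by rw [hw]; group
      · intro hv
        refine ⟨x⁻¹ * v * x, ?_, by group⟩
        calc x⁻¹ * v * x * a = x⁻¹ * (v * (x * a * x⁻¹)) * x := by group
          _ = _ := by rw [hv]; group
    rw [Subgroup.map_inf _ _ _ (MulAut.conj x).injective, eV, h1]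
  have h1 := Subgroup.relIndex_map_map_of_injective (ax V a) V
    (f := (MulAut.conj x).toMonoidHom) (MulAut.conj x).injective
  rw [e, eV] at h1
  exact h1.trans h.2.2

namespace Setting

/-- Conjugation by an element of order dividing `q` fixes a plane pointwise when it normalizes its
block. -/
theorem centralizes_of_normalizes (h : Setting p V H) {a x : G} (ha : IsTv p V H a) {q : ℕ}
    [hq : Fact q.Prime] (hqH : ¬ q ∣ Nat.card H) (hxV : x ∈ normalizer (V : Set G))
    (hxq : x ^ q = 1) (hxB : x ∈ normalizer (blk p H a : Set G)) :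
    x ∈ centralizer ((bW p V H a ⊔ blk p H a : Subgroup G) : Set G) := by
  obtain ⟨⟨e⟩, hcard, -, -, -, hfaith⟩ := h.blk_facts ha
  set W := bW p V H a with hW
  have hxW : x ∈ normalizer (W : Set G) := mem_normalizer_commutator hxV hxB
  have h23 : q ≠ 2 ∧ q ≠ 3 := by
    have hd : Nat.card (blk p H a) ∣ Nat.card H := Subgroup.card_dvd_of_le (blk_le ha)
    rw [Nat.card_congr e.toEquiv] at hd
    rcases h.prime_two_or_three ha with rfl | rfl
    · rw [card_sl_two] at hd
      refine ⟨?_, ?_⟩ <;> rintro rfl <;> exact hqH (dvd_trans (by norm_num) hd)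
    · rw [card_sl_three] at hd
      refine ⟨?_, ?_⟩ <;> rintro rfl <;> exact hqH (dvd_trans (by norm_num) hd)
  letI act : MulAction (zpowers x) W :=
    MulAction.compHom _ ((Subgroup.normalizerMonoidHom W).comp
      (Subgroup.inclusion (zpowers_le.mpr hxW)))
  have hL : IsPGroup q (zpowers x) := fun g => ⟨1, Subtype.ext (by
    obtain ⟨i, hi⟩ := mem_zpowers_iff.mp g.2
    rw [pow_one, Subgroup.coe_pow, ← hi, ← zpow_natCast, zpow_comm, zpow_natCast, hxq, one_zpow]
    rfl)⟩
  have hfix : ∀ w : W, w ∈ MulAction.fixedPoints (zpowers x) W →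
      (w : G) ∈ W ⊓ centralizer ({x} : Set G) := by
    intro w hw
    refine ⟨w.2, mem_centralizer_singleton_iff.mpr ?_⟩
    have h1 : x * (w : G) * x⁻¹ = w := congrArg Subtype.val (hw ⟨x, mem_zpowers x⟩)
    calc (w : G) * x = (x * (w : G) * x⁻¹) * x := by rw [h1]
      _ = x * w := by group
  have hfix' : ∀ w : W, (w : G) ∈ W ⊓ centralizer ({x} : Set G) →
      w ∈ MulAction.fixedPoints (zpowers x) W := by
    intro w hw g
    refine Subtype.ext (show (g : G) * w * (g : G)⁻¹ = w from ?_)
    obtain ⟨i, hi⟩ := mem_zpowers_iff.mp g.2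
    rw [← hi]
    have hc : Commute (w : G) x := mem_centralizer_singleton_iff.mp hw.2
    rw [(hc.symm.zpow_left i).eq, mul_inv_cancel_right]
  have hmod := hL.card_modEq_card_fixedPoints W
  have hcf : Nat.card (MulAction.fixedPoints (zpowers x) W) =
      Nat.card ↥(W ⊓ centralizer ({x} : Set G)) :=
    Nat.card_congr ⟨fun w => ⟨_, hfix w.1 w.2⟩, fun w => ⟨⟨w.1, w.2.1⟩, hfix' _ w.2⟩,
      fun w => rfl, fun w => rfl⟩
  rw [hcf, hcard] at hmod
  obtain ⟨i, hi2, hi⟩ := (Nat.dvd_prime_pow hp.out).mp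
    (hcard ▸ Subgroup.card_dvd_of_le (inf_le_left : W ⊓ centralizer ({x} : Set G) ≤ W))
  rw [hi] at hmod
  have hi' : i = 2 := by
    by_contra hne
    have hd : q ∣ p ^ 2 - p ^ i :=
      (Nat.modEq_iff_dvd' (Nat.pow_le_pow_right hp.out.pos hi2)).mp hmod.symm
    have hqq := hq.out
    rcases h.prime_two_or_three ha with rfl | rfl <;> interval_cases i <;>
      first | exact hne rfl | norm_num at hd
    all_goals
      have hle := Nat.le_of_dvd (by norm_num) hd
      interval_cases q <;> simp_all (config := { decide := true })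
  have hxc : x ∈ centralizer (W : Set G) := by
    have heq : W ⊓ centralizer ({x} : Set G) = W :=
      Subgroup.eq_of_le_of_card_ge inf_le_left (by rw [hcard, hi, hi'])
    exact mem_centralizer_iff.mpr fun w hw =>
      mem_centralizer_singleton_iff.mp (heq.symm.le hw).2
  refine mem_centralizer_sup_iff.mpr ⟨hxc, mem_centralizer_iff.mpr fun f hf => ?_⟩
  have h1 : x * f * x⁻¹ * f⁻¹ ∈ blk p H a ⊓ centralizer (W : Set G) := by
    refine ⟨mul_mem ((mem_normalizer_iff.mp hxB f).mp hf) ((blk p H a).inv_mem hf),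
      mem_centralizer_iff.mpr fun w hw => ?_⟩
    have hfW : f ∈ normalizer (W : Set G) :=
      mem_normalizer_commutator (h.hHV (blk_le ha hf)) (le_normalizer hf)
    have hw' : f⁻¹ * w * f ∈ W := by
      simpa using (mem_normalizer_iff.mp (inv_mem hfW) w).mp hw
    calc w * (x * f * x⁻¹ * f⁻¹) = (w * x) * f * x⁻¹ * f⁻¹ := by group
      _ = x * f * ((f⁻¹ * w * f) * x⁻¹) * f⁻¹ := by rw [mem_centralizer_iff.mp hxc w hw]; group
      _ = x * f * (x⁻¹ * (f⁻¹ * w * f)) * f⁻¹ := by
          rw [mem_centralizer_iff.mp ((centralizer (W : Set G)).inv_mem hxc) _ hw']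
      _ = (x * f * x⁻¹ * f⁻¹) * w := by group
  rw [hfaith, mem_bot] at h1
  calc f * x = (x * f * x⁻¹ * f⁻¹) * (f * x) := by rw [h1, one_mul]
    _ = x * f := by group

/-- The diagonal of the orbit of a block under a coprime group of operators. -/
theorem exists_diagonal (h : Setting p V H) {a : G} (ha : IsTv p V H a) {X : Subgroup G}
    (hXV : X ≤ normalizer (V : Set G)) (hXH : X ≤ normalizer (H : Set G)) {q : ℕ} [Fact q.Prime]
    (hXq : ∀ x ∈ X, x ^ q = 1) (hq : ¬ q ∣ Nat.card H) :
    ∃ δ : ↥(bW p V H a ⊔ blk p H a) →* G,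
      (∀ x ∈ X, ∀ e, x * δ e * x⁻¹ = δ e) ∧
      (∀ e, ∃ r ∈ centralizer ((bW p V H a ⊔ blk p H a : Subgroup G) : Set G),
        δ e = (e : G) * r) ∧
      (∀ e : ↥(bW p V H a ⊔ blk p H a), (e : G) ∈ blk p H a → δ e ∈ H) ∧
      (∀ e : ↥(bW p V H a ⊔ blk p H a), (e : G) ∈ bW p V H a → δ e ∈ V) := by
  classical
  set U := bW p V H a ⊔ blk p H a with hU
  obtain ⟨-, -, hWV, -, -, -⟩ := h.blk_facts ha
  -- the blocks in the orbit
  let O : Set (Subgroup G) := Set.range fun x : X => (blk p H a).map (MulAut.conj (x : G)).toMonoidHom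
  haveI : Fintype O := Fintype.ofFinite O
  choose c hc using fun B : O => B.2
  have hblk : ∀ x : X, (blk p H a).map (MulAut.conj (x : G)).toMonoidHom =
      blk p H ((x : G) * a * (x : G)⁻¹) := fun x => map_blk_of_mem_normalizer (hXH x.2)
  -- conjugation by a member of `X` depends only on the block
  have hindep : ∀ x y : X, (blk p H a).map (MulAut.conj (x : G)).toMonoidHom =
      (blk p H a).map (MulAut.conj (y : G)).toMonoidHom →
      ∀ e ∈ U, (x : G) * e * (x : G)⁻¹ = (y : G) * e * (y : G)⁻¹ := by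
    intro x y hxy e he
    have hz : (y : G)⁻¹ * x ∈ X := mul_mem (inv_mem y.2) x.2
    have hzB : (y : G)⁻¹ * x ∈ normalizer (blk p H a : Set G) := by
      refine Thompson.mem_normalizer_of_map_conj ?_
      have h1 := congrArg (Subgroup.map (MulAut.conj (y : G)⁻¹).toMonoidHom) hxy
      rw [Subgroup.map_map, Subgroup.map_map] at h1
      have e1 : ∀ u v : G, (MulAut.conj u).toMonoidHom.comp (MulAut.conj v).toMonoidHom =
          (MulAut.conj (u * v)).toMonoidHom := fun u v => MonoidHom.ext fun g => by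
        simp [MulAut.conj_apply, mul_assoc]
      rw [e1, e1, inv_mul_cancel] at h1
      rw [h1]
      ext g; simp
    have hz2 := h.centralizes_of_normalizes ha hq (hXV hz) (hXq _ hz) hzB
    have h2 := mem_centralizer_iff.mp hz2 e he
    calc (x : G) * e * (x : G)⁻¹ = (y : G) * (((y : G)⁻¹ * x) * e) * ((y : G)⁻¹ * x)⁻¹ *
          (y : G)⁻¹ := by group
      _ = (y : G) * (e * ((y : G)⁻¹ * x)) * ((y : G)⁻¹ * x)⁻¹ * (y : G)⁻¹ := by rw [h2]
      _ = _ := by group
  let φ : O → U →* G := fun B => (MulAut.conj ((c B : X) : G)).toMonoidHom.comp U.subtype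
  have hφ : ∀ (B : O) (e : U), φ B e = ((c B : X) : G) * e * ((c B : X) : G)⁻¹ := fun _ _ => rfl
  have hrange : ∀ B : O, ∀ e : U,
      φ B e ∈ bW p V H (((c B : X) : G) * a * ((c B : X) : G)⁻¹) ⊔
        blk p H (((c B : X) : G) * a * ((c B : X) : G)⁻¹) := by
    intro B e
    rw [bW, ← hblk (c B), ← Thompson.map_conj_of_mem_normalizer (hXV (c B).2), ← map_commutator,
      ← Subgroup.map_sup]
    exact Subgroup.mem_map_of_mem _ e.2
  have htv : ∀ B : O, IsTv p V H (((c B : X) : G) * a * ((c B : X) : G)⁻¹) := fun B =>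
    ha.conj_normalizer (hXV (c B).2) (hXH (c B).2)
  have hsep : ∀ B B' : O, B ≠ B' →
      bW p V H (((c B : X) : G) * a * ((c B : X) : G)⁻¹) ⊔
        blk p H (((c B : X) : G) * a * ((c B : X) : G)⁻¹) ≤
      centralizer ((bW p V H (((c B' : X) : G) * a * ((c B' : X) : G)⁻¹) ⊔
        blk p H (((c B' : X) : G) * a * ((c B' : X) : G)⁻¹) : Subgroup G) : Set G) := by
    intro B B' hne
    set b := ((c B : X) : G) * a * ((c B : X) : G)⁻¹
    set b' := ((c B' : X) : G) * a * ((c B' : X) : G)⁻¹
    rcases h.dichotomy (htv B) (htv B') with e | ⟨e1, -, e2, e3⟩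
    · refine absurd ?_ hne
      refine Subtype.ext ?_
      rw [← hc B, ← hc B']
      show (blk p H a).map (MulAut.conj ((c B : X) : G)).toMonoidHom =
        (blk p H a).map (MulAut.conj ((c B' : X) : G)).toMonoidHom
      rw [hblk, hblk]; exact e
    · rw [commutator_eq_bot_iff_le_centralizer] at e1
      refine fun g hg => mem_centralizer_sup_iff.mpr ⟨?_, ?_⟩
      · refine (sup_le ?_ ?_ : bW p V H b ⊔ blk p H b ≤ centralizer (bW p V H b' : Set G)) hg
        · exact fun w hw => mem_centralizer_iff.mpr fun v hv =>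
            h.comm ((h.blk_facts (htv B')).2.2.1 hv) ((h.blk_facts (htv B)).2.2.1 hw)
        · exact le_centralizer_iff.mp (e2.trans inf_le_right)
      · exact (sup_le (e3.trans inf_le_right) e1 :
          bW p V H b ⊔ blk p H b ≤ centralizer (blk p H b' : Set G)) hg
  have hcomm : Pairwise fun B B' => ∀ e f, Commute (φ B e) (φ B' f) := fun B B' hne e f =>
    (mem_centralizer_iff.mp (hsep B B' hne (hrange B e)) _ (hrange B' f)).symm
  let Φ : (O → U) →* G := MonoidHom.noncommPiCoprod φ hcomm
  let diag : U →* (O → U) := MonoidHom.mk' (fun e _ => e) fun _ _ => rfl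
  refine ⟨Φ.comp diag, ?_, ?_, ?_, ?_⟩
  · -- `X` fixes the diagonal
    intro x hx e
    have hmem : ∀ B : O, (B : Subgroup G).map (MulAut.conj x).toMonoidHom ∈ O := by
      intro B
      refine ⟨⟨x * (c B : X), mul_mem hx (c B).2⟩, ?_⟩
      rw [← hc B, Subgroup.map_map]
      congr 1
      ext g
      simp [MulAut.conj_apply, mul_assoc]
    let σ : O → O := fun B => ⟨_, hmem B⟩
    have hσi : Function.Injective σ := fun B B' hBB' =>
      Subtype.ext (Subgroup.map_injective (MulAut.conj x).injective (congrArg Subtype.val hBB'))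
    let σe : O ≃ O := Equiv.ofBijective σ (Finite.injective_iff_bijective.mp hσi)
    let R : (O → U) →* (O → U) := MonoidHom.mk' (fun f B => f (σe.symm B)) fun _ _ => rfl
    have key : (MulAut.conj x).toMonoidHom.comp Φ = Φ.comp R := by
      refine MonoidHom.pi_ext fun B f => ?_
      have hR : R (Pi.mulSingle B f) = Pi.mulSingle (σe B) f := by
        funext B'
        show (Pi.mulSingle B f : O → U) (σe.symm B') = _
        rw [Pi.mulSingle_apply, Pi.mulSingle_apply]
        simp [Equiv.symm_apply_eq]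
      show x * Φ (Pi.mulSingle B f) * x⁻¹ = Φ (R (Pi.mulSingle B f))
      rw [hR, show Φ = MonoidHom.noncommPiCoprod φ hcomm from rfl,
        MonoidHom.noncommPiCoprod_mulSingle, MonoidHom.noncommPiCoprod_mulSingle, hφ, hφ]
      have h1 := hindep ⟨x * (c B : X), mul_mem hx (c B).2⟩ (c (σe B)) ?_ f f.2
      · rw [← h1]; group
      · rw [show (blk p H a).map (MulAut.conj ((c (σe B) : X) : G)).toMonoidHom = (σe B : Subgroup G)
          from hc (σe B)]
        show _ = (B : Subgroup G).map (MulAut.conj x).toMonoidHom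
        rw [← hc B, Subgroup.map_map]
        congr 1
        exact MonoidHom.ext fun g => by simp [MulAut.conj_apply, mul_assoc]
    exact DFunLike.congr_fun key (diag e)
  · intro e
    have hB0 : blk p H a ∈ O := ⟨1, by ext g; simp⟩
    set B0 : O := ⟨_, hB0⟩
    have h00 : ∀ g : U, φ B0 g = g := fun g => by
      have := hindep (c B0) 1 ((hc B0).trans (by ext z; simp [B0])) g g.2
      simpa [hφ] using this
    have h0 : φ B0 e = e := h00 e
    refine ⟨(e : G)⁻¹ * Φ (diag e), ?_, by simp⟩
    rw [show Φ (diag e) = _ from MonoidHom.noncommPiCoprod_apply φ (diag e)]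
    rw [← Finset.mul_noncommProd_erase Finset.univ (Finset.mem_univ B0),
      show φ B0 (diag e B0) = (e : G) from h0, inv_mul_cancel_left]
    refine Subgroup.noncommProd_mem _ _ fun B hB => ?_
    have hne := (Finset.mem_erase.mp hB).1
    have h1 := hsep B B0 hne (hrange B e)
    refine (centralizer_le (SetLike.coe_subset_coe.mpr ?_)) h1
    intro g hg
    have h2 : φ B0 ⟨g, hg⟩ = g := h00 ⟨g, hg⟩
    exact h2 ▸ hrange B0 ⟨g, hg⟩
  · intro e he
    show Φ (diag e) ∈ H
    rw [show Φ (diag e) = _ from MonoidHom.noncommPiCoprod_apply φ (diag e)]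
    refine Subgroup.noncommProd_mem H _ fun B _ => ?_
    exact (mem_normalizer_iff.mp (hXH (c B).2) _).mp (blk_le ha he)
  · intro e he
    show Φ (diag e) ∈ V
    rw [show Φ (diag e) = _ from MonoidHom.noncommPiCoprod_apply φ (diag e)]
    refine Subgroup.noncommProd_mem V _ fun B _ => ?_
    exact (mem_normalizer_iff.mp (hXV (c B).2) _).mp (hWV he)

end Setting

end Cfsg.Agent.H31.FF
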