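import Cfsg.Agent.H31.FFBlock

/-!
The structure theorem for failure of factorization: the blocks of two transvections are equal or
centralize each other, and `H` is their product.
-/

set_option autoImplicit false

namespace Cfsg.Agent.H31.FF

open Subgroup
open scoped Pointwise commutatorElement

variable {G : Type*} [Group G] {p : ℕ} {V H : Subgroup G}

/-- `[V, [F,a]⟨a⟩]`. -/
abbrev bW (p : ℕ) (V H : Subgroup G) (a : G) : Subgroup G := ⁅V, Setting.blk p H a⁆

/-- `C_V([F,a]⟨a⟩)`. -/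
abbrev bC (p : ℕ) (V H : Subgroup G) (a : G) : Subgroup G :=
  V ⊓ centralizer (Setting.blk p H a : Set G)

/-- An element normalizing `V` and `E` normalizes `C_V(E)`. -/
theorem mem_normalizer_inf_centralizer [Finite G] {E : Subgroup G} {g : G}
    (hV : g ∈ normalizer (V : Set G)) (hE : g ∈ normalizer (E : Set G)) :
    g ∈ normalizer ((V ⊓ centralizer (E : Set G) : Subgroup G) : Set G) := by
  refine Thompson.mem_normalizer_of_map_conj (Subgroup.eq_of_le_of_card_ge ?_
    (le_of_eq (Subgroup.card_map_of_injective (MulAut.conj g).injective).symm))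
  rintro _ ⟨v, hv, rfl⟩
  refine ⟨(mem_normalizer_iff.mp hV v).mp hv.1, mem_centralizer_iff.mpr fun e he => ?_⟩
  have he' : g⁻¹ * e * g ∈ E := by simpa using (mem_normalizer_iff.mp (inv_mem hE) e).mp he
  show e * (g * v * g⁻¹) = g * v * g⁻¹ * e
  calc e * (g * v * g⁻¹) = g * ((g⁻¹ * e * g) * v) * g⁻¹ := by group
    _ = g * (v * (g⁻¹ * e * g)) * g⁻¹ := by rw [mem_centralizer_iff.mp hv.2 _ he']
    _ = g * v * g⁻¹ * e := by group

theorem mem_normalizer_commutator [Finite G] {A E : Subgroup G} {g : G}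
    (hA : g ∈ normalizer (A : Set G)) (hE : g ∈ normalizer (E : Set G)) :
    g ∈ normalizer ((⁅A, E⁆ : Subgroup G) : Set G) := by
  refine Thompson.mem_normalizer_of_map_conj ?_
  rw [map_commutator, Thompson.map_conj_of_mem_normalizer hA,
    Thompson.map_conj_of_mem_normalizer hE]

namespace Setting

variable [Finite G] [hp : Fact p.Prime]

theorem blk_le {a : G} (ha : IsTv p V H a) : blk p H a ≤ H :=
  sup_le ((nblk_le_core ha.mem).trans core_le) (zpowers_le.mpr ha.mem)

theorem nblk_normalizer_core {a : G} : core p H ≤ normalizer (nblk p H a : Set G) := by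
  rw [nblk, commutator_comm]
  exact Subgroup.normalizer_commutator_ge_right _ _

theorem zpowers_le_normalizer_nblk {a : G} (ha : IsTv p V H a) :
    zpowers a ≤ normalizer (nblk p H a : Set G) := fun g hg =>
  mem_normalizer_commutator (le_normalizer_core (zpowers_le.mpr ha.mem hg))
    (le_normalizer hg)

theorem core_le_normalizer_blk {a : G} :
    core p H ≤ normalizer (blk p H a : Set G) := by
  intro y hy
  refine Thompson.mem_normalizer_of_map_conj (Subgroup.eq_of_le_of_card_ge ?_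
    (le_of_eq (Subgroup.card_map_of_injective (MulAut.conj y).injective).symm))
  rw [Subgroup.map_sup, sup_le_iff, Thompson.map_conj_of_mem_normalizer (nblk_normalizer_core hy),
    MonoidHom.map_zpowers, zpowers_le]
  refine ⟨le_sup_left, ?_⟩
  show y * a * y⁻¹ ∈ blk p H a
  have e : y * a * y⁻¹ = ⁅y, a⁆ * a := by rw [commutatorElement_def]; group
  rw [e]
  exact mul_mem (mem_sup_left (commutator_mem_commutator hy (mem_zpowers a)))
    (mem_sup_right (mem_zpowers a))

theorem core_le_normalizer_bW (h : Setting p V H) {a : G} :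
    core p H ≤ normalizer (bW p V H a : Set G) := fun _ hy =>
  mem_normalizer_commutator (h.hHV (core_le hy)) (core_le_normalizer_blk hy)

theorem core_le_normalizer_bC (h : Setting p V H) {a : G} :
    core p H ≤ normalizer (bC p V H a : Set G) := fun _ hy =>
  mem_normalizer_inf_centralizer (h.hHV (core_le hy)) (core_le_normalizer_blk hy)

theorem blk_facts (h : Setting p V H) {a : G} (ha : IsTv p V H a) :
    Nonempty (blk p H a ≃* Matrix.SpecialLinearGroup (Fin 2) (ZMod p)) ∧
    Nat.card (bW p V H a) = p ^ 2 ∧ bW p V H a ≤ V ∧ bW p V H a ⊓ bC p V H a = ⊥ ∧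
    bW p V H a ⊔ bC p V H a = V ∧
    blk p H a ⊓ centralizer (bW p V H a : Set G) = ⊥ := by
  obtain ⟨x, t, u, P, -, hP⟩ := h.exists_blk ha
  have hW : bW p V H a = P.W := by rw [bW, ← hP]; exact P.commutator_eq h.toFaith
  have hC : bC p V H a = P.C := by rw [bC, ← hP]; exact P.inf_centralizer_L
  refine ⟨?_, ?_, ?_, ?_, ?_, ?_⟩
  · rw [← hP]; exact ⟨P.equiv h.toFaith⟩
  · rw [hW]; exact P.card_W h.toFaith
  · rw [hW]; exact P.W_le
  · rw [hW, hC]; exact P.W_inf_C h.toFaith
  · rw [hW, hC]; exact P.sup_eq h.toFaith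
  · rw [hW, ← hP]; exact P.L_inf_centralizer_W h.toFaith

theorem blk_free (h : Setting p V H) {a : G} (ha : IsTv p V H a) :
    ∃ g ∈ nblk p H a, ∀ w ∈ bW p V H a, g ^ (p - 1) * w * (g ^ (p - 1))⁻¹ = w → w = 1 := by
  obtain ⟨x, t, u, P, -, hP⟩ := h.exists_blk ha
  obtain ⟨g, hg, -, hfree⟩ := h.exists_free P hP
  refine ⟨g, hg, ?_⟩
  rw [bW, ← hP, P.commutator_eq h.toFaith]
  exact hfree

theorem conj_pow_of_conj {g w : G} {k : ℕ} (h : g * w * g⁻¹ = w ^ k) :
    ∀ n : ℕ, g ^ n * w * (g ^ n)⁻¹ = w ^ k ^ n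
  | 0 => by simp
  | n + 1 => by
    calc g ^ (n + 1) * w * (g ^ (n + 1))⁻¹ = g * (g ^ n * w * (g ^ n)⁻¹) * g⁻¹ := by
          rw [pow_succ']; group
      _ = g * w ^ k ^ n * g⁻¹ := by rw [conj_pow_of_conj h n]
      _ = (g * w * g⁻¹) ^ k ^ n := by rw [conj_pow]
      _ = w ^ k ^ (n + 1) := by rw [h, ← pow_mul, pow_succ, mul_comm]

theorem blk_irreducible (h : Setting p V H) {a : G} (ha : IsTv p V H a) {Y : Subgroup G}
    (hY : Y ≤ bW p V H a) (hN : nblk p H a ≤ normalizer (Y : Set G)) :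
    Y = ⊥ ∨ Y = bW p V H a := by
  obtain ⟨-, hcard, hWV, -, -, -⟩ := h.blk_facts ha
  obtain ⟨i, hi2, hi⟩ := (Nat.dvd_prime_pow hp.out).mp (hcard ▸ Subgroup.card_dvd_of_le hY)
  rcases eq_or_ne i 2 with e | hne2
  · exact Or.inr (Subgroup.eq_of_le_of_card_ge hY (by rw [hcard, hi, e]))
  rcases eq_or_ne i 0 with e | hne0
  · exact Or.inl (Subgroup.card_eq_one.mp (by rw [hi, e, pow_zero]))
  exfalso
  have hi1 : i = 1 := by omega
  rw [hi1, pow_one] at hi
  obtain ⟨⟨w, hw⟩, hw1⟩ :=
    @exists_ne _ (Y.nontrivial_iff_ne_bot.mpr fun e => by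
      rw [e, Subgroup.card_bot] at hi; exact hp.out.one_lt.ne hi) (1 : Y)
  have hw1' : w ≠ 1 := fun e => hw1 (Subtype.ext e)
  have hwo : orderOf w = p := h.orderOf_eq_of_ne_one (hWV (hY hw)) hw1'
  have hYw : zpowers w = Y := Subgroup.eq_of_le_of_card_ge (zpowers_le.mpr hw)
    (by rw [Nat.card_zpowers, hwo, hi])
  obtain ⟨g, hg, hfree⟩ := h.blk_free ha
  have hgw : g * w * g⁻¹ ∈ zpowers w := hYw.symm ▸ (mem_normalizer_iff.mp (hN hg) w).mp hw
  obtain ⟨k, hk : w ^ k = g * w * g⁻¹⟩ := mem_powers_iff_mem_zpowers.mpr hgw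
  have hpk : ¬ p ∣ k := by
    rintro ⟨l, rfl⟩
    rw [pow_mul, h.pow_eq (hWV (hY hw)), one_pow] at hk
    exact hw1' (conj_eq_one_iff.mp hk.symm)
  refine hw1' (hfree w (hY hw) ?_)
  have hmod : k ^ (p - 1) ≡ 1 [MOD orderOf w] := by
    rw [hwo, ← Nat.totient_prime hp.out]
    exact Nat.ModEq.pow_totient ((Nat.Prime.coprime_iff_not_dvd hp.out).mpr hpk).symm
  rw [conj_pow_of_conj hk.symm, pow_eq_pow_iff_modEq.mpr hmod, pow_one]

theorem inf_centralizer_nblk_le (h : Setting p V H) {a : G} (ha : IsTv p V H a) :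
    V ⊓ centralizer (nblk p H a : Set G) ≤ bC p V H a := by
  intro v hv
  obtain ⟨-, -, hWV, -, hsup, -⟩ := h.blk_facts ha
  have hv' : v ∈ (bW p V H a : Set G) * (bC p V H a : Set G) := by
    rw [← Subgroup.coe_mul_of_right_le_normalizer_left, hsup]
    · exact hv.1
    · exact fun c hc => centralizer_le_normalizer _ (mem_centralizer_iff.mpr fun w hw =>
        h.comm (hWV hw) hc.1)
  obtain ⟨w, hw, c, hc, rfl⟩ := hv'
  obtain ⟨g, hg, hfree⟩ := h.blk_free ha
  have hgg : g ^ (p - 1) ∈ nblk p H a := pow_mem hg _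
  have h1 := mem_centralizer_iff.mp hv.2 _ hgg
  have h2 := mem_centralizer_iff.mp hc.2 _ (mem_sup_left hgg)
  have h3 : g ^ (p - 1) * w * (g ^ (p - 1))⁻¹ = w := by
    rw [mul_inv_eq_iff_eq_mul]
    refine mul_right_cancel (b := c) ?_
    calc g ^ (p - 1) * w * c = g ^ (p - 1) * (w * c) := mul_assoc _ _ _
      _ = (w * c) * g ^ (p - 1) := h1
      _ = w * g ^ (p - 1) * c := by rw [mul_assoc, ← h2, mul_assoc]
  have hw1 := hfree w hw h3
  show w * c ∈ bC p V H a
  rw [hw1, one_mul]; exact hc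

/-- Two blocks are equal, or centralize each other. -/
theorem dichotomy (h : Setting p V H) {a b : G} (ha : IsTv p V H a) (hb : IsTv p V H b) :
    blk p H a = blk p H b ∨
      (⁅blk p H a, blk p H b⁆ = ⊥ ∧ bW p V H a ⊓ bW p V H b = ⊥ ∧
        bW p V H b ≤ bC p V H a ∧ bW p V H a ≤ bC p V H b) := by
  obtain ⟨-, -, hWaV, hWCa, hsupa, -⟩ := h.blk_facts ha
  obtain ⟨-, -, hWbV, hWCb, hsupb, -⟩ := h.blk_facts hb
  have hNa : nblk p H a ≤ core p H := nblk_le_core ha.mem
  have hNb : nblk p H b ≤ core p H := nblk_le_core hb.mem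
  have hI : core p H ≤ normalizer ((bW p V H a ⊓ bW p V H b : Subgroup G) : Set G) := fun y hy => by
    refine Thompson.mem_normalizer_of_map_conj ?_
    rw [Subgroup.map_inf _ _ _ (MulAut.conj y).injective,
      Thompson.map_conj_of_mem_normalizer (h.core_le_normalizer_bW hy),
      Thompson.map_conj_of_mem_normalizer (h.core_le_normalizer_bW hy)]
  -- invariant subgroups meeting a plane trivially are centralized by its block
  have hkey : ∀ {c : G}, IsTv p V H c → ∀ {Y : Subgroup G}, Y ≤ V →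
      core p H ≤ normalizer (Y : Set G) → bW p V H c ⊓ Y = ⊥ → Y ≤ bC p V H c := by
    intro c hc Y hYV hYn hYW y hy
    refine h.inf_centralizer_nblk_le hc ⟨hYV hy, mem_centralizer_iff.mpr fun g hg => ?_⟩
    have hgc := nblk_le_core hc.mem hg
    have h1 : ⁅y, g⁆ ∈ bW p V H c ⊓ Y := by
      refine ⟨commutator_mem_commutator (hYV hy) (mem_sup_left hg), ?_⟩
      show ⁅y, g⁆ ∈ Y
      have e : ⁅y, g⁆ = y * (g * y⁻¹ * g⁻¹) := by rw [commutatorElement_def]; group
      rw [e]
      exact mul_mem hy ((mem_normalizer_iff.mp (hYn hgc) _).mp (inv_mem hy))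
    rw [hYW, mem_bot, commutatorElement_eq_one_iff_mul_comm] at h1
    exact h1.symm
  rcases h.blk_irreducible ha inf_le_left (hNa.trans hI) with hbot | haeq
  · refine Or.inr ?_
    have h1 : bW p V H b ≤ bC p V H a := hkey ha hWbV h.core_le_normalizer_bW hbot
    have h2 : bW p V H a ≤ bC p V H b :=
      hkey hb hWaV h.core_le_normalizer_bW (by rw [inf_comm]; exact hbot)
    refine ⟨?_, hbot, h1, h2⟩
    rw [commutator_eq_bot_iff_le_centralizer]
    intro e he
    refine mem_centralizer_iff.mpr fun f hf => ?_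
    have heH := blk_le ha he
    have hfH := blk_le hb hf
    have heW : e ∈ normalizer (bW p V H a : Set G) :=
      mem_normalizer_commutator (h.hHV heH) (le_normalizer he)
    have hcomm : ∀ v ∈ V, (e⁻¹ * f⁻¹ * e * f) * v * (e⁻¹ * f⁻¹ * e * f)⁻¹ = v := by
      intro v hv
      have hv' : v ∈ (bW p V H a : Set G) * (bC p V H a : Set G) := by
        rw [← Subgroup.coe_mul_of_right_le_normalizer_left, hsupa]
        · exact hv
        · exact fun c hc => centralizer_le_normalizer _ (mem_centralizer_iff.mpr fun w hw =>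
            h.comm (hWaV hw) hc.1)
      obtain ⟨w, hw, c, hc, rfl⟩ := hv'
      have fix_e : ∀ z ∈ bC p V H a, e * z * e⁻¹ = z := fun z hz => by
        rw [mem_centralizer_iff.mp hz.2 e he, mul_inv_cancel_right]
      have fix_f : ∀ z ∈ bC p V H b, f * z * f⁻¹ = z := fun z hz => by
        rw [mem_centralizer_iff.mp hz.2 f hf, mul_inv_cancel_right]
      have fix_e' : ∀ z ∈ bC p V H a, e⁻¹ * z * e = z := fun z hz => by
        conv_lhs => rw [← fix_e z hz]
        group
      have fix_f' : ∀ z ∈ bC p V H b, f⁻¹ * z * f = z := fun z hz => by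
        conv_lhs => rw [← fix_f z hz]
        group
      have hw' : e * w * e⁻¹ ∈ bW p V H a := (mem_normalizer_iff.mp heW w).mp hw
      have hfc : f * c * f⁻¹ ∈ bC p V H a := by
        have h3 : f * c * f⁻¹ * c⁻¹ ∈ bW p V H b := by
          have := inv_mem (commutator_mem_commutator hc.1 hf : ⁅c, f⁆ ∈ bW p V H b)
          rwa [commutatorElement_inv, commutatorElement_def] at this
        have := mul_mem (h1 h3) hc
        rwa [inv_mul_cancel_right] at this
      calc (e⁻¹ * f⁻¹ * e * f) * (w * c) * (e⁻¹ * f⁻¹ * e * f)⁻¹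
          = (e⁻¹ * (f⁻¹ * (e * (f * w * f⁻¹) * e⁻¹) * f) * e) *
              (e⁻¹ * (f⁻¹ * (e * (f * c * f⁻¹) * e⁻¹) * f) * e) := by group
        _ = (e⁻¹ * (e * w * e⁻¹) * e) * (e⁻¹ * c * e) := by
            rw [fix_f w (h2 hw), fix_f' _ (h2 hw'), fix_e _ hfc]
            have : f⁻¹ * (f * c * f⁻¹) * f = c := by group
            rw [this]
        _ = w * c := by rw [fix_e' c hc]; group
    have h4 := h.eq_one (mul_mem (mul_mem (mul_mem (inv_mem heH) (inv_mem hfH)) heH) hfH)
      (mem_centralizer_iff.mpr fun v hv => by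
        calc v * (e⁻¹ * f⁻¹ * e * f)
            = (e⁻¹ * f⁻¹ * e * f) * v * (e⁻¹ * f⁻¹ * e * f)⁻¹ * (e⁻¹ * f⁻¹ * e * f) := by
              rw [hcomm v hv]
          _ = (e⁻¹ * f⁻¹ * e * f) * v := by rw [inv_mul_cancel_right])
    calc f * e = f * e * (e⁻¹ * f⁻¹ * e * f) := by rw [h4, mul_one]
      _ = e * f := by group
  · refine Or.inl ?_
    have haW : bW p V H a ≤ bW p V H b := inf_eq_left.mp haeq
    have hW : bW p V H a = bW p V H b := by
      rcases h.blk_irreducible hb haW (hNb.trans h.core_le_normalizer_bW) with e | e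
      · exfalso
        have := (h.blk_facts ha).2.1
        rw [e, Subgroup.card_bot] at this
        exact (Nat.one_lt_pow (by norm_num) hp.out.one_lt).ne this
      · exact e
    have hC1 : bC p V H b ≤ bC p V H a :=
      hkey ha inf_le_left h.core_le_normalizer_bC (by rw [hW]; exact hWCb)
    have hC2 : bC p V H a ≤ bC p V H b :=
      hkey hb inf_le_left h.core_le_normalizer_bC (by rw [← hW]; exact hWCa)
    have hmem : ∀ {c d : G}, IsTv p V H c → IsTv p V H d → bW p V H c = bW p V H d →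
        bC p V H c ≤ bC p V H d → d ∈ blk p H c := by
      intro c d hc hd hWcd hCcd
      obtain ⟨x, t, u, P, -, hP⟩ := h.exists_blk hc
      rw [← hP]
      refine P.mem_L_of_orderOf h.toFaith ⟨⟨hd.mem, ?_⟩, ?_⟩ (by
        rw [← hd.2.1, pow_orderOf_eq_one])
      · rw [← P.commutator_eq h.toFaith, hP]
        have : d ∈ normalizer (bW p V H d : Set G) :=
          mem_normalizer_commutator (h.hHV hd.mem) (le_normalizer (mem_sup_right (mem_zpowers d)))
        rwa [← hWcd] at this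
      · rw [← P.inf_centralizer_L, hP]
        exact mem_centralizer_iff.mpr fun z hz =>
          (mem_centralizer_iff.mp (hCcd hz).2 d (mem_sup_right (mem_zpowers d))).symm
    have hle : ∀ {c d : G}, d ∈ blk p H c → blk p H d ≤ blk p H c := by
      intro c d hd
      refine sup_le (commutator_le.mpr fun y hy e he => ?_) (zpowers_le.mpr hd)
      rw [commutatorElement_def]
      exact mul_mem ((mem_normalizer_iff.mp (core_le_normalizer_blk hy) e).mp
        (zpowers_le.mpr hd he)) (inv_mem (zpowers_le.mpr hd he))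
    exact le_antisymm (hle (hmem hb ha hW.symm hC1)) (hle (hmem ha hb hW hC2))

/-- `H` is generated by its transvections. -/
theorem le_closure (h : Setting p V H)
    (hS3 : H = ⨆ A : {A : Subgroup G // A ≤ H ∧ Cfsg.IsBestOffenderOn p V A}, (A : Subgroup G)) :
    H ≤ closure {b | IsTv p V H b} := by
  conv_lhs => rw [hS3]
  exact iSup_le fun A => (h.le_closure_tv _ A le_rfl A.2.1 A.2.2).trans
    (closure_mono fun a ha => ha.2)

theorem le_normalizer_blk (h : Setting p V H)
    (hS3 : H = ⨆ A : {A : Subgroup G // A ≤ H ∧ Cfsg.IsBestOffenderOn p V A}, (A : Subgroup G))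
    {a : G} (ha : IsTv p V H a) : H ≤ normalizer (blk p H a : Set G) := by
  refine (h.le_closure hS3).trans ((closure_le _).mpr fun b hb => ?_)
  rcases h.dichotomy ha hb with e | ⟨e, -⟩
  · exact le_normalizer (e ▸ mem_sup_right (mem_zpowers b))
  · rw [commutator_comm, commutator_eq_bot_iff_le_centralizer] at e
    exact centralizer_le_normalizer _ (e (mem_sup_right (mem_zpowers b)))

theorem nblk_card (h : Setting p V H) {a : G} (ha : IsTv p V H a) :
    Nat.card (blk p H a) = Nat.card (nblk p H a) * p := by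
  have h1 := card_sup_mul_card_inf (A := nblk p H a) (B := zpowers a) (zpowers_le_normalizer_nblk ha)
  have h2 : nblk p H a ⊓ zpowers a = ⊥ := (eq_bot_iff_forall _).mpr fun x hx =>
    eq_one_of_mem_core_of_isPGroup (nblk_le_core ha.mem hx.1)
      (h.offender_isPGroup (zpowers_le.mpr ha.mem) (h.tv_offender ha).1) hx.2
  rwa [h2, Subgroup.card_bot, mul_one, Nat.card_zpowers, ha.2.1] at h1

theorem card_sl_two : Nat.card (Matrix.SpecialLinearGroup (Fin 2) (ZMod 2)) = 6 := by
  rw [Nat.card_eq_fintype_card]; decide +kernel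

theorem card_sl_three : Nat.card (Matrix.SpecialLinearGroup (Fin 2) (ZMod 3)) = 24 := by
  rw [Nat.card_eq_fintype_card]; decide +kernel

theorem noncomm_three : ∃ M N : Matrix.SpecialLinearGroup (Fin 2) (ZMod 3),
    M ^ 4 = 1 ∧ N ^ 4 = 1 ∧ M * N ≠ N * M :=
  ⟨⟨!![0, 2; 1, 0], by decide +kernel⟩, ⟨!![1, 1; 1, 2], by decide +kernel⟩,
    by decide +kernel, by decide +kernel, by decide +kernel⟩

theorem nblk_structure (h : Setting p V H) {a : G} (ha : IsTv p V H a) :
    (p = 2 ∧ IsPGroup 3 (nblk p H a)) ∨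
      (p = 3 ∧ IsPGroup 2 (nblk p H a) ∧ ¬ IsMulCommutative (nblk p H a)) := by
  obtain ⟨⟨e⟩, -⟩ := h.blk_facts ha
  have hc := Nat.card_congr e.toEquiv
  rw [h.nblk_card ha] at hc
  rcases h.prime_two_or_three ha with rfl | rfl
  · rw [card_sl_two] at hc
    exact Or.inl ⟨rfl, IsPGroup.of_card (n := 1) (by omega)⟩
  · rw [card_sl_three] at hc
    refine Or.inr ⟨rfl, IsPGroup.of_card (n := 3) (by omega), fun hcom => ?_⟩
    obtain ⟨M, N, hM, hN, hne⟩ := noncomm_three
    have hmem : ∀ X : Matrix.SpecialLinearGroup (Fin 2) (ZMod 3), X ^ 4 = 1 →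
        ((e.symm X : blk 3 H a) : G) ∈ nblk 3 H a := fun X hX =>
      mem_core_of_blk ha (e.symm X).2 (m := 4)
        (by rw [← SubgroupClass.coe_pow, ← map_pow, hX, map_one]; rfl) (by decide)
    have h3 := Thompson.isMulCommutative_iff_forall.mp hcom _ (hmem M hM) _ (hmem N hN)
    refine hne (e.symm.injective ?_)
    rw [map_mul, map_mul]
    exact Subtype.ext h3

theorem centralizer_bW_facts (h : Setting p V H)
    (hS3 : H = ⨆ A : {A : Subgroup G // A ≤ H ∧ Cfsg.IsBestOffenderOn p V A}, (A : Subgroup G))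
    {a : G} (ha : IsTv p V H a) :
    ⁅blk p H a, H ⊓ centralizer (bW p V H a : Set G)⁆ = ⊥ ∧
    blk p H a ⊓ (H ⊓ centralizer (bW p V H a : Set G)) = ⊥ ∧
    blk p H a ⊔ (H ⊓ centralizer (bW p V H a : Set G)) = H ∧
    ⁅V, H ⊓ centralizer (bW p V H a : Set G)⁆ ≤ bC p V H a := by
  obtain ⟨-, -, hWV, hWC, hsup, hfaith⟩ := h.blk_facts ha
  set R := H ⊓ centralizer (bW p V H a : Set G) with hR
  have hdec : ∀ v ∈ V, ∃ w ∈ bW p V H a, ∃ c ∈ bC p V H a, v = w * c := by
    intro v hv
    have hv' : v ∈ (bW p V H a : Set G) * (bC p V H a : Set G) := by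
      rw [← Subgroup.coe_mul_of_right_le_normalizer_left, hsup]
      · exact hv
      · exact fun c hc => centralizer_le_normalizer _ (mem_centralizer_iff.mpr fun w hw =>
          h.comm (hWV hw) hc.1)
    obtain ⟨w, hw, c, hc, rfl⟩ := hv'
    exact ⟨w, hw, c, hc, rfl⟩
  have hRC : R ≤ normalizer (bC p V H a : Set G) := fun r hr =>
    mem_normalizer_inf_centralizer (h.hHV hr.1) (h.le_normalizer_blk hS3 ha hr.1)
  refine ⟨?_, ?_, ?_, ?_⟩
  · rw [commutator_eq_bot_iff_le_centralizer]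
    intro e he
    refine mem_centralizer_iff.mpr fun r hr => ?_
    have heW : e ∈ normalizer (bW p V H a : Set G) :=
      mem_normalizer_commutator (h.hHV (blk_le ha he)) (le_normalizer he)
    have h1 := h.eq_one (g := e⁻¹ * r⁻¹ * e * r)
      (mul_mem (mul_mem (mul_mem (inv_mem (blk_le ha he)) (inv_mem hr.1)) (blk_le ha he)) hr.1)
      (mem_centralizer_iff.mpr fun v hv => by
        obtain ⟨w, hw, c, hc, rfl⟩ := hdec v hv
        have fixw : ∀ z ∈ bW p V H a, r * z = z * r := fun z hz =>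
          (mem_centralizer_iff.mp hr.2 z hz).symm
        have fixc : ∀ z ∈ bC p V H a, e * z = z * e := fun z hz => mem_centralizer_iff.mp hz.2 e he
        have hw' : e * w * e⁻¹ ∈ bW p V H a := (mem_normalizer_iff.mp heW w).mp hw
        have hc' : r * c * r⁻¹ ∈ bC p V H a := (mem_normalizer_iff.mp (hRC hr) c).mp hc
        have e1 : e⁻¹ * r⁻¹ * e * r * w = w * (e⁻¹ * r⁻¹ * e * r) := by
          calc e⁻¹ * r⁻¹ * e * r * w = e⁻¹ * r⁻¹ * e * (r * w) := by group
            _ = e⁻¹ * r⁻¹ * e * (w * r) := by rw [fixw w hw]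
            _ = e⁻¹ * r⁻¹ * ((e * w * e⁻¹) * r) * r⁻¹ * e * r := by group
            _ = e⁻¹ * r⁻¹ * (r * (e * w * e⁻¹)) * r⁻¹ * e * r := by rw [fixw _ hw']
            _ = w * (e⁻¹ * r⁻¹ * e * r) := by group
        have e2 : e⁻¹ * r⁻¹ * e * r * c = c * (e⁻¹ * r⁻¹ * e * r) := by
          calc e⁻¹ * r⁻¹ * e * r * c = e⁻¹ * r⁻¹ * (e * (r * c * r⁻¹)) * r := by group
            _ = e⁻¹ * r⁻¹ * ((r * c * r⁻¹) * e) * r := by rw [fixc _ hc']
            _ = e⁻¹ * (c * e) * e⁻¹ * r⁻¹ * e * r := by group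
            _ = e⁻¹ * (e * c) * e⁻¹ * r⁻¹ * e * r := by rw [fixc c hc]
            _ = c * (e⁻¹ * r⁻¹ * e * r) := by group
        calc w * c * (e⁻¹ * r⁻¹ * e * r) = w * (c * (e⁻¹ * r⁻¹ * e * r)) := mul_assoc _ _ _
          _ = w * (e⁻¹ * r⁻¹ * e * r) * c := by rw [← e2]; group
          _ = (e⁻¹ * r⁻¹ * e * r) * w * c := by rw [← e1]
          _ = (e⁻¹ * r⁻¹ * e * r) * (w * c) := mul_assoc _ _ _)
    calc r * e = r * e * (e⁻¹ * r⁻¹ * e * r) := by rw [h1, mul_one]
      _ = e * r := by group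
  · exact eq_bot_iff.mpr ((inf_le_inf_left _ inf_le_right).trans hfaith.le)
  · refine le_antisymm (sup_le (blk_le ha) inf_le_left) ((h.le_closure hS3).trans ?_)
    refine (closure_le _).mpr fun b hb => ?_
    rcases h.dichotomy ha hb with e | ⟨-, -, -, e⟩
    · exact mem_sup_left (e ▸ mem_sup_right (mem_zpowers b))
    · refine mem_sup_right ⟨IsTv.mem hb, mem_centralizer_iff.mpr fun w hw => ?_⟩
      exact (mem_centralizer_iff.mp (e hw).2 b (mem_sup_right (mem_zpowers b))).symm
  · refine commutator_le.mpr fun v hv r hr => ?_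
    obtain ⟨w, hw, c, hc, rfl⟩ := hdec v hv
    have hc' : r * c⁻¹ * r⁻¹ ∈ bC p V H a :=
      (mem_normalizer_iff.mp (hRC hr) _).mp (inv_mem hc)
    have e : ⁅w * c, r⁆ = c * (r * c⁻¹ * r⁻¹) := by
      have h1 : r * w⁻¹ * r⁻¹ = w⁻¹ := by
        rw [← mem_centralizer_iff.mp hr.2 _ (inv_mem hw), mul_inv_cancel_right]
      calc ⁅w * c, r⁆ = w * c * (r * c⁻¹ * r⁻¹) * (r * w⁻¹ * r⁻¹) := by
            rw [commutatorElement_def]; group
        _ = w * (c * (r * c⁻¹ * r⁻¹)) * w⁻¹ := by rw [h1, mul_assoc w c]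
        _ = c * (r * c⁻¹ * r⁻¹) := by
            rw [h.comm (hWV hw) (mul_mem hc.1 hc'.1), mul_inv_cancel_right]
    rw [e]
    exact mul_mem hc hc'

end Setting

end Cfsg.Agent.H31.FF
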