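import Mathlib.Tactic
import Mathlib.GroupTheory.PGroup
import Mathlib.GroupTheory.Sylow
import Mathlib.GroupTheory.Commutator.Basic
import Mathlib.GroupTheory.QuotientGroup.Basic
import Mathlib.GroupTheory.GroupAction.ConjAct

/-!
A group factorized by two abelian subgroups, both supplements of the abelian derived subgroup,
has a nontrivial centre.
-/

namespace Cfsg.Agent.H31

open Subgroup
open scoped commutatorElement

/-- An abelian group with two supplements: if `W` is a normal abelian subgroup, `A`, `B` abelian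
complements of `W` and `G = AB`, then `G` has a nontrivial centre unless `W` is trivial. -/
theorem center_ne_bot_of_two_complements {G : Type*} [Group G] [Finite G] {W A B : Subgroup G}
    [W.Normal] (hWc : ∀ x ∈ W, ∀ y ∈ W, x * y = y * x) (hA : ∀ x ∈ A, ∀ y ∈ A, x * y = y * x)
    (hAW : A ⊔ W = ⊤) (hBW : B ⊔ W = ⊤) (hdB : B ⊓ W = ⊥)
    (hAB : ∀ g : G, ∃ b ∈ B, ∃ a ∈ A, g = b * a) (hW : W ≠ ⊥) : center G ≠ ⊥ := by
  classical
  intro hZ
  letI : CommGroup W :=
    { mul_comm := fun x y => Subtype.ext (hWc x x.2 y y.2) }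
  letI : CommGroup A :=
    { mul_comm := fun x y => Subtype.ext (hA x x.2 y y.2) }
  haveI : Fintype A := Fintype.ofFinite A
  let φ : A →* MulAut W := MulAut.conjNormal.comp A.subtype
  have hφ : ∀ (a : A) (w : W), ((φ a w : W) : G) = (a : G) * w * (a : G)⁻¹ := fun a w => rfl
  -- the derivation attached to the complement `B`
  have hex : ∀ a : A, ∃ w : W, (w : G) * a ∈ B := by
    intro a
    have ha : (a : G) ∈ (↑(W ⊔ B) : Set G) := by rw [sup_comm, hBW]; trivial
    rw [normal_mul] at ha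
    obtain ⟨w, hw, b, hb, he⟩ := ha
    refine ⟨⟨w⁻¹, W.inv_mem hw⟩, ?_⟩
    show w⁻¹ * (a : G) ∈ B
    rw [← he, inv_mul_cancel_left]
    exact hb
  choose d hd using hex
  have huniq : ∀ (a : A) (w : W), (w : G) * a ∈ B → d a = w := by
    intro a w hw
    apply Subtype.ext
    have h1 : (d a : G) * (w : G)⁻¹ ∈ B ⊓ W := by
      refine ⟨?_, mul_mem (d a).2 (W.inv_mem w.2)⟩
      have e : (d a : G) * (w : G)⁻¹ = ((d a : G) * a) * ((w : G) * a)⁻¹ := by group
      rw [e]
      exact mul_mem (hd a) (B.inv_mem hw)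
    rw [hdB, mem_bot, mul_inv_eq_one] at h1
    exact h1
  have hder : ∀ a a' : A, d (a * a') = d a * φ a (d a') := by
    intro a a'
    refine huniq _ _ ?_
    show (d a : G) * ((a : G) * (d a' : G) * (a : G)⁻¹) * ((a : G) * (a' : G)) ∈ B
    have e : (d a : G) * ((a : G) * (d a' : G) * (a : G)⁻¹) * ((a : G) * (a' : G))
        = ((d a : G) * a) * ((d a' : G) * a') := by group
    rw [e]
    exact mul_mem (hd a) (hd a')
  have hsurj : ∀ w : W, ∃ a : A, d a = w := by
    intro w
    obtain ⟨b, hb, a, ha, he⟩ := hAB (w : G)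
    refine ⟨⟨a⁻¹, inv_mem ha⟩, huniq _ _ ?_⟩
    show (w : G) * a⁻¹ ∈ B
    rw [he, mul_inv_cancel_right]
    exact hb
  -- fix a prime and the projection to the corresponding primary part
  obtain ⟨p, hp, hpW⟩ := Nat.exists_prime_and_dvd (mt (Subgroup.card_eq_one (H := W)).mp hW)
  haveI := Fact.mk hp
  set s := (Nat.card W).factorization p with hs
  set t := Nat.card W / p ^ s with ht
  have hst : p ^ s * t = Nat.card W := Nat.ordProj_mul_ordCompl_eq_self _ _
  have htp : (p ^ s).Coprime t :=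
    (Nat.coprime_ordCompl hp Nat.card_pos.ne').pow_left s
  obtain ⟨N, hN1, hN0⟩ := Nat.chineseRemainder htp 1 0
  set e : W →* W := powMonoidHom N with he
  have hpe : ∀ w : W, (e w) ^ p ^ s = 1 := by
    intro w
    obtain ⟨c, hc⟩ := (Nat.modEq_zero_iff_dvd.mp hN0)
    show (w ^ N) ^ p ^ s = 1
    rw [← pow_mul, hc, show t * c * p ^ s = Nat.card W * c by rw [← hst]; ring, pow_mul,
      pow_card_eq_one', one_pow]
  have hfix : ∀ w : W, w ^ p ^ s = 1 → e w = w := by
    intro w hw
    show w ^ N = w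
    conv_rhs => rw [← pow_one w]
    exact pow_eq_pow_iff_modEq.mpr (hN1.of_dvd (orderOf_dvd_of_pow_eq_one hw))
  have hφe : ∀ (a : A) (w : W), φ a (e w) = e (φ a w) := fun a w => map_pow (φ a) w N
  set d' : A → W := fun a => e (d a) with hd'
  have hder' : ∀ a a' : A, d' (a * a') = d' a * φ a (d' a') := fun a a' => by
    simp only [hd', hder, map_mul, hφe]
  -- decompose `A`
  set α := (Nat.card A).factorization p with hα
  set β := Nat.card A / p ^ α with hβ
  have hαβ : p ^ α * β = Nat.card A := Nat.ordProj_mul_ordCompl_eq_self _ _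
  have hαc : (p ^ α).Coprime β := (Nat.coprime_ordCompl hp Nat.card_pos.ne').pow_left α
  set R : Subgroup A := (powMonoidHom β : A →* A).ker with hR
  set P : Subgroup A := (powMonoidHom (p ^ α) : A →* A).ker with hP
  have hdec : ∀ a : A, ∃ x ∈ P, ∃ y ∈ R, a = x * y := by
    intro a
    refine ⟨a ^ ((β : ℤ) * Nat.gcdB (p ^ α) β), ?_, a ^ ((p ^ α : ℕ) * Nat.gcdA (p ^ α) β), ?_, ?_⟩
    · show (a ^ ((β : ℤ) * Nat.gcdB (p ^ α) β)) ^ p ^ α = 1
      rw [← zpow_natCast, ← zpow_mul, show (β : ℤ) * Nat.gcdB (p ^ α) β * ((p ^ α : ℕ) : ℤ)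
        = ((Nat.card A : ℕ) : ℤ) * Nat.gcdB (p ^ α) β by rw [← hαβ]; push_cast; ring, zpow_mul,
        zpow_natCast, pow_card_eq_one', one_zpow]
    · show (a ^ (((p ^ α : ℕ) : ℤ) * Nat.gcdA (p ^ α) β)) ^ β = 1
      rw [← zpow_natCast, ← zpow_mul, show ((p ^ α : ℕ) : ℤ) * Nat.gcdA (p ^ α) β * (β : ℤ)
        = ((Nat.card A : ℕ) : ℤ) * Nat.gcdA (p ^ α) β by rw [← hαβ]; push_cast; ring, zpow_mul,
        zpow_natCast, pow_card_eq_one', one_zpow]
    · rw [← zpow_add, add_comm, ← Nat.gcd_eq_gcd_ab, hαc.gcd_eq_one, Nat.cast_one, zpow_one]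
  have hRcop : (Nat.card R).Coprime p := by
    by_contra hc
    rw [Nat.coprime_comm, hp.coprime_iff_not_dvd, not_not] at hc
    obtain ⟨x, hx⟩ := exists_prime_orderOf_dvd_card' p hc
    have h1 : ((x : A)) ^ β = 1 := x.2
    have h2 : orderOf (x : A) ∣ β := orderOf_dvd_of_pow_eq_one h1
    rw [orderOf_coe, hx] at h2
    exact Nat.not_dvd_ordCompl hp Nat.card_pos.ne' h2
  -- fixed points of `R` in the primary part are trivial
  have hF : ∀ w : W, w ^ p ^ s = 1 → (∀ r ∈ R, φ r w = w) → w = 1 := by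
    let F : Subgroup W :=
      { carrier := {w | w ^ p ^ s = 1 ∧ ∀ r ∈ R, φ r w = w}
        one_mem' := ⟨one_pow _, fun r _ => map_one _⟩
        mul_mem' := fun {x y} hx hy => ⟨by rw [mul_pow, hx.1, hy.1, one_mul],
          fun r hr => by rw [map_mul, hx.2 r hr, hy.2 r hr]⟩
        inv_mem' := fun {x} hx => ⟨by rw [inv_pow, hx.1, inv_one],
          fun r hr => by rw [map_inv, hx.2 r hr]⟩ }
    suffices hbot : F = ⊥ by
      intro w h1 h2
      have : w ∈ F := ⟨h1, h2⟩
      rwa [hbot, mem_bot] at this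
    by_contra hF
    letI act : MulAction P F :=
      { smul := fun x w => ⟨φ (x : A) (w : W), by rw [← map_pow, w.2.1, map_one],
          fun r hr => by
            rw [← MulAut.mul_apply, ← map_mul, mul_comm, map_mul, MulAut.mul_apply, w.2.2 r hr]⟩
        one_smul := fun w => Subtype.ext (by
          show φ ((1 : P) : A) (w : W) = w
          rw [OneMemClass.coe_one, map_one, MulAut.one_apply])
        mul_smul := fun x y w => Subtype.ext (by
          show φ ((x * y : P) : A) (w : W) = φ (x : A) (φ (y : A) (w : W))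
          rw [Subgroup.coe_mul, map_mul, MulAut.mul_apply]) }
    have hPp : IsPGroup p P := fun x => ⟨α, Subtype.ext x.2⟩
    have hFp : IsPGroup p F := fun w => ⟨s, Subtype.ext w.2.1⟩
    haveI : Nontrivial F := (Subgroup.nontrivial_iff_ne_bot F).mpr hF
    obtain ⟨k, hk, hcard⟩ := hFp.nontrivial_iff_card.mp inferInstance
    obtain ⟨w, hwfix, hw1⟩ := hPp.exists_fixed_point_of_prime_dvd_card_of_fixed_point F
      (hcard ▸ dvd_pow_self p hk.ne') (a := 1) (fun x => Subtype.ext (map_one (φ (x : A))))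
    have hwA : ∀ a : A, φ a (w : W) = w := by
      intro a
      obtain ⟨x, hx, y, hy, rfl⟩ := hdec a
      rw [map_mul, MulAut.mul_apply, w.2.2 y hy]
      exact congrArg Subtype.val (hwfix ⟨x, hx⟩)
    apply hw1
    have hcen : ((w : W) : G) ∈ center G := by
      rw [mem_center_iff]
      intro g
      have hg : g ∈ (↑(W ⊔ A) : Set G) := by rw [sup_comm, hAW]; trivial
      rw [normal_mul] at hg
      obtain ⟨v, hv, a, ha, rfl⟩ := hg
      have h1 : a * ((w : W) : G) = ((w : W) : G) * a :=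
        mul_inv_eq_iff_eq_mul.mp (congrArg Subtype.val (hwA ⟨a, ha⟩))
      have h2 := hWc v hv _ (w : W).2
      calc v * a * ((w : W) : G) = v * (a * ((w : W) : G)) := by group
        _ = v * ((w : W) : G) * a := by rw [h1]; group
        _ = ((w : W) : G) * (v * a) := by rw [h2]; group
    rw [hZ, mem_bot] at hcen
    exact (Subtype.ext (Subtype.ext hcen)).symm
  -- average over `R`
  set k := Nat.card R with hk
  haveI : Fintype R := Fintype.ofFinite R
  set S : W := ∏ r : R, d' (r : A) with hS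
  have hSeq : ∀ r₀ : R, S = d' (r₀ : A) ^ k * φ (r₀ : A) S := by
    intro r₀
    conv_lhs => rw [hS, ← Equiv.prod_comp (Equiv.mulLeft r₀) (fun r : R => d' (r : A))]
    simp only [Equiv.coe_mulLeft, Subgroup.coe_mul, hder', Finset.prod_mul_distrib, Finset.prod_const,
      Finset.card_univ, ← Nat.card_eq_fintype_card, ← map_prod, hk, hS]
  have hdp : ∀ a, d' a ^ p ^ s = 1 := fun a => hpe _
  have hSp : S ^ p ^ s = 1 := by
    rw [hS, ← Finset.prod_pow]
    exact Finset.prod_eq_one fun r _ => hdp _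
  obtain ⟨j, hj⟩ : ∃ j : ℕ, (S ^ j) ^ k = S := by
    have h2 : k.Coprime (orderOf S) :=
      (hRcop.pow_right s).coprime_dvd_right (orderOf_dvd_of_pow_eq_one hSp)
    obtain ⟨j, hj⟩ := exists_pow_eq_self_of_coprime h2
    exact ⟨j, by rw [← pow_mul, mul_comm, pow_mul, hj]⟩
  set m := S ^ j with hm
  have hmp : m ^ p ^ s = 1 := by rw [hm, ← pow_mul, mul_comm, pow_mul, hSp, one_pow]
  set f : A → W := fun a => d' a * (m * (φ a m)⁻¹)⁻¹ with hf
  have hfp : ∀ a, f a ^ p ^ s = 1 := by
    intro a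
    simp only [hf]
    rw [mul_pow, hdp, inv_pow, mul_pow, hmp, inv_pow, ← map_pow, hmp, map_one]
    simp
  have hfe : ∀ a, f a = d' a * (m * (φ a m)⁻¹)⁻¹ := fun a => rfl
  have hfder : ∀ a a' : A, f (a * a') = f a * φ a (f a') := by
    intro a a'
    rw [hfe, hfe, hfe, hder']
    simp only [map_mul, map_inv, MulAut.mul_apply, mul_inv_rev, inv_inv]
    apply Additive.ofMul.injective
    simp only [ofMul_mul, ofMul_inv]
    abel
  have hfR : ∀ r ∈ R, f r = 1 := by
    intro r hr
    have h1 : f r ^ k = 1 := by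
      have := hSeq ⟨r, hr⟩
      rw [hfe, mul_pow, inv_pow, mul_pow, inv_pow, ← map_pow (φ r) m k, hj]
      calc d' r ^ k * (S * (φ r S)⁻¹)⁻¹ = (d' r ^ k * φ r S) * S⁻¹ := by
            rw [mul_inv_rev, inv_inv, mul_assoc]
        _ = 1 := by rw [← this, mul_inv_cancel]
    have h2 := Nat.dvd_gcd (orderOf_dvd_of_pow_eq_one h1) (orderOf_dvd_of_pow_eq_one (hfp r))
    rw [(hRcop.pow_right s).gcd_eq_one] at h2
    exact orderOf_eq_one_iff.mp (Nat.dvd_one.mp h2)
  have hf1 : ∀ a, f a = 1 := by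
    intro a
    refine hF _ (hfp a) fun r hr => ?_
    have h1 := hfder r a
    rw [mul_comm r a, hfder a r, hfR r hr, map_one, one_mul, mul_one] at h1
    exact h1.symm
  have hd'eq : ∀ a, d' a = m * (φ a m)⁻¹ := fun a => mul_inv_eq_one.mp (hf1 a)
  -- surjectivity forces the primary part to be trivial
  have hm1 : m = 1 := by
    obtain ⟨a, ha⟩ := hsurj m
    have h := hd'eq a
    simp only [hd'] at h
    rw [ha, hfix m hmp, left_eq_mul, inv_eq_one] at h
    exact (φ a).injective (h.trans (map_one _).symm)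
  obtain ⟨w, hw⟩ := exists_prime_orderOf_dvd_card' p hpW
  obtain ⟨a, ha⟩ := hsurj w
  have h := hd'eq a
  simp only [hd'] at h
  have hwp : w ^ p ^ s = 1 := by
    apply orderOf_dvd_iff_pow_eq_one.mp
    rw [hw]
    exact dvd_pow_self p (Nat.pos_iff_ne_zero.mp
      (hp.factorization_pos_of_dvd Nat.card_pos.ne' hpW))
  rw [ha, hfix w hwp, hm1, map_one, inv_one, mul_one] at h
  rw [h, orderOf_one] at hw
  exact hp.ne_one hw.symm

end Cfsg.Agent.H31
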