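import Cfsg.Agent.H31.WielandtCoprimeMain
import Cfsg.Agent.Cores.PCore
import Cfsg.Agent.PGroups.Basic
import Cfsg.Agent.S0566

/-!
The theorem of Kegel and Wielandt: a product of two nilpotent subgroups is solvable.

The key lemma: two `p`-subgroups which permute with all conjugates of one another commute
when `O_p(G) = 1`.
-/

set_option autoImplicit false

namespace Cfsg.Agent.H31.NilProd

open Subgroup
open scoped Pointwise

universe u

theorem eq_bot_of_normalized {G : Type u} [Group G] [Finite G] {p : ℕ} {K W : Subgroup G} [K.Normal]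
    (hcore : pCore p G = ⊥) (hWK : W ≤ K) (hW : IsPGroup p W)
    (hn : K ≤ normalizer (W : Set G)) : W = ⊥ := by
  have hKcore : pCore p K = ⊥ := by rw [Cores.pCore_of_normal, hcore, bot_subgroupOf]
  haveI : (W.subgroupOf K).Normal :=
    (normal_subgroupOf_iff_le_normalizer hWK).mpr hn
  have h1 := Cores.le_pCore (N := W.subgroupOf K)
    (hW.of_equiv (subgroupOfEquivOfLe hWK).symm)
  rw [hKcore, le_bot_iff, subgroupOf_eq_bot, disjoint_iff, inf_of_le_left hWK] at h1
  exact h1

theorem permutable_symm {G : Type u} [Group G] {A B : Subgroup G}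
    (h : ∀ x : G, ∃ S : Subgroup G, (S : Set G) = (A : Set G) * ((MulAut.conj x • B : Subgroup G) : Set G))
    (x : G) :
    ∃ S : Subgroup G, (S : Set G) = (B : Set G) * ((MulAut.conj x • A : Subgroup G) : Set G) := by
  obtain ⟨S, hS⟩ := h x⁻¹
  refine ⟨MulAut.conj x • S, ?_⟩
  have h1 : (S : Set G) = ((MulAut.conj x⁻¹ • B : Subgroup G) : Set G) * (A : Set G) := by
    have := congrArg (fun s : Set G => s⁻¹) hS
    simpa only [mul_inv_rev, inv_coe_set] using this
  rw [Subgroup.coe_pointwise_smul, h1, smul_mul', Subgroup.coe_pointwise_smul,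
    Subgroup.coe_pointwise_smul, smul_smul, ← map_mul, mul_inv_cancel, map_one, one_smul]

theorem isPGroup_of_product {G : Type u} [Group G] [Finite G] {p : ℕ} [Fact p.Prime]
    {A B S : Subgroup G} (hA : IsPGroup p A) (hB : IsPGroup p B)
    (h : (S : Set G) = (A : Set G) * (B : Set G)) : IsPGroup p S := by
  have hAS : A ≤ S := fun a ha => by
    show a ∈ (S : Set G); rw [h]; exact ⟨a, ha, 1, one_mem _, mul_one a⟩
  have hBS : B ≤ S := fun a ha => by
    show a ∈ (S : Set G); rw [h]; exact ⟨1, one_mem _, a, ha, one_mul a⟩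
  have h1 := card_factorized (G := S) (H := A.subgroupOf S) (K := B.subgroupOf S) fun g => by
    have hg : (g : G) ∈ (S : Set G) := g.2
    rw [h] at hg
    obtain ⟨a, ha, b, hb, e⟩ := hg
    exact ⟨⟨a, hAS ha⟩, ha, ⟨b, hBS hb⟩, hb, Subtype.ext e.symm⟩
  rw [Nat.card_congr (subgroupOfEquivOfLe hAS).toEquiv,
    Nat.card_congr (subgroupOfEquivOfLe hBS).toEquiv] at h1
  obtain ⟨i, hi⟩ := IsPGroup.iff_card.mp hA
  obtain ⟨j, hj⟩ := IsPGroup.iff_card.mp hB
  have h2 : Nat.card S ∣ p ^ (i + j) := by rw [pow_add, ← hi, ← hj, ← h1]; exact dvd_mul_right _ _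
  obtain ⟨k, -, hk⟩ := (Nat.dvd_prime_pow Fact.out).mp h2
  exact IsPGroup.of_card hk

/-- `p`-subgroups permuting with each other's conjugates commute when `O_p(G) = 1`. -/
theorem commute_of_permutable (p : ℕ) [Fact p.Prime] (n : ℕ) :
    ∀ (G : Type u) [Group G] [Finite G], Nat.card G ≤ n → pCore p G = ⊥ →
      ∀ A B : Subgroup G, IsPGroup p A → IsPGroup p B →
      (∀ x : G, ∃ S : Subgroup G,
        (S : Set G) = (A : Set G) * ((MulAut.conj x • B : Subgroup G) : Set G)) →
      ∀ a ∈ A, ∀ b ∈ B, a * b = b * a := by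
  induction n with
  | zero => intro G _ _ hn; exact absurd hn (by have := Nat.card_pos (α := G); omega)
  | succ n ih =>
    intro G _ _ hn hcore
    -- the case where the normal closure of the first subgroup is proper
    have main : ∀ A B : Subgroup G, IsPGroup p A → IsPGroup p B →
        (∀ x : G, ∃ S : Subgroup G,
          (S : Set G) = (A : Set G) * ((MulAut.conj x • B : Subgroup G) : Set G)) →
        (∃ N : Subgroup G, N.Normal ∧ N ≠ ⊤ ∧ A ≤ N) → ∀ a ∈ A, ∀ b ∈ B, a * b = b * a := by
      rintro A B hA hB hperm ⟨N, hNn, hNtop, hAN⟩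
      set K := normalClosure (A : Set G) with hK
      haveI : K.Normal := normalClosure_normal
      have hAK : A ≤ K := subset_normalClosure
      have hKtop : K ≠ ⊤ := fun e =>
        hNtop (top_le_iff.mp (e ▸ normalClosure_le_normal hAN))
      have hKcore : pCore p K = ⊥ := by rw [Cores.pCore_of_normal, hcore, bot_subgroupOf]
      have hKcard : Nat.card K ≤ n := by
        have : Nat.card K < Nat.card G :=
          lt_of_le_of_ne (Subgroup.card_le_card_group K) (by rwa [Ne, Subgroup.card_eq_iff_eq_top])
        omega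
      -- conjugates of `B` meet `K` in elements commuting with all conjugates of `A`
      have hcomm : ∀ g x : G, ∀ y ∈ (MulAut.conj x • B : Subgroup G) ⊓ K, ∀ a ∈ A,
          g * a * g⁻¹ * y = y * (g * a * g⁻¹) := by
        intro g x y hy a ha
        have hgA : (MulAut.conj g • A : Subgroup G) ≤ K := by
          rintro _ ⟨c, hc, rfl⟩
          exact (inferInstance : K.Normal).conj_mem c (hAK hc) g
        have h1 := ih K hKcard hKcore ((MulAut.conj g • A : Subgroup G).subgroupOf K)
          ((MulAut.conj x • B : Subgroup G).subgroupOf K)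
          (((hA.map _).to_inf_left : IsPGroup p
            ((MulAut.conj g • A : Subgroup G) ⊓ K : Subgroup G)).of_equiv
              ((subgroupOfEquivOfLe inf_le_right).symm.trans
                (MulEquiv.subgroupCongr (inf_subgroupOf_right _ _))))
          (((hB.map _).to_inf_left : IsPGroup p
            ((MulAut.conj x • B : Subgroup G) ⊓ K : Subgroup G)).of_equiv
              ((subgroupOfEquivOfLe inf_le_right).symm.trans
                (MulEquiv.subgroupCongr (inf_subgroupOf_right _ _))))
          (fun z => by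
            obtain ⟨S, hS⟩ := hperm (g⁻¹ * ((z : G) * x))
            refine ⟨(MulAut.conj g • S : Subgroup G).subgroupOf K, ?_⟩
            have hS' : ((MulAut.conj g • S : Subgroup G) : Set G) =
                ((MulAut.conj g • A : Subgroup G) : Set G) *
                  ((MulAut.conj ((z : G) * x) • B : Subgroup G) : Set G) := by
              rw [Subgroup.coe_pointwise_smul, hS, smul_mul', Subgroup.coe_pointwise_smul,
                Subgroup.coe_pointwise_smul, Subgroup.coe_pointwise_smul, smul_smul, ← map_mul,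
                mul_inv_cancel_left]
            have hmem : ∀ w : K, w ∈ MulAut.conj z • (MulAut.conj x • B : Subgroup G).subgroupOf K ↔
                (w : G) ∈ MulAut.conj ((z : G) * x) • B := fun w => by
              rw [Cfg.mem_conj_iff, mem_subgroupOf, Cfg.mem_conj_iff, Cfg.mem_conj_iff]
              simp [mul_assoc]
            ext w
            simp only [SetLike.mem_coe, mem_subgroupOf]
            rw [← SetLike.mem_coe, hS']
            constructor
            · rintro ⟨u, hu, v, hv, e⟩
              have hu' : u ∈ K := hgA hu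
              have hv' : v ∈ K := by
                have : v = u⁻¹ * (w : G) := by rw [← e]; group
                rw [this]; exact mul_mem (inv_mem hu') w.2
              exact ⟨⟨u, hu'⟩, hu, ⟨v, hv'⟩, (hmem ⟨v, hv'⟩).mpr hv, Subtype.ext e⟩
            · rintro ⟨u, hu, v, hv, rfl⟩
              exact ⟨u, hu, v, (hmem v).mp hv, rfl⟩)
        exact congrArg Subtype.val (h1 ⟨g * a * g⁻¹, hgA ⟨a, ha, rfl⟩⟩ ⟨a, ha, rfl⟩ ⟨y, hy.2⟩ hy.1)
      -- hence they meet `K` trivially
      have hinf : ∀ x : G, (MulAut.conj x • B : Subgroup G) ⊓ K = ⊥ := by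
        intro x
        refine eq_bot_of_normalized (K := K) hcore inf_le_right ((hB.map _).to_inf_left) ?_
        refine le_trans ?_ (centralizer_le_normalizer _)
        refine (Subgroup.closure_le _).mpr fun w hw => ?_
        rw [Group.mem_conjugatesOfSet_iff] at hw
        obtain ⟨a, ha, hc⟩ := hw
        obtain ⟨g, rfl⟩ := isConj_iff.mp hc
        exact mem_centralizer_iff.mpr fun y hy => (hcomm g x y hy a ha).symm
      -- so every conjugate of `B` normalizes `A`
      set L := normalClosure (B : Set G) with hL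
      have hLA : L ≤ normalizer (A : Set G) := by
        refine (Subgroup.closure_le _).mpr fun w hw => ?_
        rw [Group.mem_conjugatesOfSet_iff] at hw
        obtain ⟨b, hb, hc⟩ := hw
        obtain ⟨x, rfl⟩ := isConj_iff.mp hc
        obtain ⟨S, hS⟩ := hperm x
        have hB' : x * b * x⁻¹ ∈ MulAut.conj x • B := ⟨b, hb, rfl⟩
        have hkey : ∀ y ∈ MulAut.conj x • B, ∀ a ∈ A, y * a * y⁻¹ ∈ A := by
          intro y hy a ha
          have hyS : y ∈ S := by
            show y ∈ (S : Set G); rw [hS]; exact ⟨1, one_mem _, y, hy, one_mul y⟩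
          have haS : a ∈ S := by
            show a ∈ (S : Set G); rw [hS]; exact ⟨a, ha, 1, one_mem _, mul_one a⟩
          have h2 : y * a * y⁻¹ ∈ (S : Set G) := mul_mem (mul_mem hyS haS) (inv_mem hyS)
          rw [hS] at h2
          obtain ⟨a', ha', b', hb', e⟩ := h2
          have e' : a' * b' = y * a * y⁻¹ := e
          have hb'K : b' ∈ K := by
            have : b' = a'⁻¹ * (y * a * y⁻¹) := by rw [← e']; group
            rw [this]
            exact mul_mem (inv_mem (hAK ha')) ((inferInstance : K.Normal).conj_mem a (hAK ha) y)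
          have : b' = 1 := by
            have h3 : b' ∈ (MulAut.conj x • B : Subgroup G) ⊓ K := ⟨hb', hb'K⟩
            rwa [hinf x, mem_bot] at h3
          rw [← e', this, mul_one]; exact ha'
        refine Thompson.mem_normalizer_of_map_conj (Subgroup.eq_of_le_of_card_ge ?_
          (le_of_eq (Subgroup.card_map_of_injective (MulAut.conj _).injective).symm))
        rintro _ ⟨a, ha, rfl⟩
        exact hkey _ hB' a ha
      haveI : L.Normal := normalClosure_normal
      have hW : A ⊓ L = ⊥ := eq_bot_of_normalized hcore inf_le_right hA.to_inf_left (fun w hw => by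
        refine Thompson.mem_normalizer_of_map_conj ?_
        rw [Subgroup.map_inf _ _ _ (MulAut.conj w).injective,
          Thompson.map_conj_of_mem_normalizer (hLA hw),
          Thompson.map_conj_of_mem_normalizer (le_normalizer hw)])
      intro a ha b hb
      have hbL : b ∈ L := subset_normalClosure hb
      have h4 : a * b * a⁻¹ * b⁻¹ ∈ A ⊓ L := by
        constructor
        · have := (mem_normalizer_iff.mp (hLA hbL) _).mp (inv_mem ha)
          show a * b * a⁻¹ * b⁻¹ ∈ A
          simpa [mul_assoc] using mul_mem ha this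
        · show a * b * a⁻¹ * b⁻¹ ∈ L
          exact mul_mem ((inferInstance : L.Normal).conj_mem b hbL a) (inv_mem hbL)
      rw [hW, mem_bot] at h4
      calc a * b = a * b * a⁻¹ * b⁻¹ * (b * a) := by group
        _ = b * a := by rw [h4, one_mul]
    intro A B hA hB hperm
    rcases eq_or_ne A ⊥ with rfl | hAne
    · intro a ha b _; rw [mem_bot.mp ha, one_mul, mul_one]
    rcases eq_or_ne B ⊥ with rfl | hBne
    · intro a _ b hb; rw [mem_bot.mp hb, one_mul, mul_one]
    obtain ⟨N, hN, hNtop, hle⟩ := S0566.result A B hAne hBne fun x => by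
      obtain ⟨S, hS⟩ := hperm x
      refine ⟨S, fun e => hAne ?_, hS⟩
      have h1 := isPGroup_of_product hA (hB.map _) hS
      subst e
      have h2 : IsPGroup p G := h1.of_equiv Subgroup.topEquiv
      have h3 := Cores.pCore_eq_top_iff.mpr h2
      rw [hcore] at h3
      exact le_bot_iff.mp (h3 ▸ le_top)
    rcases hle with h1 | h1
    · exact main A B hA hB hperm ⟨N, hN, hNtop, h1⟩
    · intro a ha b hb
      exact (main B A hB hA (permutable_symm hperm) ⟨N, hN, hNtop, h1⟩ b hb a ha).symm

theorem kegelWielandt_aux (n : ℕ) : ∀ (G : Type u) [Group G] [Finite G], Nat.card G ≤ n →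
    ∀ A B : Subgroup G, Group.IsNilpotent A → Group.IsNilpotent B →
      (∀ g : G, ∃ a ∈ A, ∃ b ∈ B, g = a * b) → Group.IsSolvable G := by
  induction n with
  | zero => intro G _ _ hn; exact absurd hn (by have := Nat.card_pos (α := G); omega)
  | succ n ih =>
    intro G _ _ hn A B hA hB hAB
    by_cases hcop : (Nat.card A).Coprime (Nat.card B)
    · exact isSolvable hA hB hcop hAB
    obtain ⟨p, hp, hpA, hpB⟩ := Nat.Prime.not_coprime_iff_dvd.mp hcop
    haveI : Fact p.Prime := ⟨hp⟩
    have hquot : ∀ N : Subgroup G, N.Normal → N ≠ ⊥ →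
        ∀ [N.Normal], Group.IsSolvable (G ⧸ N) := by
      intro N _ hN1 _
      refine ih (G ⧸ N) ?_ (A.map (QuotientGroup.mk' N)) (B.map (QuotientGroup.mk' N))
        (Components.isNilpotent_map _ A hA) (Components.isNilpotent_map _ B hB) ?_
      · have h1 : 1 < Nat.card N := N.one_lt_card_iff_ne_bot.mpr hN1
        have h2 := N.card_eq_card_quotient_mul_card_subgroup
        have h3 : 0 < Nat.card (G ⧸ N) := Nat.card_pos
        have : Nat.card (G ⧸ N) < Nat.card G := by
          rw [h2]; exact lt_mul_of_one_lt_right h3 h1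
        omega
      · intro g
        obtain ⟨g, rfl⟩ := QuotientGroup.mk'_surjective N g
        obtain ⟨a, ha, b, hb, rfl⟩ := hAB g
        exact ⟨_, mem_map_of_mem _ ha, _, mem_map_of_mem _ hb, map_mul _ _ _⟩
    have hext : ∀ N : Subgroup G, N.Normal → N ≠ ⊥ → Group.IsSolvable N →
        Group.IsSolvable G := by
      intro N hN hN1 hNs
      haveI := hN
      haveI := hquot N hN hN1
      exact Group.isSolvable_of_ker_le_range N.subtype (QuotientGroup.mk' N)
        (by rw [QuotientGroup.ker_mk', range_subtype])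
    by_cases hcore : pCore p G = ⊥
    swap
    · haveI : Group.IsNilpotent (pCore p G) := Cores.pCore_isPGroup.isNilpotent
      exact hext _ inferInstance hcore inferInstance
    set Ap := part p A with hAp
    set Bp := part p B with hBp
    -- the Sylow `p`-subgroups of the factors permute
    have hP : ∃ P : Subgroup G, (P : Set G) = (Ap : Set G) * (Bp : Set G) := by
      obtain ⟨S, hS⟩ := (part_spec (p := p) hA).1.exists_le_sylow
      obtain ⟨T, hT⟩ := (part_spec (p := p) hB).1.exists_le_sylow
      obtain ⟨g, hg⟩ := MulAction.exists_smul_eq G T S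
      -- write `g = α β` and move `T` by `β`
      obtain ⟨α, hα, β, hβ, rfl⟩ := hAB g
      set P := β • T with hPdef
      have hBP : Bp ≤ (P : Subgroup G) := by
        have e : MulAut.conj β • Bp = Bp :=
          Thompson.map_conj_of_mem_normalizer (le_normalizer_part p B hβ)
        rw [← e, hPdef, Sylow.coe_subgroup_smul]
        exact Subgroup.pointwise_smul_le_pointwise_smul_iff.mpr hT
      have hAP : Ap ≤ (P : Subgroup G) := by
        have e : MulAut.conj α⁻¹ • Ap = Ap :=
          Thompson.map_conj_of_mem_normalizer (le_normalizer_part p A (inv_mem hα))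
        have e2 : P = α⁻¹ • S := by rw [← hg, hPdef, mul_smul, inv_smul_smul]
        rw [← e, e2, Sylow.coe_subgroup_smul]
        exact Subgroup.pointwise_smul_le_pointwise_smul_iff.mpr hS
      refine ⟨P, mul_eq_of_relIndex hAP hBP ?_⟩
      -- counting
      have h1 := relIndex_mul_card_inf (P : Subgroup G) Bp
      rw [inf_of_le_right hBP] at h1
      have h2 := relIndex_mul_card_inf Ap Bp
      have h3 : (Nat.card G).factorization p + (Nat.card (A ⊓ B : Subgroup G)).factorization p =
          (Nat.card A).factorization p + (Nat.card B).factorization p := by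
        have := congrArg (fun m => m.factorization p) (card_factorized hAB)
        simp only [Nat.factorization_mul Nat.card_pos.ne' Nat.card_pos.ne', Finsupp.add_apply] at this
        exact this
      obtain ⟨i, hi⟩ := IsPGroup.iff_card.mp
        ((part_spec (p := p) hA).1.to_le (inf_le_left : Ap ⊓ Bp ≤ Ap))
      have h4 : i ≤ (Nat.card (A ⊓ B : Subgroup G)).factorization p := by
        refine (hp.pow_dvd_iff_le_factorization Nat.card_pos.ne').mp ?_
        rw [← hi]
        exact Subgroup.card_dvd_of_le (inf_le_inf part_le part_le)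
      rw [P.card_eq_multiplicity, (part_spec hB).2] at h1
      rw [(part_spec hA).2, hi] at h2
      refine Nat.le_of_mul_le_mul_right (c := p ^ ((Nat.card B).factorization p)) ?_
        (pow_pos hp.pos _)
      rw [h1]
      refine Nat.le_of_mul_le_mul_right (c := p ^ i) ?_ (pow_pos hp.pos _)
      calc p ^ (Nat.card G).factorization p * p ^ i
          ≤ p ^ (Nat.card G).factorization p *
              p ^ (Nat.card (A ⊓ B : Subgroup G)).factorization p :=
            Nat.mul_le_mul_left _ (Nat.pow_le_pow_right hp.pos h4)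
        _ = p ^ (Nat.card A).factorization p * p ^ (Nat.card B).factorization p := by
            rw [← pow_add, h3, pow_add]
        _ = Bp.relIndex Ap * p ^ (Nat.card B).factorization p * p ^ i := by rw [← h2]; ring
    obtain ⟨P, hP⟩ := hP
    have hperm : ∀ x : G, ∃ S : Subgroup G,
        (S : Set G) = (Ap : Set G) * ((MulAut.conj x • Bp : Subgroup G) : Set G) := by
      intro x
      obtain ⟨α, hα, β, hβ, rfl⟩ := hAB x
      have e1 : MulAut.conj α • Ap = Ap :=
        Thompson.map_conj_of_mem_normalizer (le_normalizer_part p A hα)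
      have e2 : MulAut.conj β • Bp = Bp :=
        Thompson.map_conj_of_mem_normalizer (le_normalizer_part p B hβ)
      refine ⟨MulAut.conj α • P, ?_⟩
      rw [map_mul, mul_smul, e2]
      conv_rhs => rw [← e1]
      rw [Subgroup.coe_pointwise_smul, Subgroup.coe_pointwise_smul, Subgroup.coe_pointwise_smul, hP,
        smul_mul']
    set K := normalClosure (Ap : Set G) with hK
    haveI : K.Normal := normalClosure_normal
    set C := centralizer (K : Set G) with hC
    haveI : C.Normal := inferInstance
    have hK1 : K ≠ ⊥ := fun e =>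
      part_ne_bot hpA (le_bot_iff.mp (e ▸ subset_normalClosure : Ap ≤ ⊥))
    have hBC : Bp ≤ C := by
      intro b hb
      have h1 : K ≤ centralizer ({b} : Set G) := by
        refine (Subgroup.closure_le _).mpr fun w hw => ?_
        rw [Group.mem_conjugatesOfSet_iff] at hw
        obtain ⟨a, ha, hc⟩ := hw
        obtain ⟨g, rfl⟩ := isConj_iff.mp hc
        have h2 := commute_of_permutable p (Nat.card G) G le_rfl hcore Ap
          (MulAut.conj g⁻¹ • Bp) (part_spec hA).1 ((part_spec hB).1.map _)
          (fun x => by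
            obtain ⟨S, hS⟩ := hperm (x * g⁻¹)
            exact ⟨S, by rw [hS, map_mul, mul_smul]⟩)
          a ha (g⁻¹ * b * g) ⟨b, hb, by simp⟩
        rw [SetLike.mem_coe, mem_centralizer_singleton_iff]
        calc g * a * g⁻¹ * b = g * (a * (g⁻¹ * b * g)) * g⁻¹ := by group
          _ = g * (g⁻¹ * b * g * a) * g⁻¹ := by rw [h2]
          _ = b * (g * a * g⁻¹) := by group
      exact mem_centralizer_iff.mpr fun k hk => mem_centralizer_singleton_iff.mp (h1 hk)
    have hC1 : C ≠ ⊥ := fun e => part_ne_bot hpB (le_bot_iff.mp (e ▸ hBC))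
    by_cases hKC : K ⊓ C = ⊥
    · haveI := hquot K inferInstance hK1
      haveI := hquot C inferInstance hC1
      refine solvable_of_solvable_injective
        (f := (QuotientGroup.mk' K).prod (QuotientGroup.mk' C)) ?_
      rw [← MonoidHom.ker_eq_bot_iff, MonoidHom.ker_prod, QuotientGroup.ker_mk',
        QuotientGroup.ker_mk', hKC]
    · refine hext (K ⊓ C) inferInstance hKC (Group.isSolvable_of_comm fun x y => Subtype.ext ?_)
      exact mem_centralizer_iff.mp y.2.2 x x.2.1

theorem kegelWielandt {G : Type u} [Group G] [Finite G] {A B : Subgroup G}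
    (hA : Group.IsNilpotent A) (hB : Group.IsNilpotent B)
    (hAB : ∀ g : G, ∃ a ∈ A, ∃ b ∈ B, g = a * b) : Group.IsSolvable G :=
  kegelWielandt_aux (Nat.card G) G le_rfl A B hA hB hAB

theorem exists_ne_one {H : Type u} [Group H] {S : Subgroup H} (h : S ≠ ⊥) :
    ∃ z ∈ S, z ≠ 1 := by
  obtain ⟨⟨z, hz⟩, hz1⟩ := @exists_ne _ (S.nontrivial_iff_ne_bot.mpr h) (1 : S)
  exact ⟨z, hz, fun e => hz1 (Subtype.ext e)⟩

theorem exists_normal_of_nilpotent_product (n : ℕ) : ∀ (G : Type u) [Group G] [Finite G],
    Nat.card G ≤ n → ∀ A B : Subgroup G, Group.IsNilpotent A → Group.IsNilpotent B →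
      (∀ g : G, ∃ a ∈ A, ∃ b ∈ B, g = a * b) → (A ≠ ⊤ ∨ B ≠ ⊤) →
      ∃ N : Subgroup G, N.Normal ∧ N ≠ ⊤ ∧ (A ≤ N ∨ B ≤ N) := by
  induction n with
  | zero => intro G _ _ hn; exact absurd hn (by have := Nat.card_pos (α := G); omega)
  | succ n ih =>
    intro G _ _ hn A B hA hB hAB hproper
    haveI := kegelWielandt hA hB hAB
    have hnil : ∀ C : Subgroup G, Group.IsNilpotent (⊤ : Subgroup G) → C ≠ ⊤ →
        ∃ N : Subgroup G, N.Normal ∧ N ≠ ⊤ ∧ C ≤ N := by
      intro C hG hC
      haveI : Group.IsNilpotent G := Group.nilpotent_of_mulEquiv (_h := hG) Subgroup.topEquiv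
      obtain ⟨M, hM, hle⟩ := (eq_top_or_exists_le_coatom C).resolve_left hC
      have h := (Group.isNilpotent_of_finite_tfae (G := G)).out 0 2
      exact ⟨M, h.mp inferInstance M hM, hM.1, hle⟩
    rcases eq_or_ne A ⊤ with hAt | hAt
    · subst hAt
      obtain ⟨N, h1, h2, h3⟩ := hnil B hA (hproper.resolve_left (fun h => h rfl))
      exact ⟨N, h1, h2, Or.inr h3⟩
    rcases eq_or_ne B ⊤ with hBt | hBt
    · subst hBt
      obtain ⟨N, h1, h2, h3⟩ := hnil A hB hAt
      exact ⟨N, h1, h2, Or.inl h3⟩
    haveI : Nontrivial G := by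
      by_contra hc
      haveI := not_nontrivial_iff_subsingleton.mp hc
      exact hAt (Subsingleton.elim _ _)
    have step : ∀ N : Subgroup G, N.Normal → N ≠ ⊥ → (A ⊔ N ≠ ⊤ ∨ B ⊔ N ≠ ⊤) →
        ∃ N : Subgroup G, N.Normal ∧ N ≠ ⊤ ∧ (A ≤ N ∨ B ≤ N) := by
      intro N hN hN1 hor
      haveI := hN
      set f := QuotientGroup.mk' N with hf
      have hmap : ∀ C : Subgroup G, C ⊔ N ≠ ⊤ → C.map f ≠ ⊤ := fun C hC e => hC (by
        have := congrArg (Subgroup.comap f) e
        rwa [comap_map_eq, comap_top, QuotientGroup.ker_mk'] at this)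
      obtain ⟨M, hM, hMtop, hle⟩ := ih (G ⧸ N) (by
        have h1 : 1 < Nat.card N := N.one_lt_card_iff_ne_bot.mpr hN1
        have h2 := N.card_eq_card_quotient_mul_card_subgroup
        have h3 : 0 < Nat.card (G ⧸ N) := Nat.card_pos
        have : Nat.card (G ⧸ N) < Nat.card G := by
          rw [h2]; exact lt_mul_of_one_lt_right h3 h1
        omega) (A.map f) (B.map f) (Components.isNilpotent_map _ A hA)
        (Components.isNilpotent_map _ B hB) (fun g => by
          obtain ⟨g, rfl⟩ := QuotientGroup.mk'_surjective N g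
          obtain ⟨a, ha, b, hb, rfl⟩ := hAB g
          exact ⟨_, mem_map_of_mem _ ha, _, mem_map_of_mem _ hb, map_mul _ _ _⟩)
        (hor.imp (hmap A) (hmap B))
      refine ⟨M.comap f, hM.comap f, fun e => hMtop ?_,
        hle.imp map_le_iff_le_comap.mp map_le_iff_le_comap.mp⟩
      rw [← Subgroup.map_comap_eq_self_of_surjective (QuotientGroup.mk'_surjective N) M, e,
        Subgroup.map_top_of_surjective _ (QuotientGroup.mk'_surjective N)]
    obtain ⟨N, -, hN, hN1, hmin, hNc, q, hq, -, hNq, -⟩ :=
      exists_minNormal_elementary (G := G) (K := ⊤) inferInstance top_ne_bot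
    haveI : Fact q.Prime := ⟨hq⟩
    haveI := hN
    by_cases hor : A ⊔ N ≠ ⊤ ∨ B ⊔ N ≠ ⊤
    · exact step N hN hN1 hor
    push Not at hor
    obtain ⟨hAN, hBN⟩ := hor
    -- both factors are complements of `N`
    have hinf : ∀ C : Subgroup G, C ≠ ⊤ → C ⊔ N = ⊤ → C ⊓ N = ⊥ := by
      intro C hC hCN
      have h1 : (N ⊓ C).Normal := inf_normal_of_supplement hNc (by rw [sup_comm]; exact hCN)
      rcases hmin _ h1 inf_le_left with h2 | h2
      · rwa [inf_comm]
      · exact absurd (by rw [← hCN, sup_of_le_left (h2 ▸ inf_le_right)]) hC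
    have hcard : ∀ C : Subgroup G, C ≠ ⊤ → C ⊔ N = ⊤ → Nat.card C * Nat.card N = Nat.card G := by
      intro C hC hCN
      have h1 := card_factorized (H := C) (K := N) fun g => by
        have hg : g ∈ (↑(C ⊔ N) : Set G) := by rw [hCN]; trivial
        rw [Subgroup.mul_normal] at hg
        obtain ⟨c, hc, m, hm, e⟩ := hg
        exact ⟨c, hc, m, hm, e.symm⟩
      rwa [hinf C hC hCN, Subgroup.card_bot, mul_one, eq_comm] at h1
    have hqA : q ∣ Nat.card A := by
      have h1 := card_factorized hAB
      rw [← hcard B hBt hBN] at h1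
      have h2 : Nat.card N * Nat.card (A ⊓ B : Subgroup G) = Nat.card A := by
        refine Nat.eq_of_mul_eq_mul_left (Nat.card_pos (α := B)) ?_
        rw [← mul_assoc, h1, mul_comm]
      obtain ⟨k, hk⟩ := IsPGroup.iff_card.mp hNq
      have hk0 : k ≠ 0 := fun e => hN1 (Subgroup.card_eq_one.mp (by rw [hk, e, pow_zero]))
      exact (hk ▸ dvd_pow_self q hk0 : q ∣ Nat.card N).trans (h2 ▸ dvd_mul_right _ _)
    set Aq := part q A with hAq
    set Z := N ⊓ centralizer (Aq : Set G) with hZ
    have hZne : Z ≠ ⊥ := by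
      set P := Aq ⊔ N with hPdef
      have hP : IsPGroup q P :=
        (part_spec hA).1.to_sup_of_normal_right hNq
      have h1 : N.subgroupOf P ⊓ Subgroup.center P ≠ ⊥ := by
        refine PGroups.inf_center_ne_bot hP _ fun e => hN1 ?_
        rwa [subgroupOf_eq_bot, disjoint_iff, inf_of_le_left (le_sup_right : N ≤ P)] at e
      obtain ⟨z, hz, hz1⟩ := exists_ne_one h1
      intro e
      have : (z : G) ∈ Z := ⟨hz.1, mem_centralizer_iff.mpr fun a ha =>
        congrArg Subtype.val (mem_center_iff.mp hz.2 ⟨a, mem_sup_left ha⟩)⟩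
      rw [e, mem_bot] at this
      exact hz1 (Subtype.ext this)
    have hZn : Z.Normal := by
      rw [← normalizer_eq_top_iff, eq_top_iff, ← hAN]
      refine sup_le (fun a ha => ?_) (fun m hm => ?_)
      · refine Thompson.mem_normalizer_of_map_conj ?_
        rw [Subgroup.map_inf _ _ _ (MulAut.conj a).injective,
          Thompson.map_conj_of_mem_normalizer (by rw [normalizer_eq_top]; trivial)]
        refine congrArg (N ⊓ ·) (Subgroup.eq_of_le_of_card_ge ?_
          (le_of_eq (Subgroup.card_map_of_injective (MulAut.conj a).injective).symm))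
        rintro _ ⟨c, hc, rfl⟩
        refine mem_centralizer_iff.mpr fun y hy => ?_
        have hy' : a⁻¹ * y * a ∈ Aq := by
          simpa using (mem_normalizer_iff.mp (le_normalizer_part q A (inv_mem ha)) y).mp hy
        show y * (a * c * a⁻¹) = a * c * a⁻¹ * y
        calc y * (a * c * a⁻¹) = a * (a⁻¹ * y * a * c) * a⁻¹ := by group
          _ = a * (c * (a⁻¹ * y * a)) * a⁻¹ := by rw [mem_centralizer_iff.mp hc _ hy']
          _ = a * c * a⁻¹ * y := by group
      · exact centralizer_le_normalizer _ (mem_centralizer_iff.mpr fun c hc => hNc c hc.1 m hm)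
    have hNcen : N ≤ centralizer (Aq : Set G) := by
      rcases hmin Z hZn inf_le_left with h1 | h1
      · exact absurd h1 hZne
      · exact h1 ▸ inf_le_right
    haveI hAqn : Aq.Normal := by
      rw [← normalizer_eq_top_iff, eq_top_iff, ← hAN]
      exact sup_le (le_normalizer_part q A) (hNcen.trans (centralizer_le_normalizer _))
    exact step Aq hAqn (part_ne_bot hqA) (Or.inl (by rwa [sup_of_le_left (part_le : Aq ≤ A)]))

end Cfsg.Agent.H31.NilProd
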