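import Mathlib

/-!
Two quadratically acting generators over a finite field: reduction to `SL(2, q)`.
-/

set_option autoImplicit false

namespace Cfsg.Agent.H31.QuadPair

open Polynomial

universe u v w

variable {K : Type u} [Field K] [Fintype K] {p : ℕ} [Fact p.Prime] [CharP K p]
variable {X : Type w} [Group X]

/-- A scalar eigenvector of an endomorphism `c` with `(c ^ (p ^ e)) ^ (q - 1) = 1`. -/
theorem exists_eigenvector {W : Type v} [AddCommGroup W] [Module K W] [FiniteDimensional K W]
    [Nontrivial W] (c : Module.End K W) (e : ℕ)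
    (hc : (c ^ p ^ e) ^ Fintype.card K = c ^ p ^ e) :
    ∃ ν : K, ∃ v : W, v ≠ 0 ∧ c v = ν • v := by
  set d := c ^ p ^ e with hd
  haveI : CharP (Module.End K W) p :=
    charP_of_injective_algebraMap (R := K) (A := Module.End K W)
      (algebraMap K (Module.End K W)).injective p
  have hP : (X ^ Fintype.card K - X : K[X]) ≠ 0 :=
    FiniteField.X_pow_card_sub_X_ne_zero K Fintype.one_lt_card
  have hsplit : Splits (X ^ Fintype.card K - X : K[X]) := by
    rw [splits_iff_card_roots, FiniteField.roots_X_pow_card_sub_X,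
      FiniteField.X_pow_card_sub_X_natDegree_eq K Fintype.one_lt_card]
    rfl
  have hdvd : minpoly K d ∣ (X ^ Fintype.card K - X : K[X]) := by
    refine minpoly.dvd K d ?_
    simp [hc]
  have hdeg : (minpoly K d).degree ≠ 0 :=
    (minpoly.degree_pos (Algebra.IsIntegral.isIntegral d)).ne'
  obtain ⟨μ, hμ⟩ := (hsplit.of_dvd hP hdvd).exists_eval_eq_zero hdeg
  obtain ⟨w, hw, hw0⟩ := (Module.End.hasEigenvalue_of_isRoot hμ).exists_hasEigenvector
  have hwμ : d w = μ • w := Module.End.mem_eigenspace_iff.mp hw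
  have hbij : Function.Bijective fun x : K => x ^ p ^ e := by
    refine Finite.injective_iff_bijective.mp fun x y hxy => ?_
    have h : (x - y) ^ p ^ e = 0 := by rw [sub_pow_char_pow (p := p)]; exact sub_eq_zero.mpr hxy
    exact sub_eq_zero.mp (eq_zero_of_pow_eq_zero h)
  obtain ⟨ν, hν⟩ := hbij.2 μ
  set f := c - algebraMap K (Module.End K W) ν with hf
  have hker : ∃ x : W, x ≠ 0 ∧ f x = 0 := by
    by_contra hcon
    push Not at hcon
    have hinj : ∀ n : ℕ, ∀ x : W, (f ^ n) x = 0 → x = 0 := by
      intro n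
      induction n with
      | zero => intro x hx; simpa using hx
      | succ n ih =>
        intro x hx
        rw [pow_succ', Module.End.mul_apply] at hx
        exact ih x (by_contra fun hne => hcon _ hne hx)
    refine hw0 (hinj (p ^ e) w ?_)
    rw [hf, sub_pow_char_pow_of_commute _ _ (Algebra.commute_algebraMap_right ν c), ← map_pow,
      ← hd, LinearMap.sub_apply, hwμ, Module.algebraMap_end_apply]
    rw [show ν ^ p ^ e = μ from hν, sub_self]
  obtain ⟨x, hx, hfx⟩ := hker
  refine ⟨ν, x, hx, ?_⟩
  rwa [hf, LinearMap.sub_apply, Module.algebraMap_end_apply, sub_eq_zero] at hfx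

/-- A quadratic element: `(a - 1) ^ 2 = 0`. -/
def Quad {W : Type v} [AddCommGroup W] [Module K W] (a : W ≃ₗ[K] W) : Prop :=
  ∀ w : W, a (a w - w) = a w - w

theorem pow_apply_of_fix {W : Type v} [AddCommGroup W] [Module K W] (a : W ≃ₗ[K] W) (w : W)
    (h : a (a w - w) = a w - w) : ∀ n : ℕ, (a ^ n) w = w + n • (a w - w)
  | 0 => by simp
  | n + 1 => by
    rw [pow_succ', LinearEquiv.mul_apply, pow_apply_of_fix a w h n, map_add, map_nsmul, h, succ_nsmul]
    abel

omit [Fact p.Prime] in
theorem pow_char_apply {W : Type v} [AddCommGroup W] [Module K W] (a : W ≃ₗ[K] W) (w : W)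
    (h : a (a w - w) = a w - w) : (a ^ p) w = w := by
  rw [pow_apply_of_fix a w h, ← Nat.cast_smul_eq_nsmul K, CharP.cast_eq_zero, zero_smul, add_zero]

/-- The elements of `X` stabilising a submodule. -/
def stabU {W : Type v} [AddCommGroup W] [Module K W] (ρ : X →* (W ≃ₗ[K] W)) (U : Submodule K W) :
    Subgroup X where
  carrier := {x | U.map (ρ x : W →ₗ[K] W) = U}
  one_mem' := by
    show U.map (ρ 1 : W →ₗ[K] W) = U
    rw [map_one]; exact Submodule.map_id U
  mul_mem' := fun {x y} hx hy => by
    show U.map (ρ (x * y) : W →ₗ[K] W) = U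
    have e : (ρ (x * y) : W →ₗ[K] W) = (ρ x : W →ₗ[K] W) ∘ₗ (ρ y : W →ₗ[K] W) := by
      rw [map_mul]; rfl
    rw [e, Submodule.map_comp, hy, hx]
  inv_mem' := fun {x} hx => by
    show U.map (ρ x⁻¹ : W →ₗ[K] W) = U
    conv_lhs => rw [← (show U.map (ρ x : W →ₗ[K] W) = U from hx)]
    rw [← Submodule.map_comp]
    have e : (ρ x⁻¹ : W →ₗ[K] W) ∘ₗ (ρ x : W →ₗ[K] W) = LinearMap.id := by
      ext z
      show ρ x⁻¹ (ρ x z) = z
      rw [← LinearEquiv.mul_apply, ← map_mul, inv_mul_cancel, map_one]; rfl
    rw [e, Submodule.map_id]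

theorem mem_stabU_of_le {W : Type v} [AddCommGroup W] [Module K W] [FiniteDimensional K W]
    (ρ : X →* (W ≃ₗ[K] W)) (U : Submodule K W) (x : X) (h : ∀ u ∈ U, ρ x u ∈ U) :
    x ∈ stabU ρ U := by
  show U.map (ρ x : W →ₗ[K] W) = U
  refine Submodule.eq_of_le_of_finrank_eq ?_ (LinearEquiv.finrank_map_eq (ρ x) U)
  rintro _ ⟨u, hu, rfl⟩
  exact h u hu

theorem aux (a b : X) (hgen : Subgroup.closure {a, b} = ⊤) (e : ℕ) (n : ℕ) :
    ∀ (W : Type v) [AddCommGroup W] [Module K W] [FiniteDimensional K W],
      Module.finrank K W ≤ n → ∀ ρ : X →* (W ≃ₗ[K] W), Quad (ρ a) → Quad (ρ b) →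
        ρ ((a * b) ^ (p ^ e * Fintype.card K)) = ρ ((a * b) ^ p ^ e) →
        ¬ (∀ x : X, ∃ i : ℕ, ρ (x ^ p ^ i) = 1) →
        ∃ φ : X →* Matrix.SpecialLinearGroup (Fin 2) K, ¬ IsPGroup p φ.range := by
  induction n with
  | zero =>
    intro W _ _ _ hn ρ _ _ _ hnp
    haveI : Subsingleton W := (Module.finrank_zero_iff (R := K)).mp (Nat.le_zero.mp hn)
    exact absurd (fun x => ⟨0, LinearEquiv.ext fun w => Subsingleton.elim _ _⟩) hnp
  | succ n ih =>
    intro W _ _ _ hn ρ ha hb hc hnp
    by_cases hred : ∃ U : Submodule K W, U ≠ ⊥ ∧ U ≠ ⊤ ∧ a ∈ stabU ρ U ∧ b ∈ stabU ρ U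
    · obtain ⟨U, hU0, hU1, haU, hbU⟩ := hred
      have hall : ∀ x : X, U.map (ρ x : W →ₗ[K] W) = U := by
        intro x
        have hle : Subgroup.closure {a, b} ≤ stabU ρ U := by
          rw [Subgroup.closure_le, Set.pair_subset_iff]; exact ⟨haU, hbU⟩
        rw [hgen] at hle
        exact hle (Subgroup.mem_top x)
      let ρ₁ : X →* (U ≃ₗ[K] U) :=
        { toFun := fun x => (ρ x).ofSubmodules U U (hall x)
          map_one' := LinearEquiv.ext fun u => Subtype.ext (by
            show ρ 1 (u : W) = u
            rw [map_one]; rfl)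
          map_mul' := fun x y => LinearEquiv.ext fun u => Subtype.ext (by
            show ρ (x * y) (u : W) = ρ x (ρ y u)
            rw [map_mul]; rfl) }
      let ρ₂ : X →* ((W ⧸ U) ≃ₗ[K] (W ⧸ U)) :=
        { toFun := fun x => Submodule.Quotient.equiv U U (ρ x) (hall x)
          map_one' := LinearEquiv.ext fun q => by
            obtain ⟨w, rfl⟩ := Submodule.Quotient.mk_surjective U q
            show Submodule.Quotient.mk (ρ 1 w) = Submodule.Quotient.mk w
            rw [map_one]; rfl
          map_mul' := fun x y => LinearEquiv.ext fun q => by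
            obtain ⟨w, rfl⟩ := Submodule.Quotient.mk_surjective U q
            show Submodule.Quotient.mk (ρ (x * y) w) = Submodule.Quotient.mk (ρ x (ρ y w))
            rw [map_mul]; rfl }
      have h1 : Module.finrank K U ≤ n := by
        have := Submodule.finrank_lt hU1; omega
      have h2 : Module.finrank K (W ⧸ U) ≤ n := by
        have h3 := U.finrank_quotient_add_finrank
        have h4 : 0 < Module.finrank K U := by
          rw [Nat.pos_iff_ne_zero, Ne, Submodule.finrank_eq_zero]; exact hU0
        omega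
      by_cases hnp1 : ∀ x : X, ∃ i : ℕ, ρ₁ (x ^ p ^ i) = 1
      swap
      · refine ih U h1 ρ₁ (fun u => Subtype.ext ?_) (fun u => Subtype.ext ?_) ?_ hnp1
        · exact ha u
        · exact hb u
        · exact LinearEquiv.ext fun u => Subtype.ext (LinearEquiv.congr_fun hc u)
      by_cases hnp2 : ∀ x : X, ∃ i : ℕ, ρ₂ (x ^ p ^ i) = 1
      swap
      · refine ih (W ⧸ U) h2 ρ₂ (fun q => ?_) (fun q => ?_) ?_ hnp2
        · obtain ⟨w, rfl⟩ := Submodule.Quotient.mk_surjective U q
          exact congrArg Submodule.Quotient.mk (ha w)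
        · obtain ⟨w, rfl⟩ := Submodule.Quotient.mk_surjective U q
          exact congrArg Submodule.Quotient.mk (hb w)
        · refine LinearEquiv.ext fun q => ?_
          obtain ⟨w, rfl⟩ := Submodule.Quotient.mk_surjective U q
          exact congrArg Submodule.Quotient.mk (LinearEquiv.congr_fun hc w)
      refine absurd (fun x => ?_) hnp
      obtain ⟨i, hi⟩ := hnp1 x
      obtain ⟨j, hj⟩ := hnp2 x
      set y := x ^ p ^ (i + j) with hy
      have hy1 : ∀ u ∈ U, ρ y u = u := fun u hu => by
        have : ρ₁ y = 1 := by rw [hy, pow_add, pow_mul, map_pow, hi, one_pow]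
        exact congrArg Subtype.val (LinearEquiv.congr_fun this ⟨u, hu⟩)
      have hy2 : ∀ w, ρ y w - w ∈ U := fun w => by
        have : ρ₂ y = 1 := by rw [hy, pow_add, mul_comm, pow_mul, map_pow, hj, one_pow]
        exact (Submodule.Quotient.eq U).mp (LinearEquiv.congr_fun this (Submodule.Quotient.mk w))
      refine ⟨i + j + 1, LinearEquiv.ext fun w => ?_⟩
      rw [pow_succ, pow_mul, ← hy, map_pow]
      exact pow_char_apply (p := p) (ρ y) w (hy1 _ (hy2 w))
    push Not at hred
    haveI : Nontrivial W := by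
      by_contra hcon
      haveI := not_nontrivial_iff_subsingleton.mp hcon
      exact hnp fun x => ⟨0, LinearEquiv.ext fun w => Subsingleton.elim _ _⟩
    set c : Module.End K W := (ρ (a * b) : W →ₗ[K] W) with hcdef
    have hpow : ∀ m : ℕ, c ^ m = (ρ ((a * b) ^ m) : W →ₗ[K] W) := by
      intro m
      induction m with
      | zero => rw [pow_zero, pow_zero, map_one]; rfl
      | succ m ihm => rw [pow_succ, ihm, pow_succ, map_mul]; rfl
    obtain ⟨μ, v, hv, hcv⟩ := exists_eigenvector (p := p) c e (by
      rw [← pow_mul, hpow, hpow, hc])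
    have hμ : μ ≠ 0 := fun h => hv ((ρ (a * b)).map_eq_zero_iff.mp (by
      rw [h, zero_smul] at hcv; exact hcv))
    set u := ρ a v - v with hu
    set U : Submodule K W := Submodule.span K {v, u} with hU
    have hvU : v ∈ U := Submodule.subset_span (by simp)
    have huU : u ∈ U := Submodule.subset_span (by simp)
    have hbv : ρ b v = μ • (v - u) := by
      apply (ρ a).injective
      have h1 : ρ a (ρ b v) = μ • v := by
        rw [← LinearEquiv.mul_apply, ← map_mul]; exact hcv
      rw [h1, map_smul, map_sub, show ρ a u = u from ha v, hu, sub_sub_cancel]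
    have hspan : ∀ g : W ≃ₗ[K] W, g v ∈ U → g u ∈ U → ∀ z ∈ U, g z ∈ U := by
      intro g h1 h2 z hz
      obtain ⟨s, t, rfl⟩ := Submodule.mem_span_pair.mp hz
      rw [map_add, map_smul, map_smul]
      exact U.add_mem (U.smul_mem _ h1) (U.smul_mem _ h2)
    have hUtop : U = ⊤ := by
      refine by_contra fun hne => hred U ?_ hne (mem_stabU_of_le ρ U a (hspan _ ?_ ?_))
        (mem_stabU_of_le ρ U b (hspan _ ?_ ?_))
      · exact fun h => hv (by rwa [h, Submodule.mem_bot] at hvU)
      · have : ρ a v = v + u := by rw [hu]; abel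
        rw [this]; exact U.add_mem hvU huU
      · rw [show ρ a u = u from ha v]; exact huU
      · rw [hbv]; exact U.smul_mem _ (U.sub_mem hvU huU)
      · have h1 := hb v
        rw [hbv, map_sub, map_smul, map_sub] at h1
        have h2 : μ • ρ b u = μ • (μ • (v - u)) - μ • (v - u) - μ • (v - u) + v := by
          rw [← hbv]
          rw [hbv] at h1 ⊢
          linear_combination (norm := module) (-1 : ℤ) • h1
        have h3 : ρ b u = μ⁻¹ • (μ • (μ • (v - u)) - μ • (v - u) - μ • (v - u) + v) := by
          rw [← h2, smul_smul, inv_mul_cancel₀ hμ, one_smul]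
        rw [h3]
        exact U.smul_mem _ (U.add_mem (U.sub_mem (U.sub_mem (U.smul_mem _ (U.smul_mem _
          (U.sub_mem hvU huU))) (U.smul_mem _ (U.sub_mem hvU huU))) (U.smul_mem _
          (U.sub_mem hvU huU))) hvU)
    have htriv : (∀ z, ρ a z = z) → (∀ z, ρ b z = z) → False := fun h1 h2 => by
      refine hnp fun x => ⟨0, ?_⟩
      have hle : Subgroup.closure {a, b} ≤ ρ.ker := by
        rw [Subgroup.closure_le, Set.pair_subset_iff]
        exact ⟨LinearEquiv.ext h1, LinearEquiv.ext h2⟩
      rw [hgen] at hle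
      rw [pow_zero, pow_one]
      exact hle (Subgroup.mem_top x)
    have hfr : Module.finrank K W = 2 := by
      have hle : Module.finrank K W ≤ 2 := by
        rw [← finrank_top, ← hUtop, hU]
        classical
        have := finrank_span_le_card (R := K) ({v, u} : Set W)
        refine this.trans ?_
        rw [Set.toFinset_card]
        simp only [Fintype.card_ofFinset]
        exact (Finset.card_le_two (a := v) (b := u)).trans le_rfl
      by_contra hne
      have h1 : Module.finrank K W = 1 := by
        have := Module.finrank_pos (R := K) (M := W); omega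
      have key : ∀ g : W ≃ₗ[K] W, Quad g → ∀ z, g z = z := by
        intro g hg z
        obtain ⟨s, hs⟩ := exists_smul_eq_of_finrank_eq_one h1 hv (g v)
        have h2 := hg v
        rw [← hs, map_sub, map_smul, ← hs] at h2
        have h3 : ((s - 1) * (s - 1)) • v = 0 := by
          linear_combination (norm := module) h2
        have hs1 : s = 1 :=
          sub_eq_zero.mp (mul_self_eq_zero.mp ((smul_eq_zero.mp h3).resolve_right hv))
        obtain ⟨t, rfl⟩ := exists_smul_eq_of_finrank_eq_one h1 hv z
        rw [map_smul, ← hs, hs1, one_smul]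
      exact htriv (key _ ha) (key _ hb)
    let B := Module.finBasisOfFinrankEq K W hfr
    have hdet : ∀ x : X, LinearEquiv.det (ρ x) = 1 := by
      intro x
      have hle : Subgroup.closure {a, b} ≤ (LinearEquiv.det.comp ρ).ker := by
        have key : ∀ g : W ≃ₗ[K] W, Quad g → LinearEquiv.det g = 1 := by
          intro g hg
          have h1 : g ^ p = 1 := LinearEquiv.ext fun z => pow_char_apply g z (hg z)
          have h2 : ((LinearEquiv.det g : Kˣ) : K) ^ p = 1 := by
            rw [← Units.val_pow_eq_pow_val, ← map_pow, h1, map_one, Units.val_one]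
          have h3 : (((LinearEquiv.det g : Kˣ) : K) - 1) ^ p = 0 := by
            rw [sub_pow_char (p := p), h2, one_pow, sub_self]
          exact Units.ext (sub_eq_zero.mp (eq_zero_of_pow_eq_zero h3))
        rw [Subgroup.closure_le, Set.pair_subset_iff]
        exact ⟨key _ ha, key _ hb⟩
      rw [hgen] at hle
      exact hle (Subgroup.mem_top x)
    let φ : X →* Matrix.SpecialLinearGroup (Fin 2) K :=
      { toFun := fun x => ⟨LinearMap.toMatrix B B (ρ x : W →ₗ[K] W), by
          rw [LinearMap.det_toMatrix, ← LinearEquiv.coe_det, hdet, Units.val_one]⟩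
        map_one' := Subtype.ext (by
          show LinearMap.toMatrix B B (ρ 1 : W →ₗ[K] W) = 1
          rw [map_one]; exact LinearMap.toMatrix_id B)
        map_mul' := fun x y => Subtype.ext (by
          show LinearMap.toMatrix B B (ρ (x * y) : W →ₗ[K] W) = _
          rw [map_mul]
          exact LinearMap.toMatrix_comp B B B (ρ x : W →ₗ[K] W) (ρ y : W →ₗ[K] W)) }
    refine ⟨φ, fun hφ => hnp fun x => ?_⟩
    obtain ⟨i, hi⟩ := hφ ⟨φ x, x, rfl⟩
    refine ⟨i, LinearEquiv.toLinearMap_injective ((LinearMap.toMatrix B B).injective ?_)⟩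
    have h1 : φ (x ^ p ^ i) = 1 := by rw [map_pow]; exact congrArg Subtype.val hi
    have h2 := congrArg Subtype.val h1
    exact h2.trans (LinearMap.toMatrix_id B).symm

end Cfsg.Agent.H31.QuadPair
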