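import Cfsg.Agent.H31.FFPlane
import Cfsg.Agent.H30.Subnormal
import Cfsg.Agent.Cores.PCore
import Cfsg.Agent.S0597

/-!
Two subnormal subgroups acting irreducibly on incomparable commutator modules commute.
-/

set_option autoImplicit false

namespace Cfsg.Agent.H31.SubnPair

open Subgroup Cfsg.Agent.H31.FF
open scoped Pointwise commutatorElement

variable {G : Type*} [Group G] {p : ℕ} {V : Subgroup G}

/-- The hypotheses on one of the two subgroups. -/
structure Irr (V E F : Subgroup G) : Prop where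
  le : F ≤ E
  sub : (F.subgroupOf E).IsSubnormal
  irr : ∀ U : Subgroup G, U ≤ ⁅V, F⁆ → F ≤ normalizer (U : Set G) → U = ⊥ ∨ U = ⁅V, F⁆
  card : 2 < Nat.card F

variable [Finite G] [Fact p.Prime]

theorem normalizer_commutator {E F : Subgroup G} (hF : F ≤ E) (hs : Faith p V E) :
    F ≤ normalizer ((⁅V, F⁆ : Subgroup G) : Set G) := fun g hg => by
  refine Thompson.mem_normalizer_of_map_conj ?_
  rw [map_commutator, Thompson.map_conj_of_mem_normalizer (hs.hHV (hF hg)),
    Thompson.map_conj_of_mem_normalizer (le_normalizer hg)]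

theorem commutator_le_V {E F : Subgroup G} (hF : F ≤ E) (hs : Faith p V E) : ⁅V, F⁆ ≤ V :=
  le_normalizer_iff_commutator_le_left.mp (hF.trans hs.hHV)

theorem eq_bot_of_isPGroup {E P : Subgroup G} (hOp : Cfsg.pCore p ↥E = ⊥) (hPE : P ≤ E)
    (hP : IsPGroup p P) (hsub : (P.subgroupOf E).IsSubnormal) : P = ⊥ := by
  have h1 := Cores.le_pCore_of_isSubnormal hsub (hP.of_equiv (subgroupOfEquivOfLe hPE).symm)
  rwa [hOp, le_bot_iff, subgroupOf_eq_bot, disjoint_iff, inf_of_le_left hPE] at h1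

theorem mem_normalizer_inf_centralizer' {A B : Subgroup G} {g : G} (hA : g ∈ normalizer (A : Set G))
    (hB : g ∈ normalizer (B : Set G)) :
    g ∈ normalizer ((A ⊓ centralizer (B : Set G) : Subgroup G) : Set G) :=
  by
    refine Thompson.mem_normalizer_of_map_conj (Subgroup.eq_of_le_of_card_ge ?_
      (le_of_eq (Subgroup.card_map_of_injective (MulAut.conj g).injective).symm))
    rintro _ ⟨v, hv, rfl⟩
    refine ⟨(mem_normalizer_iff.mp hA v).mp hv.1, mem_centralizer_iff.mpr fun e he => ?_⟩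
    have he' : g⁻¹ * e * g ∈ B := by simpa using (mem_normalizer_iff.mp (inv_mem hB) e).mp he
    show e * (g * v * g⁻¹) = g * v * g⁻¹ * e
    calc e * (g * v * g⁻¹) = g * ((g⁻¹ * e * g) * v) * g⁻¹ := by group
      _ = g * (v * (g⁻¹ * e * g)) * g⁻¹ := by rw [mem_centralizer_iff.mp hv.2 _ he']
      _ = g * v * g⁻¹ * e := by group

theorem Irr.faithful {E F : Subgroup G} (hs : Faith p V E) (hOp : Cfsg.pCore p ↥E = ⊥)
    (hF : Irr V E F) : F ⊓ centralizer ((⁅V, F⁆ : Subgroup G) : Set G) = ⊥ := by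
  set W := ⁅V, F⁆ with hW
  set K := F ⊓ centralizer (W : Set G) with hK
  have hp : IsPGroup p K := fun x => by
    refine ⟨1, Subtype.ext ?_⟩
    have h1 : (x : G) ∈ modStab V W := mem_modStab_of_le (hs.hHV (hF.le x.2.1))
      (commutator_le_V hF.le hs) (commutator_mono le_rfl (zpowers_le.mpr x.2.1))
    rw [pow_one]
    exact hs.eq_one (pow_mem (hF.le x.2.1) p)
      (pow_mem_centralizer h1 x.2.2 fun w hw => hs.pow_eq (commutator_le_V hF.le hs hw))
  refine eq_bot_of_isPGroup hOp (inf_le_left.trans hF.le) hp ?_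
  have hFK : F ≤ normalizer (K : Set G) := fun g hg =>
    mem_normalizer_inf_centralizer' (le_normalizer hg) (normalizer_commutator hF.le hs hg)
  have hle : K.subgroupOf E ≤ F.subgroupOf E := comap_mono inf_le_left
  have hn : ((K.subgroupOf E).subgroupOf (F.subgroupOf E)).Normal := by
    rw [normal_subgroupOf_iff_le_normalizer hle]
    exact (comap_mono hFK).trans (le_normalizer_comap _)
  have h := hn.isSubnormal.trans' hF.sub
  rwa [subgroupOf_map_subtype, inf_of_le_left hle] at h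

theorem Irr.inf_centralizer {E F : Subgroup G} (hs : Faith p V E) (hOp : Cfsg.pCore p ↥E = ⊥)
    (hF : Irr V E F) : ⁅V, F⁆ ⊓ centralizer (F : Set G) = ⊥ := by
  refine (hF.irr _ inf_le_left fun g hg => ?_).resolve_right fun e => ?_
  · exact mem_normalizer_inf_centralizer' (normalizer_commutator hF.le hs hg)
      (le_normalizer hg)
  · have h1 : F ≤ centralizer ((⁅V, F⁆ : Subgroup G) : Set G) :=
      le_centralizer_iff.mp (e.ge.trans inf_le_right)
    have h2 := hF.faithful hs hOp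
    rw [inf_of_le_left h1] at h2
    have := hF.card
    rw [h2, Subgroup.card_bot] at this
    omega

theorem inf_eq_bot_of_normalizes {E A B : Subgroup G} (hs : Faith p V E) (hA : Irr V E A)
    (hn : A ≤ normalizer ((⁅V, B⁆ : Subgroup G) : Set G)) (h : ¬ ⁅V, A⁆ ≤ ⁅V, B⁆) :
    ⁅V, A⁆ ⊓ ⁅V, B⁆ = ⊥ := by
  refine (hA.irr _ inf_le_left fun g hg => ?_).resolve_right fun e => h (e ▸ inf_le_right)
  refine Thompson.mem_normalizer_of_map_conj ?_
  rw [Subgroup.map_inf _ _ _ (MulAut.conj g).injective,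
    Thompson.map_conj_of_mem_normalizer (normalizer_commutator hA.le hs hg),
    Thompson.map_conj_of_mem_normalizer (hn hg)]

/-- Consequences of commuting. -/
theorem of_commute {E A B : Subgroup G} (hs : Faith p V E) (hA : Irr V E A) (hB : B ≤ E)
    (h : ⁅A, B⁆ = ⊥) (hne : ¬ ⁅V, A⁆ ≤ ⁅V, B⁆) :
    ⁅V, A⁆ ⊓ ⁅V, B⁆ = ⊥ ∧ ⁅⁅V, A⁆, B⁆ = ⊥ := by
  have hnA : A ≤ normalizer ((⁅V, B⁆ : Subgroup G) : Set G) := fun g hg => by
    refine Thompson.mem_normalizer_of_map_conj ?_
    rw [map_commutator, Thompson.map_conj_of_mem_normalizer (hs.hHV (hA.le hg)),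
      Thompson.map_conj_of_mem_normalizer
        (centralizer_le_normalizer _ (commutator_eq_bot_iff_le_centralizer.mp h hg))]
  have h1 := inf_eq_bot_of_normalizes hs hA hnA hne
  refine ⟨h1, le_bot_iff.mp (h1 ▸ le_inf ?_ (commutator_mono (commutator_le_V hA.le hs) le_rfl))⟩
  refine le_normalizer_iff_commutator_le_left.mp fun g hg => ?_
  refine Thompson.mem_normalizer_of_map_conj ?_
  rw [map_commutator, Thompson.map_conj_of_mem_normalizer (hs.hHV (hB hg)),
    Thompson.map_conj_of_mem_normalizer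
      (centralizer_le_normalizer _ (commutator_eq_bot_iff_le_centralizer.mp
        (by rwa [commutator_comm] at h) hg))]

theorem map_conj_commutator {E : Subgroup G} (hs : Faith p V E) (F : Subgroup G) {e : G}
    (he : e ∈ E) :
    (⁅V, F⁆).map (MulAut.conj e).toMonoidHom = ⁅V, F.map (MulAut.conj e).toMonoidHom⁆ := by
  rw [map_commutator, Thompson.map_conj_of_mem_normalizer (hs.hHV he)]

theorem main (n : ℕ) : ∀ E : Subgroup G, Nat.card E ≤ n → Faith p V E → Cfsg.pCore p ↥E = ⊥ →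
    ∀ A B : Subgroup G, Irr V E A → Irr V E B → E = A ⊔ B → ¬ ⁅V, A⁆ ≤ ⁅V, B⁆ →
      ¬ ⁅V, B⁆ ≤ ⁅V, A⁆ → ⁅A, B⁆ = ⊥ := by
  induction n with
  | zero => intro E hn; exact absurd hn (by have := Nat.card_pos (α := E); omega)
  | succ n ih =>
    intro E hn hs hOp
    -- if `B` normalizes `[V,A]` we are done
    have done : ∀ A B : Subgroup G, Irr V E A → Irr V E B → ¬ ⁅V, B⁆ ≤ ⁅V, A⁆ →
        B ≤ normalizer ((⁅V, A⁆ : Subgroup G) : Set G) → ⁅A, B⁆ = ⊥ := by
      intro A B hA hB hne hn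
      have hWA := commutator_le_V hA.le hs
      have hY : ⁅⁅V, A⁆, B⁆ = ⊥ := by
        refine (hB.irr _ (commutator_mono hWA le_rfl) fun g hg => ?_).resolve_right fun e => hne ?_
        · refine Thompson.mem_normalizer_of_map_conj ?_
          rw [map_commutator, Thompson.map_conj_of_mem_normalizer (hn hg),
            Thompson.map_conj_of_mem_normalizer (le_normalizer hg)]
        · rw [← e]; exact le_normalizer_iff_commutator_le_left.mp hn
      have h1 := S0597.result V E hs.hV hs.hHV hs.hf A B hA.le hB.le hA.sub hB.sub hY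
      rw [hOp, Subgroup.map_bot] at h1
      exact le_bot_iff.mp h1
    -- conjugates with different modules commute
    have hconj : ∀ A : Subgroup G, Irr V E A → A ≠ E → ∀ e ∈ E,
        (⁅V, A⁆).map (MulAut.conj e).toMonoidHom ≠ ⁅V, A⁆ →
        (⁅V, A⁆ ⊓ (⁅V, A⁆).map (MulAut.conj e).toMonoidHom = ⊥ ∧
        A ≤ centralizer (((⁅V, A⁆).map (MulAut.conj e).toMonoidHom : Subgroup G) : Set G)) := by
      intro A hA hAE e he hne
      obtain ⟨N, hN, hAN, hNt⟩ := hA.sub.exists_normal_and_le_and_lt_top_of_ne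
        (fun h => hAE (le_antisymm hA.le (subgroupOf_eq_top.mp h)))
      set A' := A.map (MulAut.conj e).toMonoidHom with hA'
      have hA'E : A' ≤ E := by
        rintro _ ⟨x, hx, rfl⟩
        exact mul_mem (mul_mem he (hA.le hx)) (inv_mem he)
      have hA'sub : (A'.subgroupOf E).IsSubnormal := by
        have h := hA.sub.smul (MulAut.conj (⟨e, he⟩ : E))
        have heq : MulAut.conj (⟨e, he⟩ : E) • A.subgroupOf E = A'.subgroupOf E := by
          ext y
          constructor
          · rintro ⟨x, hx, rfl⟩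
            exact ⟨x, hx, rfl⟩
          · rintro ⟨x, hx, hy⟩
            exact ⟨⟨x, hA.le hx⟩, hx, Subtype.ext hy⟩
        rwa [heq] at h
      set E' := A ⊔ A' with hE'
      have hE'E : E' ≤ E := sup_le hA.le hA'E
      have hE'N : E' ≤ N.map E.subtype := by
        refine sup_le (fun x hx => ⟨⟨x, hA.le hx⟩, hAN hx, rfl⟩) ?_
        rintro _ ⟨x, hx, rfl⟩
        exact ⟨_, hN.conj_mem ⟨x, hA.le hx⟩ (hAN hx) ⟨e, he⟩, rfl⟩
      have hcard : Nat.card E' ≤ n := by
        have h1 : Nat.card E' ≤ Nat.card (N.map E.subtype) := Subgroup.card_le_of_le hE'N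
        rw [Subgroup.card_map_of_injective E.subtype_injective] at h1
        have h2 : Nat.card N < Nat.card E :=
          lt_of_le_of_ne (Subgroup.card_le_card_group N) (by
            rw [Ne, Subgroup.card_eq_iff_eq_top]; exact hNt.ne)
        omega
      have hs' : Faith p V E' :=
        ⟨hs.hV, hE'E.trans hs.hHV, le_bot_iff.mp (hs.hf ▸ inf_le_inf_right _ hE'E)⟩
      have hE'sub : (E'.subgroupOf E).IsSubnormal := by
        rw [hE', Subgroup.subgroupOf_sup hA.le hA'E]
        exact H30.isSubnormal_sup hA.sub hA'sub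
      have hOp' : Cfsg.pCore p ↥E' = ⊥ := by
        have h1 : (Cfsg.pCore p ↥E').map E'.subtype = ⊥ := by
          refine eq_bot_of_isPGroup hOp ((map_subtype_le _).trans hE'E)
            (Cores.pCore_isPGroup.map _) ?_
          have hle : ((Cfsg.pCore p ↥E').map E'.subtype).subgroupOf E ≤ E'.subgroupOf E :=
            comap_mono (map_subtype_le _)
          have hn : ((((Cfsg.pCore p ↥E').map E'.subtype).subgroupOf E).subgroupOf
              (E'.subgroupOf E)).Normal := by
            rw [normal_subgroupOf_iff_le_normalizer hle]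
            refine (comap_mono ?_).trans (le_normalizer_comap _)
            have h2 := Subgroup.le_normalizer_map (H := Cfsg.pCore p ↥E') E'.subtype
            rwa [normalizer_eq_top, ← MonoidHom.range_eq_map, range_subtype] at h2
          have h := hn.isSubnormal.trans' hE'sub
          rwa [subgroupOf_map_subtype, inf_of_le_left hle] at h
        exact (Subgroup.map_eq_bot_iff_of_injective _ E'.subtype_injective).mp h1
      have hres : ∀ {X : Subgroup G}, X ≤ E' → (X.subgroupOf E).IsSubnormal →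
          (X.subgroupOf E').IsSubnormal := by
        intro X hX hXs
        have h := hXs.comap (Subgroup.inclusion hE'E)
        rwa [show (X.subgroupOf E).comap (Subgroup.inclusion hE'E) = X.subgroupOf E' from
          Subgroup.ext fun y => Iff.rfl] at h
      have hA1 : Irr V E' A := ⟨le_sup_left, hres le_sup_left hA.sub, hA.irr, hA.card⟩
      have hW' : ⁅V, A'⁆ = (⁅V, A⁆).map (MulAut.conj e).toMonoidHom :=
        (map_conj_commutator hs A he).symm
      have hA2 : Irr V E' A' := by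
        refine ⟨le_sup_right, hres le_sup_right hA'sub, fun U hU hn => ?_, by
          rw [hA', Subgroup.card_map_of_injective (MulAut.conj e).injective]; exact hA.card⟩
        rw [hW'] at hU ⊢
        have hU' : U = (U.comap (MulAut.conj e).toMonoidHom).map (MulAut.conj e).toMonoidHom :=
          (Subgroup.map_comap_eq_self_of_surjective (MulAut.conj e).surjective U).symm
        rcases hA.irr (U.comap (MulAut.conj e).toMonoidHom) (fun x hx => by
            obtain ⟨y, hy, h⟩ := hU hx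
            rwa [← (MulAut.conj e).injective h]) (fun x hx => by
            refine Subgroup.mem_normalizer_iff.mpr fun z => ?_
            have h := Subgroup.mem_normalizer_iff.mp (hn ⟨x, hx, rfl⟩)
              ((MulAut.conj e).toMonoidHom z)
            rw [← map_inv, ← map_mul, ← map_mul] at h
            exact h) with h | h
        · exact Or.inl (by rw [hU', h, Subgroup.map_bot])
        · exact Or.inr (by rw [hU', h])
      have hsz : Nat.card ↥(⁅V, A'⁆) = Nat.card ↥(⁅V, A⁆) := by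
        rw [hW', Subgroup.card_map_of_injective (MulAut.conj e).injective]
      have hn1 : ¬ ⁅V, A⁆ ≤ ⁅V, A'⁆ := fun h =>
        hne (by rw [← hW']; exact (Subgroup.eq_of_le_of_card_ge h hsz.le).symm)
      have hn2 : ¬ ⁅V, A'⁆ ≤ ⁅V, A⁆ := fun h =>
        hne (by rw [← hW']; exact Subgroup.eq_of_le_of_card_ge h hsz.ge)
      have hc := ih E' hcard hs' hOp' A A' hA1 hA2 rfl hn1 hn2
      rw [← hW']
      refine ⟨(of_commute hs' hA1 le_sup_right hc hn1).1, ?_⟩
      have h3 := (of_commute hs' hA2 le_sup_left (by rwa [commutator_comm]) hn2).2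
      exact le_centralizer_iff.mp (commutator_eq_bot_iff_le_centralizer.mp h3)
    intro A B hA hB hgen h12 h21
    have hWA := commutator_le_V hA.le hs
    have hWB := commutator_le_V hB.le hs
    by_cases hcase : B ≤ normalizer ((⁅V, A⁆ : Subgroup G) : Set G)
    · exact done A B hA hB h21 hcase
    by_cases hcase' : A ≤ normalizer ((⁅V, B⁆ : Subgroup G) : Set G)
    · rw [commutator_comm]; exact done B A hB hA h12 hcase'
    exfalso
    have hAE : A ≠ E := fun h => h21 (h ▸ commutator_mono le_rfl hB.le)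
    have hBE : B ≠ E := fun h => h12 (h ▸ commutator_mono le_rfl hA.le)
    obtain ⟨e, heB, he⟩ := SetLike.not_le_iff_exists.mp hcase
    have heE := hB.le heB
    have hne : (⁅V, A⁆).map (MulAut.conj e).toMonoidHom ≠ ⁅V, A⁆ := fun h =>
      he (Thompson.mem_normalizer_of_map_conj h)
    obtain ⟨hinf, hfix⟩ := hconj A hA hAE e heE hne
    have hinv : ∀ g ∈ A, g ∉ normalizer ((⁅V, B⁆ : Subgroup G) : Set G) →
        ∀ w ∈ ⁅V, A⁆, g * w * g⁻¹ = w⁻¹ := by
      intro g hg hgn w hw
      obtain ⟨-, hfixB⟩ := hconj B hB hBE g (hA.le hg)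
        fun h => hgn (Thompson.mem_normalizer_of_map_conj h)
      have hu : e * w * e⁻¹ ∈ (⁅V, A⁆).map (MulAut.conj e).toMonoidHom := ⟨w, hw, rfl⟩
      have hgu : g * (e * w * e⁻¹) * g⁻¹ = e * w * e⁻¹ := by
        rw [← mem_centralizer_iff.mp (hfix hg) _ hu, mul_inv_cancel_right]
      have hw' : g * w * g⁻¹ ∈ ⁅V, A⁆ :=
        (mem_normalizer_iff.mp (normalizer_commutator hA.le hs hg) w).mp hw
      have hd : del e w ∈ ⁅V, B⁆ := by
        have h1 := inv_mem (commutator_mem_commutator (hWA hw) heB : ⁅w, e⁆ ∈ ⁅V, B⁆)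
        have e1 : (⁅w, e⁆)⁻¹ = del e w := by simp only [del, commutatorElement_def]; group
        rwa [e1] at h1
      have hgd : g * del e w * g⁻¹ = e * w * e⁻¹ * (g * w * g⁻¹)⁻¹ := by
        calc g * del e w * g⁻¹ = g * (e * w * e⁻¹) * g⁻¹ * (g * w * g⁻¹)⁻¹ := by
              simp only [del]; group
          _ = _ := by rw [hgu]
      have hefix : e * (g * del e w * g⁻¹) * e⁻¹ = g * del e w * g⁻¹ := by
        have hm : g * del e w * g⁻¹ ∈ (⁅V, B⁆).map (MulAut.conj g).toMonoidHom := ⟨_, hd, rfl⟩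
        rw [← mem_centralizer_iff.mp (hfixB heB) _ hm, mul_inv_cancel_right]
      rw [hgd] at hefix
      set w₁ := g * w * g⁻¹ with hw₁
      have hVw : w ∈ V := hWA hw
      have hVw1 : w₁ ∈ V := hWA hw'
      have hVew : e * w * e⁻¹ ∈ V := (mem_normalizer_iff.mp (hs.hHV heE) w).mp hVw
      have hprod : e * e * w * (e * e)⁻¹ * w₁ = e * (w * w₁) * e⁻¹ := by
        calc e * e * w * (e * e)⁻¹ * w₁
            = (e * (e * w * e⁻¹ * w₁⁻¹) * e⁻¹) * (e * w₁ * e⁻¹) * w₁ := by group
          _ = (e * w * e⁻¹ * w₁⁻¹) * (e * w₁ * e⁻¹) * w₁ := by rw [hefix]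
          _ = e * w * e⁻¹ * (w₁⁻¹ * ((e * w₁ * e⁻¹) * w₁)) := by group
          _ = e * w * e⁻¹ * (w₁⁻¹ * (w₁ * (e * w₁ * e⁻¹))) := by
              rw [hs.comm ((mem_normalizer_iff.mp (hs.hHV heE) w₁).mp hVw1) hVw1]
          _ = e * (w * w₁) * e⁻¹ := by group
      have hR : e * (w * w₁) * e⁻¹ ∈ (⁅V, A⁆).map (MulAut.conj e).toMonoidHom :=
        ⟨_, mul_mem hw hw', rfl⟩
      by_cases hsq : (⁅V, A⁆).map (MulAut.conj (e * e)).toMonoidHom = ⁅V, A⁆
      · have hL : e * (w * w₁) * e⁻¹ ∈ ⁅V, A⁆ := by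
          rw [← hprod]
          exact mul_mem (hsq ▸ ⟨w, hw, rfl⟩ : e * e * w * (e * e)⁻¹ ∈ ⁅V, A⁆) hw'
        have h5 : e * (w * w₁) * e⁻¹ ∈ ⁅V, A⁆ ⊓ (⁅V, A⁆).map (MulAut.conj e).toMonoidHom := ⟨hL, hR⟩
        rw [hinf, Subgroup.mem_bot, conj_eq_one_iff] at h5
        exact eq_inv_of_mul_eq_one_right h5
      · obtain ⟨-, hfix2⟩ := hconj A hA hAE (e * e) (mul_mem heE heE) hsq
        set z := e * e * w * (e * e)⁻¹ with hz
        have hzc : z ∈ centralizer (A : Set G) := le_centralizer_iff.mp hfix2 ⟨w, hw, rfl⟩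
        have hw1eq : w₁ = z⁻¹ * (e * (w * w₁) * e⁻¹) := by rw [← hprod]; group
        have hw1c : w₁ ∈ centralizer (A : Set G) := by
          rw [hw1eq]; exact mul_mem (inv_mem hzc) (le_centralizer_iff.mp hfix hR)
        have hw11 : w₁ = 1 := by
          have h6 : w₁ ∈ ⁅V, A⁆ ⊓ centralizer (A : Set G) := ⟨hw', hw1c⟩
          rwa [hA.inf_centralizer hs hOp, Subgroup.mem_bot] at h6
        have hw0 : w = 1 := conj_eq_one_iff.mp hw11
        show w₁ = w⁻¹
        rw [hw11, hw0, inv_one]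
    obtain ⟨g, hgA, hg⟩ := SetLike.not_le_iff_exists.mp hcase'
    have huniq : ∀ g' ∈ A, g' ∉ normalizer ((⁅V, B⁆ : Subgroup G) : Set G) → g' = g := by
      intro g' hg'A hg'
      refine inv_mul_eq_one.mp ?_
      have h1 : g'⁻¹ * g ∈ A ⊓ centralizer ((⁅V, A⁆ : Subgroup G) : Set G) := by
        refine ⟨(mul_mem (inv_mem hg'A) hgA : g'⁻¹ * g ∈ A), mem_centralizer_iff.mpr fun w hw => ?_⟩
        have e1 := hinv g hgA hg w hw
        have e2 := hinv g' hg'A hg' w hw
        calc w * (g'⁻¹ * g) = g'⁻¹ * (g' * w * g'⁻¹) * g := by group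
          _ = g'⁻¹ * (g * w * g⁻¹) * g := by rw [e1, e2]
          _ = g'⁻¹ * g * w := by group
      rwa [hA.faithful hs hOp, Subgroup.mem_bot] at h1
    have hall : ∀ x ∈ A, x = 1 ∨ x = g := by
      intro x hx
      by_cases hxn : x ∈ normalizer ((⁅V, B⁆ : Subgroup G) : Set G)
      · refine Or.inl (mul_eq_left.mp (huniq (g * x) (mul_mem hgA hx) fun h => hg ?_))
        simpa using mul_mem h (inv_mem hxn)
      · exact Or.inr (huniq x hx hxn)
    classical
    have h2 : Nat.card A ≤ 2 := by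
      have hsub : (A : Set G) ⊆ ↑({1, g} : Finset G) := fun x hx => by
        simpa using hall x hx
      calc Nat.card A = (A : Set G).ncard := rfl
        _ ≤ (↑({1, g} : Finset G) : Set G).ncard := Set.ncard_le_ncard hsub (Finset.finite_toSet _)
        _ ≤ 2 := by rw [Set.ncard_coe_finset]; exact Finset.card_le_two
    have := hA.card
    omega

theorem conclusion (E A B : Subgroup G) (hs : Faith p V E) (hOp : Cfsg.pCore p ↥E = ⊥)
    (hA : Irr V E A) (hB : Irr V E B) (hgen : E = A ⊔ B) (h12 : ¬ ⁅V, A⁆ ≤ ⁅V, B⁆)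
    (h21 : ¬ ⁅V, B⁆ ≤ ⁅V, A⁆) :
    ⁅A, B⁆ = ⊥ ∧ A ⊓ B = ⊥ ∧ ⁅V, A⁆ ⊓ ⁅V, B⁆ = ⊥ ∧ ⁅V, E⁆ = ⁅V, A⁆ ⊔ ⁅V, B⁆ := by
  have hc := main (Nat.card E) E le_rfl hs hOp A B hA hB hgen h12 h21
  obtain ⟨h1, h2⟩ := of_commute hs hA hB.le hc h12
  refine ⟨hc, le_bot_iff.mp ?_, h1, ?_⟩
  · rw [← hA.faithful hs hOp]
    exact inf_le_inf_left _ (le_centralizer_iff.mp (commutator_eq_bot_iff_le_centralizer.mp h2))
  · refine le_antisymm (commutator_le.mpr fun v hv g hg => ?_) (sup_le
      (commutator_mono le_rfl hA.le) (commutator_mono le_rfl hB.le))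
    have hle : E ≤ modStab V (⁅V, A⁆ ⊔ ⁅V, B⁆) := by
      have hW : ⁅V, A⁆ ⊔ ⁅V, B⁆ ≤ V :=
        sup_le (commutator_le_V hA.le hs) (commutator_le_V hB.le hs)
      have key : ∀ {C : Subgroup G}, C ≤ E → ⁅V, C⁆ ≤ ⁅V, A⁆ ⊔ ⁅V, B⁆ →
          C ≤ modStab V (⁅V, A⁆ ⊔ ⁅V, B⁆) := fun hC hle x hx =>
        mem_modStab_of_le (hs.hHV (hC hx)) hW ((commutator_mono le_rfl (zpowers_le.mpr hx)).trans hle)
      exact hgen.le.trans (sup_le (key hA.le le_sup_left) (key hB.le le_sup_right))
    have h3 := inv_mem ((mem_modStab.mp (hle hg)).2.2 v hv)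
    have e1 : (del g v)⁻¹ = ⁅v, g⁆ := by simp only [del, commutatorElement_def]; group
    rwa [e1] at h3

end Cfsg.Agent.H31.SubnPair
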