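import Cfsg.Agent.H31.Product
import Cfsg.Agent.H31.Basic
import Cfsg.Agent.Hall.WielandtFull
import Cfsg.Agent.Cores.Fitting
import Cfsg.Agent.Coprime.Action
import Cfsg.Agent.Coprime.Centralize
import Cfsg.Agent.Thompson.BaerSuzuki
import Cfsg.Agent.Thompson.NormalPComplement
import Cfsg.Agent.Fusion.PComplement
import Cfsg.Agent.S0143
import Cfsg.Agent.S0561
import Cfsg.Agent.S0562
import Cfsg.Agent.S0566

/-!
Wielandt's theorem: a finite group factorized by two nilpotent subgroups of coprime orders is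
solvable.
-/

set_option autoImplicit false

namespace Cfsg.Agent.H31.NilProd

open Subgroup
open scoped Pointwise

universe u

variable {G : Type u} [Group G]

/-- The subgroup generated by the elements of `A` of `p`-power order. -/
def part (p : ℕ) (A : Subgroup G) : Subgroup G :=
  closure {x | x ∈ A ∧ ∃ k, orderOf x = p ^ k}

theorem part_le {p : ℕ} {A : Subgroup G} : part p A ≤ A :=
  (closure_le A).mpr fun _ h => h.1

theorem mem_part {p k : ℕ} {A : Subgroup G} {x : G} (hx : x ∈ A) (hk : orderOf x = p ^ k) :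
    x ∈ part p A :=
  subset_closure ⟨hx, k, hk⟩

theorem part_mono {p : ℕ} {A B : Subgroup G} (h : A ≤ B) : part p A ≤ part p B :=
  closure_mono fun _ hx => ⟨h hx.1, hx.2⟩

theorem part_map_equiv {H : Type*} [Group H] (e : G ≃* H) (p : ℕ) (A : Subgroup G) :
    (part p A).map e.toMonoidHom = part p (A.map e.toMonoidHom) := by
  rw [part, part, MonoidHom.map_closure]
  congr 1
  ext y
  constructor
  · rintro ⟨x, ⟨hx, k, hk⟩, rfl⟩
    exact ⟨⟨x, hx, rfl⟩, k, by simpa using hk⟩
  · rintro ⟨⟨x, hx, rfl⟩, k, hk⟩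
    exact ⟨x, ⟨hx, k, by simpa using hk⟩, rfl⟩

theorem normalizer_le_normalizer_part (p : ℕ) (A : Subgroup G) :
    normalizer (A : Set G) ≤ normalizer (part p A : Set G) := fun _ hg =>
  Thompson.mem_normalizer_of_map_conj
    (by rw [part_map_equiv, Thompson.map_conj_of_mem_normalizer hg])

theorem le_normalizer_part (p : ℕ) (A : Subgroup G) : A ≤ normalizer (part p A : Set G) :=
  le_normalizer.trans (normalizer_le_normalizer_part p A)

variable [Finite G]

theorem part_spec {p : ℕ} [Fact p.Prime] {A : Subgroup G} (hA : Group.IsNilpotent A) :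
    IsPGroup p (part p A) ∧ Nat.card (part p A) = p ^ (Nat.card A).factorization p := by
  haveI := hA
  obtain ⟨P⟩ := (inferInstance : Nonempty (Sylow p A))
  haveI hPn : (P : Subgroup A).Normal := by
    have h := (Group.isNilpotent_of_finite_tfae (G := A)).out 0 3
    exact h.mp hA p inferInstance P
  have e : part p A = (P : Subgroup A).map A.subtype := by
    refine le_antisymm ((closure_le _).mpr ?_) ?_
    · rintro x ⟨hx, k, hk⟩
      have hz : IsPGroup p (zpowers (⟨x, hx⟩ : A)) := IsPGroup.of_card (n := k) (by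
        rw [Nat.card_zpowers, ← hk, ← Subgroup.orderOf_coe])
      have hle : zpowers (⟨x, hx⟩ : A) ≤ P :=
        sup_eq_right.mp (P.3 (hz.to_sup_of_normal_right P.2) le_sup_right)
      exact ⟨⟨x, hx⟩, hle (mem_zpowers _), rfl⟩
    · rintro _ ⟨x, hx, rfl⟩
      obtain ⟨k, hk⟩ := IsPGroup.iff_orderOf.mp P.2 ⟨x, hx⟩
      refine mem_part x.2 (k := k) ?_
      show orderOf (x : G) = p ^ k
      rw [← hk, Subgroup.orderOf_coe, ← Subgroup.orderOf_coe ⟨x, hx⟩]
  rw [e]
  exact ⟨P.2.map _, by
    rw [Subgroup.card_map_of_injective A.subtype_injective, P.card_eq_multiplicity]⟩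

theorem orderOf_of_mem_part {p : ℕ} [Fact p.Prime] {A : Subgroup G} (hA : Group.IsNilpotent A)
    {x : G} (hx : x ∈ part p A) : ∃ k, orderOf x = p ^ k := by
  obtain ⟨k, hk⟩ := IsPGroup.iff_orderOf.mp (part_spec hA).1 ⟨x, hx⟩
  exact ⟨k, by rw [← hk, ← Subgroup.orderOf_coe]⟩

theorem comm_of_coprime {A : Subgroup G} (hA : Group.IsNilpotent A) {x y : G} (hx : x ∈ A)
    (hy : y ∈ A) (h : (orderOf x).Coprime (orderOf y)) : x * y = y * x := by
  haveI := hA
  have := commute_of_coprime_orderOf (G := A) (x := ⟨x, hx⟩) (y := ⟨y, hy⟩)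
    (by rw [← Subgroup.orderOf_coe, ← Subgroup.orderOf_coe]; exact h)
  exact congrArg Subtype.val this

theorem part_commute {p q : ℕ} [Fact p.Prime] [Fact q.Prime] (hpq : p ≠ q) {A : Subgroup G}
    (hA : Group.IsNilpotent A) {x y : G} (hx : x ∈ part p A) (hy : y ∈ part q A) :
    x * y = y * x := by
  obtain ⟨i, hi⟩ := orderOf_of_mem_part hA hx
  obtain ⟨j, hj⟩ := orderOf_of_mem_part hA hy
  refine comm_of_coprime hA (part_le hx) (part_le hy) ?_
  rw [hi, hj]
  exact ((Nat.coprime_primes Fact.out Fact.out).mpr hpq).pow i j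

theorem le_of_forall_primePow {A H : Subgroup G}
    (h : ∀ x ∈ A, ∀ s k : ℕ, s.Prime → orderOf x = s ^ k → x ∈ H) : A ≤ H := by
  refine Coprime.le_of_forall_sylow_le fun s hs P hPA hP => ?_
  haveI : Fact s.Prime := ⟨hs⟩
  intro x hx
  obtain ⟨k, hk⟩ := IsPGroup.iff_orderOf.mp hP ⟨x, hx⟩
  exact h x (hPA hx) s k hs (by rw [← hk, ← Subgroup.orderOf_coe])

theorem exists_mem_prime {p : ℕ} [Fact p.Prime] {A : Subgroup G} (h : p ∣ Nat.card A) :
    ∃ x ∈ A, orderOf x = p := by
  obtain ⟨x, hx⟩ := exists_prime_orderOf_dvd_card' p h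
  exact ⟨x, x.2, by rw [Subgroup.orderOf_coe]; exact hx⟩

theorem part_ne_bot {p : ℕ} [Fact p.Prime] {A : Subgroup G} (h : p ∣ Nat.card A) :
    part p A ≠ ⊥ := by
  obtain ⟨x, hx, hord⟩ := exists_mem_prime h
  intro hb
  have := mem_part (k := 1) hx (by rw [hord, pow_one])
  rw [hb, mem_bot] at this
  rw [this, orderOf_one] at hord
  exact (Fact.out : p.Prime).one_lt.ne hord

theorem exists_central {p : ℕ} [Fact p.Prime] {A : Subgroup G} (hA : Group.IsNilpotent A)
    (h : p ∣ Nat.card A) : ∃ a ∈ A, orderOf a = p ∧ ∀ y ∈ A, a * y = y * a := by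
  set S := part p A with hS
  have hSp : IsPGroup p S := (part_spec hA).1
  haveI : Nontrivial S := S.nontrivial_iff_ne_bot.mpr (part_ne_bot h)
  haveI hc : Nontrivial (Subgroup.center S) := hSp.center_nontrivial
  obtain ⟨n, hn0, hn⟩ := (hSp.to_subgroup (Subgroup.center S)).nontrivial_iff_card.mp hc
  obtain ⟨z, hz⟩ :=
    exists_prime_orderOf_dvd_card' p (G := Subgroup.center S) (hn ▸ dvd_pow_self p hn0.ne')
  rw [← Subgroup.orderOf_coe, ← Subgroup.orderOf_coe] at hz
  refine ⟨((z : S) : G), part_le (z : S).2, hz, ?_⟩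
  have hle : A ≤ centralizer ({((z : S) : G)} : Set G) := by
    refine le_of_forall_primePow fun x hx s k hs hk => ?_
    rw [mem_centralizer_singleton_iff]
    rcases eq_or_ne s p with rfl | hne
    · exact congrArg Subtype.val (mem_center_iff.mp z.2 ⟨x, mem_part hx hk⟩)
    · refine comm_of_coprime hA hx (part_le (z : S).2) ?_
      rw [hk, hz]
      exact ((Nat.coprime_primes hs Fact.out).mpr hne).pow_left k
  intro y hy
  exact (mem_centralizer_singleton_iff.mp (hle hy)).symm

theorem pow_coset_mem {K : Subgroup G} {g x : G} (hg : g ∈ normalizer (K : Set G))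
    (h : g⁻¹ * x ∈ K) : ∀ m : ℕ, (g ^ m)⁻¹ * x ^ m ∈ K
  | 0 => by simp
  | m + 1 => by
    have h1 := (mem_normalizer_iff.mp (inv_mem hg) _).mp (pow_coset_mem hg h m)
    have e : (g ^ (m + 1))⁻¹ * x ^ (m + 1) =
        g⁻¹ * ((g ^ m)⁻¹ * x ^ m) * g⁻¹⁻¹ * (g⁻¹ * x) := by
      rw [pow_succ, pow_succ]; group
    rw [e]
    exact mul_mem h1 h

theorem mem_of_pow_mem {K : Subgroup G} {a : G} {m : ℕ} (h : a ^ m ∈ K)
    (hcop : m.Coprime (orderOf a)) : a ∈ K := by
  obtain ⟨k, hk⟩ := exists_pow_eq_self_of_coprime hcop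
  rw [← hk]
  exact pow_mem h k

theorem eq_one_of_mem_of_mem {A B : Subgroup G} (hcop : (Nat.card A).Coprime (Nat.card B))
    {x : G} (hA : x ∈ A) (hB : x ∈ B) : x = 1 := by
  have h : x ∈ A ⊓ B := ⟨hA, hB⟩
  rwa [Subgroup.inf_eq_bot_of_coprime hcop, mem_bot] at h

/-- `L` is factorized with respect to `A`, `B`. -/
def Fac (A B L : Subgroup G) : Prop := ∀ g ∈ L, ∃ a ∈ L ⊓ A, ∃ b ∈ L ⊓ B, g = a * b

omit [Finite G] in
theorem Fac.symm {A B L : Subgroup G} (h : Fac A B L) : Fac B A L := fun g hg => by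
  obtain ⟨a, ha, b, hb, e⟩ := h g⁻¹ (inv_mem hg)
  exact ⟨b⁻¹, inv_mem hb, a⁻¹, inv_mem ha, by rw [← mul_inv_rev, ← e, inv_inv]⟩

/-- Normal subgroups of a coprime product are factorized. -/
theorem fac_of_normal {A B : Subgroup G} (hcop : (Nat.card A).Coprime (Nat.card B))
    (hAB : ∀ g : G, ∃ a ∈ A, ∃ b ∈ B, g = a * b) (N : Subgroup G) [hN : N.Normal] :
    Fac A B N := by
  intro g hg
  obtain ⟨a, ha, b, hb, rfl⟩ := hAB g
  have h1 : (b⁻¹)⁻¹ * a ∈ N := by
    simpa [mul_assoc] using hN.conj_mem _ hg b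
  have h2 := pow_coset_mem (g := b⁻¹) (x := a) (by rw [normalizer_eq_top]; trivial) h1 (orderOf b)
  rw [inv_pow, pow_orderOf_eq_one, inv_one, inv_one, one_mul] at h2
  have haN : a ∈ N := mem_of_pow_mem h2 (by
    exact (hcop.coprime_dvd_left (orderOf_dvd_natCard A ha)).coprime_dvd_right
      (orderOf_dvd_natCard B hb) |>.symm)
  refine ⟨a, ⟨haN, ha⟩, b, ⟨?_, hb⟩, rfl⟩
  simpa using mul_mem (inv_mem haN) hg

/-- A minimal counterexample. -/
structure Cfg (A B : Subgroup G) : Prop where
  hA : Group.IsNilpotent A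
  hB : Group.IsNilpotent B
  hcop : (Nat.card A).Coprime (Nat.card B)
  hAB : ∀ g : G, ∃ a ∈ A, ∃ b ∈ B, g = a * b
  hsimple : ∀ N : Subgroup G, N.Normal → N = ⊥ ∨ N = ⊤
  hsolv : ∀ L : Subgroup G, L ≠ ⊤ → Fac A B L → Group.IsSolvable L
  hns : ¬ Group.IsSolvable G

namespace Cfg

variable {A B : Subgroup G}

theorem symm (h : Cfg A B) : Cfg B A where
  hA := h.hB
  hB := h.hA
  hcop := h.hcop.symm
  hAB g := by
    obtain ⟨a, ha, b, hb, e⟩ := h.hAB g⁻¹
    exact ⟨b⁻¹, inv_mem hb, a⁻¹, inv_mem ha, by rw [← mul_inv_rev, ← e, inv_inv]⟩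
  hsimple := h.hsimple
  hsolv L hL hf := h.hsolv L hL hf.symm
  hns := h.hns

theorem card_eq (h : Cfg A B) : Nat.card G = Nat.card A * Nat.card B := by
  have := card_factorized h.hAB
  rwa [Subgroup.inf_eq_bot_of_coprime h.hcop, Subgroup.card_bot, mul_one] at this

theorem index_eq (h : Cfg A B) : A.index = Nat.card B := by
  have h1 := A.card_mul_index
  rw [h.card_eq] at h1
  exact Nat.eq_of_mul_eq_mul_left Nat.card_pos h1

theorem hall (h : Cfg A B) : (Nat.card A).Coprime A.index := by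
  rw [h.index_eq]; exact h.hcop

theorem ne_top (h : Cfg A B) : A ≠ ⊤ := by
  intro e
  refine h.hns ?_
  haveI := h.hA
  exact solvable_of_surjective (f := A.subtype) (fun g => ⟨⟨g, e ▸ mem_top g⟩, rfl⟩)

theorem ne_bot (h : Cfg A B) : A ≠ ⊥ := by
  intro e
  refine h.symm.ne_top (eq_top_iff.mpr fun g _ => ?_)
  obtain ⟨a, ha, b, hb, rfl⟩ := h.hAB g
  rw [e, mem_bot] at ha
  rwa [ha, one_mul]

theorem nontrivial (h : Cfg A B) : Nontrivial G := by
  by_contra hc
  haveI := not_nontrivial_iff_subsingleton.mp hc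
  exact h.hns inferInstance

theorem simple (h : Cfg A B) : IsSimpleGroup G :=
  haveI := h.nontrivial
  ⟨fun N hN => h.hsimple N hN⟩

theorem centralizer_ne_top (h : Cfg A B) {g : G} (hg : g ≠ 1) :
    centralizer ({g} : Set G) ≠ ⊤ := by
  intro e
  have hc : g ∈ Subgroup.center G := mem_center_iff.mpr fun y =>
    (mem_centralizer_singleton_iff.mp (e ▸ mem_top y))
  rcases h.hsimple _ (inferInstance : (Subgroup.center G).Normal) with h1 | h1
  · rw [h1, mem_bot] at hc; exact hg hc
  · exact h.hns (Group.isSolvable_of_comm fun a b => (mem_center_iff.mp (h1 ▸ mem_top b) a))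

theorem normalizer_ne_top (h : Cfg A B) {U : Subgroup G} (h1 : U ≠ ⊥) (h2 : U ≠ ⊤) :
    normalizer (U : Set G) ≠ ⊤ := fun e =>
  (h.hsimple U (normalizer_eq_top_iff.mp e)).elim h1 h2

/-- No factor is a `p`-group. -/
theorem exists_prime_ne (h : Cfg A B) (r : ℕ) : ∃ p, p.Prime ∧ p ∣ Nat.card A ∧ p ≠ r := by
  by_contra hc
  push Not at hc
  obtain ⟨p, hp, hpA⟩ := Nat.exists_prime_and_dvd (n := Nat.card A) (by
    rw [Ne, Subgroup.card_eq_one]; exact h.ne_bot)
  have hr : p = r := hc p hp hpA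
  subst hr
  obtain ⟨q, hq, hqB⟩ := Nat.exists_prime_and_dvd (n := Nat.card B) (by
    rw [Ne, Subgroup.card_eq_one]; exact h.symm.ne_bot)
  haveI : Fact q.Prime := ⟨hq⟩
  obtain ⟨b, hb, hbo, hbc⟩ := exists_central h.hB hqB
  have hb1 : b ≠ 1 := fun e => by rw [e, orderOf_one] at hbo; exact hq.one_lt.ne hbo
  have hle : B ≤ centralizer ({b} : Set G) := fun y hy =>
    mem_centralizer_singleton_iff.mpr (hbc y hy).symm
  have hdvd : (centralizer ({b} : Set G)).index ∣ Nat.card A :=
    h.symm.index_eq ▸ Subgroup.index_dvd_of_le hle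
  have hApow : ∃ k, Nat.card A = p ^ k :=
    ⟨_, Nat.eq_prime_pow_of_unique_prime_dvd Nat.card_pos.ne' fun {d} hd hdA => hc d hd hdA⟩
  obtain ⟨k, hk⟩ := hApow
  rw [hk] at hdvd
  obtain ⟨i, -, hi⟩ := (Nat.dvd_prime_pow hp).mp hdvd
  haveI := h.simple
  have hprime := S0143.result p i hp b hb1 hi
  haveI : Fact (Nat.card G).Prime := ⟨hprime⟩
  haveI : IsCyclic G := isCyclic_of_prime_card rfl
  exact h.hns (Group.isSolvable_of_comm fun a c => (IsCyclic.commGroup (α := G)).mul_comm a c)

/-- Sylow subgroups of the two factors do not permute. -/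
theorem not_perm (h : Cfg A B) {p q : ℕ} [Fact p.Prime] [Fact q.Prime] (hp : p ∣ Nat.card A)
    (hq : q ∣ Nat.card B)
    (hK : ∃ K : Subgroup G, (K : Set G) = (part p A : Set G) * (part q B : Set G)) : False := by
  obtain ⟨K, hK⟩ := hK
  have hlt : Nat.card (part p A) < Nat.card A := by
    refine lt_of_le_of_ne (Subgroup.card_le_of_le part_le) fun e => ?_
    obtain ⟨s, hs, hsA, hsp⟩ := h.exists_prime_ne p
    rw [← e, (part_spec h.hA).2] at hsA
    exact hsp ((Nat.prime_dvd_prime_iff_eq hs Fact.out).mp (hs.dvd_of_dvd_pow hsA))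
  have hmain : ∀ x : G, ∃ S : Subgroup G, S ≠ ⊤ ∧ (S : Set G) =
      (part p A : Set G) * ((MulAut.conj x • part q B : Subgroup G) : Set G) := by
    intro x
    obtain ⟨a, ha, b, hb, rfl⟩ := h.hAB x
    have e1 : MulAut.conj a • part p A = part p A :=
      Thompson.map_conj_of_mem_normalizer (le_normalizer_part p A ha)
    have e2 : MulAut.conj b • part q B = part q B :=
      Thompson.map_conj_of_mem_normalizer (le_normalizer_part q B hb)
    refine ⟨MulAut.conj a • K, fun e => ?_, ?_⟩
    · have hc : Nat.card (K : Set G) ≤ Nat.card (part p A) * Nat.card (part q B) := by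
        rw [hK]; exact Set.natCard_mul_le
      have hG : Nat.card (MulAut.conj a • K : Subgroup G) = Nat.card K :=
        Nat.card_congr (Subgroup.equivSMul (MulAut.conj a) K).symm.toEquiv
      rw [e, Subgroup.card_top, h.card_eq] at hG
      have h3 : Nat.card (part p A) * Nat.card (part q B) < Nat.card A * Nat.card B :=
        Nat.mul_lt_mul_of_lt_of_le hlt (Subgroup.card_le_of_le part_le) Nat.card_pos
      exact absurd (hG ▸ h3) (not_lt.mpr hc)
    · rw [map_mul, mul_smul, e2]
      conv_rhs => rw [← e1]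
      rw [Subgroup.coe_pointwise_smul, Subgroup.coe_pointwise_smul, Subgroup.coe_pointwise_smul, hK,
        smul_mul']
  obtain ⟨N, hN, hNtop, hle⟩ := S0566.result _ _ (part_ne_bot hp) (part_ne_bot hq) hmain
  rcases h.hsimple N hN with rfl | rfl
  · rcases hle with h1 | h1
    · exact part_ne_bot hp (le_bot_iff.mp h1)
    · exact part_ne_bot hq (le_bot_iff.mp h1)
  · exact hNtop rfl

/-- In a solvable factorized subgroup, Sylow subgroups of the factors permute. -/
theorem perm_in (h : Cfg A B) {L : Subgroup G} (hL : L ≠ ⊤) (hfac : Fac A B L) {p q : ℕ}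
    [Fact p.Prime] [Fact q.Prime] (hp : p ∣ Nat.card A) (hq : q ∣ Nat.card B) :
    ∃ K : Subgroup G, K ≤ L ∧
      (K : Set G) = ((part p A ⊓ L : Subgroup G) : Set G) * ((part q B ⊓ L : Subgroup G) : Set G) := by
  haveI := h.hsolv L hL hfac
  have hcard : Nat.card L = Nat.card (L ⊓ A : Subgroup G) * Nat.card (L ⊓ B : Subgroup G) := by
    have h1 := card_factorized (G := L) (H := A.subgroupOf L) (K := B.subgroupOf L) fun g => by
      obtain ⟨a, ha, b, hb, e⟩ := hfac g g.2
      exact ⟨⟨a, ha.1⟩, ha.2, ⟨b, hb.1⟩, hb.2, Subtype.ext e⟩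
    have hb : (A.subgroupOf L ⊓ B.subgroupOf L) = ⊥ := by
      refine (eq_bot_iff_forall _).mpr fun x hx => Subtype.ext ?_
      exact eq_one_of_mem_of_mem h.hcop hx.1 hx.2
    rw [hb, Subgroup.card_bot, mul_one] at h1
    rwa [← inf_subgroupOf_left A L, ← inf_subgroupOf_left B L,
      Nat.card_congr (subgroupOfEquivOfLe inf_le_left).toEquiv,
      Nat.card_congr (subgroupOfEquivOfLe inf_le_left).toEquiv] at h1
  have key : ∀ {A' B' : Subgroup G}, Group.IsNilpotent A' →
      (Nat.card A').Coprime (Nat.card B') →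
      Nat.card L = Nat.card (L ⊓ A' : Subgroup G) * Nat.card (L ⊓ B' : Subgroup G) →
      ∀ {s : ℕ} [Fact s.Prime], s ∣ Nat.card A' →
      (Nat.card ((part s A').subgroupOf L)).Coprime ((part s A').subgroupOf L).index := by
    intro A' B' hA' hcop' hcard' s hs hsA
    have e : part s A' ⊓ L = part s (L ⊓ A') := by
      refine le_antisymm (fun x hx => ?_) (le_inf (part_mono inf_le_right) (part_le.trans inf_le_left))
      obtain ⟨k, hk⟩ := orderOf_of_mem_part hA' hx.1
      exact mem_part ⟨hx.2, part_le hx.1⟩ hk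
    have hc : Nat.card ((part s A').subgroupOf L) = s ^ (Nat.card L).factorization s := by
      rw [← inf_subgroupOf_right, Nat.card_congr (subgroupOfEquivOfLe inf_le_right).toEquiv, e,
        (part_spec (Hall.isNilpotent_of_le inf_le_right hA')).2]
      congr 1
      rw [hcard', Nat.factorization_mul Nat.card_pos.ne' Nat.card_pos.ne', Finsupp.add_apply]
      have : ¬ s ∣ Nat.card (L ⊓ B' : Subgroup G) := fun hd =>
        (Fact.out : s.Prime).ne_one (Nat.eq_one_of_dvd_coprimes hcop' hsA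
          (hd.trans (Subgroup.card_dvd_of_le inf_le_right)))
      rw [Nat.factorization_eq_zero_of_not_dvd this, add_zero]
    have hi := ((part s A').subgroupOf L).card_mul_index
    rw [hc] at hi ⊢
    have hpos : 0 < s ^ (Nat.card L).factorization s := pow_pos (Fact.out : s.Prime).pos _
    have : ((part s A').subgroupOf L).index = Nat.card L / s ^ (Nat.card L).factorization s :=
      (Nat.div_eq_of_eq_mul_right hpos hi.symm).symm
    rw [this]
    exact (Nat.coprime_ordCompl Fact.out Nat.card_pos.ne').pow_left _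
  obtain ⟨S, hS⟩ := S0561.result (G := L) (A.subgroupOf L) (B.subgroupOf L)
    ((part p A).subgroupOf L) ((part q B).subgroupOf L)
    (fun g => by
      obtain ⟨a, ha, b, hb, e⟩ := hfac g g.2
      exact ⟨⟨a, ha.1⟩, ha.2, ⟨b, hb.1⟩, hb.2, Subtype.ext e⟩)
    (Subgroup.comap_mono part_le)
    ((Subgroup.normal_subgroupOf_iff_le_normalizer (Subgroup.comap_mono part_le)).mpr
      ((Subgroup.comap_mono (le_normalizer_part p A)).trans (Subgroup.le_normalizer_comap _)))
    (Subgroup.comap_mono part_le)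
    ((Subgroup.normal_subgroupOf_iff_le_normalizer (Subgroup.comap_mono part_le)).mpr
      ((Subgroup.comap_mono (le_normalizer_part q B)).trans (Subgroup.le_normalizer_comap _)))
    (key h.hA h.hcop hcard hp) (key h.hB h.hcop.symm (by rw [hcard, mul_comm]) hq) 1 1
  rw [map_one, one_smul, one_smul] at hS
  refine ⟨S.map L.subtype, map_subtype_le S, ?_⟩
  rw [Subgroup.coe_map, hS, Set.image_mul, ← Subgroup.coe_map, ← Subgroup.coe_map,
    subgroupOf_map_subtype, subgroupOf_map_subtype]

theorem ne_one_of_prime {a : G} (ha : (orderOf a).Prime) : a ≠ 1 := fun e => by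
  rw [e, orderOf_one] at ha; exact ha.ne_one rfl

theorem eq_top_of_central_mem (h : Cfg A B) {a : G} (ha : a ∈ A) (hac : ∀ y ∈ A, a * y = y * a)
    (ha1 : a ≠ 1) {H : Subgroup G} (hB : B ≤ H) (haH : a ∈ H) : H = ⊤ := by
  have hle : normalClosure {a} ≤ H := by
    refine (Subgroup.closure_le H).mpr fun x hx => ?_
    rw [Group.mem_conjugatesOfSet_iff] at hx
    obtain ⟨y, rfl, hy⟩ := hx
    obtain ⟨g, rfl⟩ := isConj_iff.mp hy
    obtain ⟨b, hb, c, hc, rfl⟩ := h.symm.hAB g
    have e : b * c * y * (b * c)⁻¹ = b * y * b⁻¹ := by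
      rw [mul_inv_rev, mul_assoc b c y, ← hac c hc]; group
    rw [e]
    exact mul_mem (mul_mem (hB hb) haH) (inv_mem (hB hb))
  rcases h.hsimple _ (normalClosure_normal (s := {a})) with h1 | h1
  · have : a ∈ normalClosure {a} := subset_normalClosure (Set.mem_singleton a)
    rw [h1, mem_bot] at this
    exact absurd this ha1
  · exact eq_top_iff.mpr (h1 ▸ hle)

/-- A central element of prime order of `A` normalizes no nontrivial subgroup of `B`. -/
theorem not_normalizes (h : Cfg A B) {a : G} (ha : a ∈ A) (hac : ∀ y ∈ A, a * y = y * a)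
    (hao : (orderOf a).Prime) {U : Subgroup G} (hUB : U ≤ B) (hU : U ≠ ⊥)
    (hnorm : a ∈ normalizer (U : Set G)) : False := by
  have ha1 := ne_one_of_prime hao
  haveI hpF : Fact (orderOf a).Prime := ⟨hao⟩
  have hpA : orderOf a ∣ Nat.card A := orderOf_dvd_natCard A ha
  have hUnil : Group.IsNilpotent U := Hall.isNilpotent_of_le hUB h.hB
  obtain ⟨r, hr, hrU⟩ := Nat.exists_prime_and_dvd (n := Nat.card U) (by
    rw [Ne, Subgroup.card_eq_one]; exact hU)
  haveI : Fact r.Prime := ⟨hr⟩
  obtain ⟨q, hq, hqB, hqr⟩ := h.symm.exists_prime_ne r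
  haveI : Fact q.Prime := ⟨hq⟩
  set V := part r U with hV
  have hVne : V ≠ ⊥ := part_ne_bot hrU
  have hVB : V ≤ B := part_le.trans hUB
  have hVtop : V ≠ ⊤ := fun e => h.symm.ne_top (top_le_iff.mp (e ▸ hVB))
  set T := zpowers a ⊔ part q B with hT
  have hTV : T ≤ normalizer (V : Set G) := by
    refine sup_le (zpowers_le.mpr (normalizer_le_normalizer_part r U hnorm)) fun y hy => ?_
    refine centralizer_le_normalizer _ (mem_centralizer_iff.mpr fun v hv => ?_)
    exact part_commute (Ne.symm hqr) h.hB (part_mono hUB hv) hy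
  have hTne : T ≠ ⊥ := fun e =>
    ha1 (mem_bot.mp (e ▸ mem_sup_left (mem_zpowers a) : a ∈ (⊥ : Subgroup G)))
  have hTtop : T ≠ ⊤ := fun e => h.normalizer_ne_top hVne hVtop (top_le_iff.mp (e ▸ hTV))
  set L := normalizer (T : Set G) with hL
  have hLtop : L ≠ ⊤ := h.normalizer_ne_top hTne hTtop
  have hfac : Fac A B L := S0562.result A B (zpowers a) (part q B) h.hAB (zpowers_le.mpr ha)
    ((Subgroup.normal_subgroupOf_iff (zpowers_le.mpr ha)).mpr fun x y hx hy => by
      obtain ⟨k, rfl⟩ := mem_zpowers_iff.mp hx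
      have : Commute y a := (hac y hy).symm
      rw [(this.zpow_right k).eq, mul_inv_cancel_right]
      exact zpow_mem (mem_zpowers a) k)
    part_le ((Subgroup.normal_subgroupOf_iff_le_normalizer part_le).mpr (le_normalizer_part q B))
  have hqL : part q B ≤ L := (le_sup_right : part q B ≤ T).trans le_normalizer
  obtain ⟨K, hKL, hK⟩ := h.perm_in hLtop hfac hpA hqB
  rw [inf_of_le_left hqL] at hK
  have haS : a ∈ part (orderOf a) A ⊓ L :=
    ⟨mem_part (k := 1) ha (pow_one _).symm, le_normalizer (mem_sup_left (mem_zpowers a))⟩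
  have haK : a ∈ K := by
    show a ∈ (K : Set G)
    rw [hK]; exact ⟨a, haS, 1, one_mem _, mul_one a⟩
  have hqK : part q B ≤ K := fun y hy => by
    show y ∈ (K : Set G)
    rw [hK]; exact ⟨1, one_mem _, y, hy, one_mul y⟩
  have hpK : part (orderOf a) A ⊓ L ≤ K := fun y hy => by
    show y ∈ (K : Set G)
    rw [hK]; exact ⟨y, hy, 1, one_mem _, mul_one y⟩
  haveI := h.hsolv L hLtop hfac
  haveI : Group.IsSolvable K := solvable_of_solvable_injective (inclusion_injective hKL)
  haveI : Nontrivial K :=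
    K.nontrivial_iff_ne_bot.mpr fun e => ha1 (mem_bot.mp (e ▸ haK : a ∈ (⊥ : Subgroup G)))
  obtain ⟨N, -, hNn, hNne, -, -, s, hs, -, hNs, -⟩ :=
    exists_minNormal_elementary (G := K) (K := ⊤) inferInstance top_ne_bot
  haveI : Fact s.Prime := ⟨hs⟩
  set M := N.map K.subtype with hM
  have hMne : M ≠ ⊥ := fun e => hNne ((Subgroup.map_eq_bot_iff_of_injective _ K.subtype_injective).mp e)
  have hMK : M ≤ K := map_subtype_le N
  have hKM : K ≤ normalizer (M : Set G) := by
    have h1 := Subgroup.le_normalizer_map (H := N) K.subtype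
    rwa [normalizer_eq_top, ← MonoidHom.range_eq_map, range_subtype] at h1
  have hMs : IsPGroup s M := hNs.map _
  have hMtop : M ≠ ⊤ := fun e => hLtop (top_le_iff.mp (e ▸ hMK.trans hKL))
  have hNtop := h.normalizer_ne_top hMne hMtop
  -- elements of `M` in each case
  by_cases hcase : s = q
  · subst hcase
    have hMq : M ≤ part s B := by
      intro x hx
      have hx' : x ∈ (K : Set G) := hMK hx
      rw [hK] at hx'
      obtain ⟨α, hα, β, hβ, rfl⟩ := hx'
      have hP : IsPGroup s (M ⊔ part s B : Subgroup G) :=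
        hMs.to_sup_of_normal_left' (part_spec h.hB).1 (hqK.trans hKM)
      have hαm : α ∈ M ⊔ part s B := by
        have := mul_mem (mem_sup_left (T := part s B) hx) (inv_mem (mem_sup_right (S := M) hβ))
        simpa using this
      obtain ⟨i, hi⟩ := IsPGroup.iff_orderOf.mp hP ⟨α, hαm⟩
      rw [← Subgroup.orderOf_coe] at hi
      have hα1 : α = 1 := by
        rw [← orderOf_eq_one_iff]
        refine Nat.eq_one_of_dvd_coprimes ?_ (dvd_refl _) (orderOf_dvd_natCard A (part_le hα.1))
        have hcopr : (orderOf α).Coprime (Nat.card A) := by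
          change orderOf α = s ^ i at hi
          rw [hi]
          exact (Nat.Coprime.coprime_dvd_left hqB h.hcop.symm).pow_left i
        exact hcopr
      show α * β ∈ part s B
      rw [hα1, one_mul]; exact hβ
    have hBM : B ≤ normalizer (M : Set G) := by
      refine le_of_forall_primePow fun x hx t k ht hk => ?_
      haveI : Fact t.Prime := ⟨ht⟩
      rcases eq_or_ne t s with rfl | hts
      · exact hKM (hqK (mem_part hx hk))
      · refine centralizer_le_normalizer _ (mem_centralizer_iff.mpr fun v hv => ?_)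
        exact part_commute hts.symm h.hB (hMq hv) (mem_part hx hk)
    exact hNtop (h.eq_top_of_central_mem ha hac ha1 hBM (hKM haK))
  · have hMp : M ≤ part (orderOf a) A := by
      intro x hx
      have hx' : x ∈ (K : Set G) := hMK hx
      rw [hK] at hx'
      obtain ⟨α, hα, β, hβ, rfl⟩ := hx'
      have hαM : α ∈ normalizer (M : Set G) := hKM (hpK hα)
      have h4 : (α⁻¹)⁻¹ * β ∈ M := by simpa using hx
      have h5 := pow_coset_mem (inv_mem hαM) h4 (orderOf α)
      rw [inv_pow, pow_orderOf_eq_one, inv_one, inv_one, one_mul] at h5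
      have hβM : β ∈ M := mem_of_pow_mem h5
        ((h.hcop.coprime_dvd_left (orderOf_dvd_natCard A (part_le hα.1))).coprime_dvd_right
          (orderOf_dvd_natCard B (part_le hβ)))
      obtain ⟨i, hi⟩ := IsPGroup.iff_orderOf.mp hMs ⟨β, hβM⟩
      obtain ⟨j, hj⟩ := orderOf_of_mem_part h.hB hβ
      have hβ1 : β = 1 := by
        rw [← Subgroup.orderOf_coe] at hi
        rw [← orderOf_eq_one_iff]
        refine Nat.eq_one_of_dvd_coprimes (((Nat.coprime_primes hs hq).mpr hcase).pow i j) ?_ ?_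
        · exact dvd_of_eq hi
        · exact dvd_of_eq hj
      show α * β ∈ part (orderOf a) A
      rw [hβ1, mul_one]; exact hα.1
    obtain ⟨p', hp', hp'A, hp'ne⟩ := h.exists_prime_ne (orderOf a)
    haveI : Fact p'.Prime := ⟨hp'⟩
    have hpM : part p' A ≤ normalizer (M : Set G) := fun y hy => by
      refine centralizer_le_normalizer _ (mem_centralizer_iff.mpr fun v hv => ?_)
      exact part_commute hp'ne.symm h.hA (hMp hv) hy
    set T' := part p' A ⊔ part q B with hT'
    have hT'M : T' ≤ normalizer (M : Set G) := sup_le hpM (hqK.trans hKM)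
    have hT'ne : T' ≠ ⊥ := fun e => part_ne_bot hqB (le_bot_iff.mp (e ▸ le_sup_right))
    have hT'top : T' ≠ ⊤ := fun e => hNtop (top_le_iff.mp (e ▸ hT'M))
    have hL'top := h.normalizer_ne_top hT'ne hT'top
    have hfac' : Fac A B (normalizer (T' : Set G)) := S0562.result A B _ _ h.hAB part_le
      ((Subgroup.normal_subgroupOf_iff_le_normalizer part_le).mpr (le_normalizer_part p' A))
      part_le ((Subgroup.normal_subgroupOf_iff_le_normalizer part_le).mpr (le_normalizer_part q B))
    obtain ⟨K', -, hK'⟩ := h.perm_in hL'top hfac' hp'A hqB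
    rw [inf_of_le_left ((le_sup_left : part p' A ≤ T').trans le_normalizer),
      inf_of_le_left ((le_sup_right : part q B ≤ T').trans le_normalizer)] at hK'
    exact h.not_perm hp'A hqB ⟨K', hK'⟩

end Cfg

end Cfsg.Agent.H31.NilProd
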