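import Cfsg.Agent.H31.WielandtCoprime
import Cfsg.Agent.Components.Fitting

/-!
Wielandt's theorem on products of nilpotent subgroups of coprime orders: the contradiction.
-/

set_option autoImplicit false

namespace Cfsg.Agent.H31.NilProd

open Subgroup
open scoped Pointwise

universe u

namespace Cfg

variable {G : Type u} [Group G] [Finite G] {A B : Subgroup G}

theorem eq_one_of_normalizes (h : Cfg A B) {a : G} (ha : a ∈ A) (hac : ∀ y ∈ A, a * y = y * a)
    (hao : (orderOf a).Prime) {U : Subgroup G} (hUB : U ≤ B)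
    (hnorm : a ∈ normalizer (U : Set G)) : U = ⊥ :=
  by_contra fun hne => h.not_normalizes ha hac hao hUB hne hnorm

/-- Wielandt's conjugacy theorem, with the conjugating element in a factor. -/
theorem le_conj (h : Cfg A B) {U : Subgroup G}
    (hU : ∀ s : ℕ, s.Prime → s ∣ Nat.card U → s ∣ Nat.card B) :
    ∃ α ∈ A, U ≤ MulAut.conj α • B := by
  obtain ⟨g, hg⟩ := Hall.le_conj_of_nilpotent_hall h.hB h.symm.hall hU
  obtain ⟨α, hα, β, hβ, rfl⟩ := h.hAB g
  refine ⟨α, hα, ?_⟩
  rwa [map_mul, mul_smul,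
    show MulAut.conj β • B = B from Thompson.map_conj_of_mem_normalizer (le_normalizer hβ)] at hg

omit [Finite G] in
theorem mem_conj_iff {g x : G} {H : Subgroup G} :
    x ∈ MulAut.conj g • H ↔ g⁻¹ * x * g ∈ H := by
  rw [← SetLike.mem_coe, Subgroup.coe_pointwise_smul, Set.mem_smul_set_iff_inv_smul_mem]
  simp [MulAut.smul_def, MulAut.conj_inv_apply]

theorem not_normalizes' (h : Cfg A B) {a : G} (ha : a ∈ A) (hac : ∀ y ∈ A, a * y = y * a)
    (hao : (orderOf a).Prime) {U : Subgroup G}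
    (hU : ∀ s : ℕ, s.Prime → s ∣ Nat.card U → s ∣ Nat.card B) (hUne : U ≠ ⊥)
    (hnorm : a ∈ normalizer (U : Set G)) : False := by
  obtain ⟨α, hα, hle⟩ := h.le_conj hU
  refine h.not_normalizes ha hac hao (U := U.map (MulAut.conj α⁻¹).toMonoidHom) ?_ ?_ ?_
  · rintro _ ⟨u, hu, rfl⟩
    simpa using mem_conj_iff.mp (hle hu)
  · exact fun e =>
      hUne ((Subgroup.map_eq_bot_iff_of_injective _ (MulAut.conj α⁻¹).injective).mp e)
  · have h1 := Subgroup.le_normalizer_map (MulAut.conj α⁻¹).toMonoidHom (H := U)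
      (mem_map_of_mem _ hnorm)
    have e : (MulAut.conj α⁻¹).toMonoidHom a = a := by
      simp [mul_assoc, hac α hα]
    rwa [e] at h1

theorem mem_of_commute (h : Cfg A B) {a : G} (ha : a ∈ A) (hac : ∀ y ∈ A, a * y = y * a)
    (hao : (orderOf a).Prime) {x : G} (hx : x * a = a * x) : x ∈ A := by
  obtain ⟨α, hα, β, hβ, rfl⟩ := h.hAB x
  have h1 : β * a = a * β := by
    have : α * (β * a) = α * (a * β) := by rw [← mul_assoc, hx, ← mul_assoc, hac α hα, mul_assoc]
    exact mul_left_cancel this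
  have h2 := h.eq_one_of_normalizes ha hac hao (U := zpowers β) (zpowers_le.mpr hβ)
    (centralizer_le_normalizer _ (mem_centralizer_iff.mpr fun v hv => by
      obtain ⟨k, rfl⟩ := mem_zpowers_iff.mp hv
      exact (Commute.zpow_left h1 k).eq))
  rw [zpowers_eq_bot] at h2
  rwa [h2, mul_one]

/-- `A` is the only conjugate of `A` containing a central element of prime order of `A`. -/
theorem mem_normalizer_of_conj_mem (h : Cfg A B) {a : G} (ha : a ∈ A)
    (hac : ∀ y ∈ A, a * y = y * a) (hao : (orderOf a).Prime) {g : G} (hg : g⁻¹ * a * g ∈ A) :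
    g ∈ normalizer (A : Set G) := by
  have key : ∀ {c : G}, c ∈ A → (∀ y ∈ A, c * y = y * c) → (orderOf c).Prime →
      g⁻¹ * c * g ∈ A → ∀ x ∈ A, ∀ s k : ℕ, s.Prime → s ≠ orderOf c → orderOf x = s ^ k →
        g * x * g⁻¹ ∈ A := by
    intro c hc hcc hco hgc x hx s k hs hne hk
    refine h.mem_of_commute hc hcc hco ?_
    have h1 : (g⁻¹ * c * g) * x = x * (g⁻¹ * c * g) := by
      refine comm_of_coprime h.hA hgc hx ?_
      have : orderOf (g⁻¹ * c * g) = orderOf c := by
        have := (MulAut.conj g⁻¹).orderOf_eq c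
        simpa using this
      rw [this, hk]
      exact ((Nat.coprime_primes hco hs).mpr hne.symm).pow_right k
    calc g * x * g⁻¹ * c = g * (x * (g⁻¹ * c * g)) * g⁻¹ := by group
      _ = g * ((g⁻¹ * c * g) * x) * g⁻¹ := by rw [h1]
      _ = c * (g * x * g⁻¹) := by group
  obtain ⟨q, hq, hqA, hqa⟩ := h.exists_prime_ne (orderOf a)
  haveI : Fact q.Prime := ⟨hq⟩
  have hQ : (part q A).map (MulAut.conj g).toMonoidHom = part q A := by
    refine Subgroup.eq_of_le_of_card_ge ?_
      (le_of_eq (Subgroup.card_map_of_injective (MulAut.conj g).injective).symm)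
    rintro _ ⟨x, hx, rfl⟩
    obtain ⟨k, hk⟩ := orderOf_of_mem_part h.hA hx
    refine mem_part (k := k) (key ha hac hao hg x (part_le hx) q k hq hqa hk) ?_
    rw [← hk]
    exact (MulAut.conj g).orderOf_eq x
  obtain ⟨d, hd, hdo, hdc⟩ := exists_central h.hA hqA
  have hgd : g⁻¹ * d * g ∈ A := by
    have hdq : d ∈ part q A := mem_part (k := 1) hd (by rw [hdo, pow_one])
    rw [← hQ] at hdq
    obtain ⟨x, hx, rfl⟩ := hdq
    simpa [mul_assoc] using part_le hx
  refine Thompson.mem_normalizer_of_map_conj (Subgroup.eq_of_le_of_card_ge ?_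
      (le_of_eq (Subgroup.card_map_of_injective (MulAut.conj g).injective).symm))
  rw [map_le_iff_le_comap]
  refine le_of_forall_primePow fun x hx s k hs hk => ?_
  show g * x * g⁻¹ ∈ A
  rcases eq_or_ne s (orderOf a) with e | e
  · exact key hd hdc (hdo ▸ hq) hgd x hx s k hs (by rw [hdo, e]; exact hqa.symm) hk
  · exact key ha hac hao hg x hx s k hs e hk

theorem fac_of_le (h : Cfg A B) {L : Subgroup G} (hBL : B ≤ L) : Fac A B L := fun g hg => by
  obtain ⟨α, hα, β, hβ, rfl⟩ := h.hAB g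
  refine ⟨α, ⟨?_, hα⟩, β, ⟨hBL hβ, hβ⟩, rfl⟩
  simpa using mul_mem hg (inv_mem (hBL hβ))

/-- A factorized proper subgroup containing a central element of prime order of `B` has its
`A`-part in `N(B)`. -/
theorem inf_le_normalizer (h : Cfg A B) {b : G} (hb : b ∈ B) (hbc : ∀ y ∈ B, b * y = y * b)
    (hbo : (orderOf b).Prime) {L : Subgroup G} (hL : L ≠ ⊤) (hfac : Fac A B L) (hbL : b ∈ L) :
    L ⊓ A ≤ normalizer (B : Set G) := by
  haveI := h.hsolv L hL hfac
  set F := fittingSubgroup L with hF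
  set M := F.map L.subtype with hM
  have hLM : L ≤ normalizer (M : Set G) := by
    have h1 := Subgroup.le_normalizer_map (H := F) L.subtype
    rwa [normalizer_eq_top, ← MonoidHom.range_eq_map, range_subtype] at h1
  have hMnil : Group.IsNilpotent M :=
    Group.nilpotent_of_mulEquiv (_h := Cores.fittingSubgroup_isNilpotent)
      (F.equivMapOfInjective L.subtype L.subtype_injective)
  have hMcop : (Nat.card M).Coprime (Nat.card A) := by
    refine Nat.coprime_of_dvd fun s hs hsM hsA => ?_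
    haveI : Fact s.Prime := ⟨hs⟩
    refine h.symm.not_normalizes' hb hbc hbo (U := part s M) ?_ (part_ne_bot hsM) ?_
    · intro t ht htd
      rw [(part_spec hMnil).2] at htd
      rwa [(Nat.prime_dvd_prime_iff_eq ht hs).mp (ht.dvd_of_dvd_pow htd)]
    · exact normalizer_le_normalizer_part s M (hLM hbL)
  have hMB : M ≤ B := by
    intro x hx
    obtain ⟨α, hα, β, hβ, rfl⟩ := hfac x (map_subtype_le F hx)
    have h1 : (β⁻¹)⁻¹ * α ∈ M := by
      have := (mem_normalizer_iff.mp (hLM hβ.1) _).mp hx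
      simpa [mul_assoc] using this
    have h2 := pow_coset_mem (hLM (inv_mem hβ.1)) h1 (orderOf β)
    rw [inv_pow, pow_orderOf_eq_one, inv_one, inv_one, one_mul] at h2
    have h3 : α ∈ M := mem_of_pow_mem h2
      ((h.hcop.coprime_dvd_left (orderOf_dvd_natCard A hα.2)).coprime_dvd_right
        (orderOf_dvd_natCard B hβ.2)).symm
    rw [eq_one_of_mem_of_mem hMcop.symm hα.2 h3, one_mul]
    exact hβ.2
  have hbF : (⟨b, hbL⟩ : L) ∈ F := Cores.centralizer_fittingSubgroup_le
    (mem_centralizer_iff.mpr fun y hy => Subtype.ext (hbc y (hMB ⟨y, hy, rfl⟩)).symm)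
  intro α hα
  have h4 : α * b * α⁻¹ ∈ M := (mem_normalizer_iff.mp (hLM hα.1) _).mp ⟨_, hbF, rfl⟩
  have h5 := h.symm.mem_normalizer_of_conj_mem hb hbc hbo (g := α⁻¹) (by simpa using hMB h4)
  simpa using inv_mem h5

theorem le_normalizer_of_ne_top (h : Cfg A B) {L : Subgroup G} (hL : L ≠ ⊤) (hBL : B ≤ L) :
    L ≤ normalizer (B : Set G) := by
  obtain ⟨q, hq, hqB, -⟩ := h.symm.exists_prime_ne 0
  haveI : Fact q.Prime := ⟨hq⟩
  obtain ⟨b, hb, hbo, hbc⟩ := exists_central h.hB hqB
  intro g hg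
  obtain ⟨α, hα, β, hβ, rfl⟩ := h.fac_of_le hBL g hg
  exact mul_mem (h.inf_le_normalizer hb hbc (hbo ▸ hq) hL (h.fac_of_le hBL) (hBL hb) hα)
    (le_normalizer hβ.2)

theorem centralizer_le_normalizer' (h : Cfg A B) {s : G} (hsB : s ∈ B)
    (hsA : s ∈ normalizer (A : Set G)) (hs : s ≠ 1) :
    centralizer ({s} : Set G) ≤ normalizer (B : Set G) := by
  obtain ⟨q, hq, hqB, -⟩ := h.symm.exists_prime_ne 0
  haveI : Fact q.Prime := ⟨hq⟩
  obtain ⟨b, hb, hbo, hbc⟩ := exists_central h.hB hqB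
  have hfac : Fac A B (centralizer ({s} : Set G)) := by
    intro g hg
    obtain ⟨α, hα, β, hβ, rfl⟩ := h.hAB g
    have hg' := mem_centralizer_singleton_iff.mp hg
    have e : β * s * β⁻¹ = α⁻¹ * s * α := by
      have : α * β * s = s * (α * β) := hg'
      calc β * s * β⁻¹ = α⁻¹ * (α * β * s) * β⁻¹ := by group
        _ = α⁻¹ * (s * (α * β)) * β⁻¹ := by rw [this]
        _ = α⁻¹ * s * α := by group
    have h1 : α⁻¹ * s * α * s⁻¹ ∈ B := e ▸ mul_mem (mul_mem (mul_mem hβ hsB) (inv_mem hβ)) (inv_mem hsB)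
    have h2 : α⁻¹ * (s * α * s⁻¹) ∈ A :=
      mul_mem (inv_mem hα) ((mem_normalizer_iff.mp hsA α).mp hα)
    have h3 : α⁻¹ * s * α * s⁻¹ = 1 :=
      eq_one_of_mem_of_mem h.hcop (by simpa [mul_assoc] using h2) h1
    have hαs : α * s = s * α := by
      calc α * s = α * (α⁻¹ * s * α * s⁻¹) * s := by rw [h3, mul_one]
        _ = s * α := by group
    have hαc : α ∈ centralizer ({s} : Set G) := mem_centralizer_singleton_iff.mpr hαs
    refine ⟨α, ⟨hαc, hα⟩, β, ⟨?_, hβ⟩, rfl⟩
    simpa using mul_mem (inv_mem hαc) hg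
  intro g hg
  obtain ⟨α, hα, β, hβ, rfl⟩ := hfac g hg
  exact mul_mem (h.inf_le_normalizer hb hbc (hbo ▸ hq) (h.centralizer_ne_top hs) hfac
    (mem_centralizer_singleton_iff.mpr (hbc s hsB)) hα) (le_normalizer hβ.2)

theorem mem_of_mem_normalizer (h : Cfg A B) {y : G} (hy : y ∈ normalizer (B : Set G))
    (hcop : (orderOf y).Coprime (Nat.card A)) : y ∈ B := by
  obtain ⟨α, hα, β, hβ, rfl⟩ := h.hAB y
  have hαN : α ∈ normalizer (B : Set G) := by
    simpa using mul_mem hy (inv_mem (le_normalizer hβ : β ∈ normalizer (B : Set G)))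
  have h2 := pow_coset_mem hαN (x := α * β) (by simpa using hβ) (orderOf (α * β))
  rw [pow_orderOf_eq_one, mul_one, inv_mem_iff] at h2
  have h3 : α ∈ B := mem_of_pow_mem h2 (hcop.coprime_dvd_right (orderOf_dvd_natCard A hα))
  exact mul_mem h3 hβ

theorem exists_conj_factor (h : Cfg A B) {x : G} (hx : x ∈ normalizer (B : Set G))
    (hpi : ∀ s : ℕ, s.Prime → s ∣ orderOf x → s ∣ Nat.card A) :
    ∃ β ∈ B, β⁻¹ * x * β ∈ A ⊓ normalizer (B : Set G) := by
  obtain ⟨β, hβ, hle⟩ := h.symm.le_conj (U := zpowers x) fun s hs hd =>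
    hpi s hs (by rwa [Nat.card_zpowers] at hd)
  refine ⟨β, hβ, mem_conj_iff.mp (hle (mem_zpowers x)), ?_⟩
  show β⁻¹ * x * β ∈ normalizer (B : Set G)
  exact mul_mem (mul_mem (inv_mem (le_normalizer hβ)) hx) (le_normalizer hβ)

/-- For odd order, the centralizer of a nontrivial element of `A` lies in `N(A)` or is a
group for the primes of `A`. -/
theorem centralizer_dichotomy (h : Cfg A B) (hodd : ¬ 2 ∣ Nat.card G) {t : G} (htA : t ∈ A)
    (ht : t ≠ 1) : centralizer ({t} : Set G) ≤ normalizer (A : Set G) ∨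
      ∀ s : ℕ, s.Prime → s ∣ Nat.card (centralizer ({t} : Set G)) → s ∣ Nat.card A := by
  refine or_iff_not_imp_right.mpr fun hne => ?_
  push Not at hne
  obtain ⟨r, hr, hrC, hrA⟩ := hne
  haveI : Fact r.Prime := ⟨hr⟩
  have hrB : r ∣ Nat.card B := by
    have h1 : r ∣ Nat.card A * Nat.card B :=
      h.card_eq ▸ hrC.trans (Subgroup.card_subgroup_dvd_card _)
    exact (hr.dvd_mul.mp h1).resolve_left hrA
  obtain ⟨w, hwC, hwo⟩ := exists_mem_prime hrC
  obtain ⟨α₀, hα₀, hle⟩ := h.le_conj (U := zpowers w) fun s hs hd => by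
    rw [Nat.card_zpowers, hwo] at hd
    rwa [(Nat.prime_dvd_prime_iff_eq hs hr).mp hd]
  set w₀ := α₀⁻¹ * w * α₀ with hw₀
  have hw₀B : w₀ ∈ B := mem_conj_iff.mp (hle (mem_zpowers w))
  have hw₀o : orderOf w₀ = r := by
    have := (MulAut.conj α₀⁻¹).orderOf_eq w
    rw [← hwo, ← this]
    simp [hw₀]
  have hw₀1 : w₀ ≠ 1 := fun e => by rw [e, orderOf_one] at hw₀o; exact hr.one_lt.ne hw₀o
  set t₀ := α₀⁻¹ * t * α₀ with ht₀
  have ht₀A : t₀ ∈ A := mul_mem (mul_mem (inv_mem hα₀) htA) hα₀
  have ht₀1 : t₀ ≠ 1 := fun e => ht (by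
    have : t = α₀ * t₀ * α₀⁻¹ := by rw [ht₀]; group
    rw [this, e]; group)
  have hcomm : t₀ * w₀ = w₀ * t₀ := by
    have e := mem_centralizer_singleton_iff.mp hwC
    calc t₀ * w₀ = α₀⁻¹ * (t * w) * α₀ := by rw [ht₀, hw₀]; group
      _ = α₀⁻¹ * (w * t) * α₀ := by rw [e]
      _ = w₀ * t₀ := by rw [ht₀, hw₀]; group
  -- a nontrivial element of `A ∩ N(B)` commuting with a conjugate of `w₀` under `B`
  have hx : ∃ x ∈ A ⊓ normalizer (B : Set G), x ≠ 1 ∧ ∃ β ∈ B,
      x * (β⁻¹ * w₀ * β) = β⁻¹ * w₀ * β * x := by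
    by_contra hno
    obtain ⟨q, hq, hqB, hqr⟩ := h.symm.exists_prime_ne r
    haveI : Fact q.Prime := ⟨hq⟩
    have hq2 : q ≠ 2 := fun e => hodd (e ▸ hqB.trans (Subgroup.card_subgroup_dvd_card B))
    set Q := part q B with hQ
    set D := centralizer ({w₀} : Set G) with hD
    have hQD : Q ≤ D := fun y hy => by
      rw [hD, mem_centralizer_singleton_iff]
      exact part_commute hqr h.hB hy (mem_part (k := 1) hw₀B (by rw [hw₀o, pow_one]))
    have hvq : (Nat.card G).factorization q = (Nat.card B).factorization q := by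
      have hnd : ¬ q ∣ Nat.card A := fun hd =>
        hq.ne_one (Nat.eq_one_of_dvd_coprimes h.hcop hd hqB)
      rw [h.card_eq, Nat.factorization_mul Nat.card_pos.ne' Nat.card_pos.ne', Finsupp.add_apply,
        Nat.factorization_eq_zero_of_not_dvd hnd, zero_add]
    let T : Sylow q D := Sylow.ofCard (Q.subgroupOf D) (by
      rw [Nat.card_congr (subgroupOfEquivOfLe hQD).toEquiv, (part_spec h.hB).2]
      congr 1
      refine le_antisymm ?_ (hvq ▸ (Nat.factorization_le_iff_dvd Nat.card_pos.ne'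
        Nat.card_pos.ne').mpr (Subgroup.card_subgroup_dvd_card D) q)
      have h1 := Subgroup.card_dvd_of_le hQD
      rw [(part_spec h.hB).2] at h1
      exact (hq.pow_dvd_iff_le_factorization Nat.card_pos.ne').mp h1)
    have hT : (T : Subgroup D).map D.subtype = Q := by
      simp only [T, Sylow.coe_ofCard, map_subgroupOf_eq_of_le hQD]
    set X := normalizer (Thompson.zjay q (T : Subgroup D) : Set D) with hX
    have hZ : Thompson.zjay q Q ≠ ⊥ :=
      Thompson.zjay_ne_bot (part_spec h.hB).1 (part_ne_bot hqB) (Or.inr rfl)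
    have hZtop : Thompson.zjay q Q ≠ ⊤ := fun e =>
      h.symm.ne_top (top_le_iff.mp (e ▸ Thompson.zjay_le.trans part_le))
    have hBN : B ≤ normalizer (Thompson.zjay q Q : Set G) :=
      ((le_normalizer_part q B).trans (Thompson.normalizer_le_normalizer_jay q Q)).trans
        (Thompson.normalizer_jay_le_normalizer_zjay q Q)
    have hXB : X.map D.subtype ≤ B := by
      rintro _ ⟨y, hy, rfl⟩
      have hyN : (y : G) ∈ normalizer (B : Set G) := by
        refine h.le_normalizer_of_ne_top (h.normalizer_ne_top hZ hZtop) hBN ?_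
        have h1 := Subgroup.le_normalizer_map D.subtype (mem_map_of_mem _ hy)
        rwa [← Thompson.zjay_map _ D.subtype_injective, hT] at h1
      refine h.mem_of_mem_normalizer hyN (Nat.coprime_of_dvd fun s hs hsy hsA => ?_)
      set x₀ := (y : G) ^ (orderOf (y : G) / s) with hx₀
      have hx₀o : orderOf x₀ = s :=
        orderOf_pow_orderOf_div (orderOf_pos (y : G)).ne' hsy
      obtain ⟨β, hβ, hβx⟩ := h.exists_conj_factor (x := x₀) (pow_mem hyN _) fun t' ht' hd => by
        rw [hx₀o] at hd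
        rwa [(Nat.prime_dvd_prime_iff_eq ht' hs).mp hd]
      refine hno ⟨_, hβx, fun e => ?_, β, hβ, ?_⟩
      · have : x₀ = β * (β⁻¹ * x₀ * β) * β⁻¹ := by group
        rw [e, mul_one, mul_inv_cancel] at this
        rw [this, orderOf_one] at hx₀o
        exact hs.one_lt.ne hx₀o
      · have hc : x₀ * w₀ = w₀ * x₀ :=
          mem_centralizer_singleton_iff.mp (pow_mem y.2 _)
        calc β⁻¹ * x₀ * β * (β⁻¹ * w₀ * β) = β⁻¹ * (x₀ * w₀) * β := by group
          _ = β⁻¹ * (w₀ * x₀) * β := by rw [hc]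
          _ = β⁻¹ * w₀ * β * (β⁻¹ * x₀ * β) := by group
    haveI : Group.IsNilpotent X :=
      Group.nilpotent_of_mulEquiv (_h := Hall.isNilpotent_of_le hXB h.hB)
        (X.equivMapOfInjective D.subtype D.subtype_injective).symm
    obtain ⟨P, N, hN, hNP⟩ := (Thompson.hasNormalPComplement_iff_zjay hq2 (Or.inr rfl) T).mpr
      (Fusion.hasNormalPComplement_of_isNilpotent : HasNormalPComplement q X)
    haveI := hN
    have hNq : ¬ q ∣ Nat.card N := Fusion.not_dvd_card_of_isComplement' P hNP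
    set M := N.map D.subtype with hM
    have htD : t₀ ∈ D := mem_centralizer_singleton_iff.mpr hcomm
    obtain ⟨p, hp, hpt⟩ := Nat.exists_prime_and_dvd (n := orderOf t₀) (by
      rwa [Ne, orderOf_eq_one_iff])
    haveI : Fact p.Prime := ⟨hp⟩
    have hpA : p ∣ Nat.card A := hpt.trans (orderOf_dvd_natCard A ht₀A)
    have htM : t₀ ∈ M := by
      refine ⟨⟨t₀, htD⟩, ?_, rfl⟩
      have hP := Fusion.isPGroup_quotient_of_isComplement' P hNP
      have h1 : orderOf (QuotientGroup.mk' N ⟨t₀, htD⟩) ∣ orderOf t₀ := by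
        have := orderOf_map_dvd (QuotientGroup.mk' N) ⟨t₀, htD⟩
        rwa [← Subgroup.orderOf_coe ⟨t₀, htD⟩] at this
      obtain ⟨k, hk⟩ := IsPGroup.iff_orderOf.mp hP (QuotientGroup.mk' N ⟨t₀, htD⟩)
      have h2 : orderOf (QuotientGroup.mk' N ⟨t₀, htD⟩) = 1 := by
        refine Nat.eq_one_of_dvd_coprimes ?_ h1 (dvd_of_eq hk)
        refine Nat.Coprime.pow_right k ?_
        exact Nat.Coprime.coprime_dvd_right hqB (h.hcop.coprime_dvd_left (orderOf_dvd_natCard A ht₀A))
      rw [orderOf_eq_one_iff] at h2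
      exact (QuotientGroup.eq_one_iff _).mp h2
    obtain ⟨b, hb, hbo, hbc⟩ := exists_central h.hB hqB
    have hbD : b ∈ D := mem_centralizer_singleton_iff.mpr (hbc w₀ hw₀B)
    have hbM : zpowers b ≤ normalizer (M : Set G) := by
      rw [zpowers_le]
      have h1 := Subgroup.le_normalizer_map (H := N) D.subtype
      rw [normalizer_eq_top, ← MonoidHom.range_eq_map, range_subtype] at h1
      exact h1 hbD
    have hcopM : (Nat.card (zpowers b)).Coprime (Nat.card M) := by
      rw [Nat.card_zpowers, hbo, Subgroup.card_map_of_injective D.subtype_injective]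
      exact (Nat.Prime.coprime_iff_not_dvd hq).mpr hNq
    haveI : IsCyclic (zpowers b) := isCyclic_zpowers b
    have hbs : Group.IsSolvable (zpowers b) :=
      Group.isSolvable_of_comm fun x y => (IsCyclic.commGroup (α := zpowers b)).mul_comm x y
    obtain ⟨S, hS⟩ := Coprime.exists_invariant_sylow hbM hcopM (Or.inl hbs) p
    refine h.symm.not_normalizes' hb hbc (hbo ▸ hq) (U := (S : Subgroup M).map M.subtype) ?_ ?_
      (hS (mem_zpowers b))
    · intro s hs hd
      rw [Subgroup.card_map_of_injective M.subtype_injective] at hd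
      obtain ⟨n, hn⟩ := IsPGroup.iff_card.mp S.2
      rw [hn] at hd
      rwa [(Nat.prime_dvd_prime_iff_eq hs hp).mp (hs.dvd_of_dvd_pow hd)]
    · intro e
      have hpM : p ∣ Nat.card M := hpt.trans (orderOf_dvd_natCard M htM)
      exact S.ne_bot_of_dvd_card hpM
        ((Subgroup.map_eq_bot_iff_of_injective _ M.subtype_injective).mp e)
  obtain ⟨x, hxA1, hx1, β, hβ, hxw⟩ := hx
  set w' := β⁻¹ * w₀ * β with hw'
  have hw'B : w' ∈ B := mul_mem (mul_mem (inv_mem hβ) hw₀B) hβ
  have hw'1 : w' ≠ 1 := fun e => hw₀1 (by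
    have : w₀ = β * w' * β⁻¹ := by rw [hw']; group
    rw [this, e]; group)
  have hw'A : w' ∈ normalizer (A : Set G) :=
    h.symm.centralizer_le_normalizer' hxA1.1 hxA1.2 hx1
      (mem_centralizer_singleton_iff.mpr hxw.symm)
  set t' := β⁻¹ * t₀ * β with ht'
  have ht'N : t' ∈ normalizer (B : Set G) := by
    refine h.centralizer_le_normalizer' hw'B hw'A hw'1 (mem_centralizer_singleton_iff.mpr ?_)
    calc t' * w' = β⁻¹ * (t₀ * w₀) * β := by rw [ht', hw']; group
      _ = β⁻¹ * (w₀ * t₀) * β := by rw [hcomm]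
      _ = w' * t' := by rw [ht', hw']; group
  obtain ⟨β', hβ', hx'⟩ := h.exists_conj_factor ht'N fun s _ hd => by
    refine hd.trans ?_
    have : orderOf t' = orderOf t₀ := by
      have := (MulAut.conj β⁻¹).orderOf_eq t₀
      rw [← this]; simp [ht']
    rw [this]
    exact orderOf_dvd_natCard A ht₀A
  set x' := β'⁻¹ * t' * β' with hx'def
  -- `t₀ = k x' k⁻¹` with `k ∈ B`
  set k := β * β' with hk
  have hkB : k ∈ B := mul_mem hβ hβ'
  have htk : t₀ = k * x' * k⁻¹ := by rw [hk, hx'def, ht']; group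
  have hx'1 : x' ≠ 1 := fun e => ht₀1 (by rw [htk, e]; group)
  have hkc : k * x' = x' * k := by
    have h1 : x'⁻¹ * k * x' * k⁻¹ ∈ B :=
      mul_mem (by simpa using (mem_normalizer_iff.mp (inv_mem hx'.2) k).mp hkB) (inv_mem hkB)
    have h2 : x'⁻¹ * (k * x' * k⁻¹) ∈ A := mul_mem (inv_mem hx'.1) (htk ▸ ht₀A)
    have h3 : x'⁻¹ * k * x' * k⁻¹ = 1 :=
      eq_one_of_mem_of_mem h.hcop (by simpa [mul_assoc] using h2) h1
    calc k * x' = x' * (x'⁻¹ * k * x' * k⁻¹) * k := by group
      _ = x' * k := by rw [h3, mul_one]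
  have ht₀x : t₀ = x' := by rw [htk, hkc]; group
  have hC := h.symm.centralizer_le_normalizer' hx'.1 hx'.2 hx'1
  intro z hz
  have hz' : α₀⁻¹ * z * α₀ ∈ centralizer ({x'} : Set G) := by
    rw [mem_centralizer_singleton_iff, ← ht₀x]
    have e := mem_centralizer_singleton_iff.mp hz
    calc α₀⁻¹ * z * α₀ * t₀ = α₀⁻¹ * (z * t) * α₀ := by rw [ht₀]; group
      _ = α₀⁻¹ * (t * z) * α₀ := by rw [e]
      _ = t₀ * (α₀⁻¹ * z * α₀) := by rw [ht₀]; group
  have hαN : α₀ ∈ normalizer (A : Set G) := le_normalizer hα₀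
  have := mul_mem (mul_mem hαN (hC hz')) (inv_mem hαN)
  simpa [mul_assoc] using this

theorem false_of_odd (h : Cfg A B) (hodd : ¬ 2 ∣ Nat.card G) (hcard : Nat.card B ≤ Nat.card A) :
    False := by
  obtain ⟨p, hp, hpA, -⟩ := h.exists_prime_ne 0
  haveI : Fact p.Prime := ⟨hp⟩
  obtain ⟨a, ha, hao, hac⟩ := exists_central h.hA hpA
  have hBN : B ≤ normalizer (A : Set G) := by
    intro β hβ
    set A' := A.map (MulAut.conj β).toMonoidHom with hA'
    have hne : A ⊓ A' ≠ ⊥ := by
      intro e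
      have h1 := card_mul_card_le A A'
      rw [e, Subgroup.card_bot, mul_one,
        Subgroup.card_map_of_injective (MulAut.conj β).injective] at h1
      have h2 := h1.trans (Nat.le_of_dvd Nat.card_pos (Subgroup.card_subgroup_dvd_card _))
      rw [h.card_eq] at h2
      have h3 : Nat.card A ≤ Nat.card B := Nat.le_of_mul_le_mul_left h2 Nat.card_pos
      have h4 := h.hcop
      rw [le_antisymm hcard h3] at h4
      rw [(Nat.coprime_self _).mp h4, Nat.dvd_one] at hpA
      exact hp.one_lt.ne' hpA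
    obtain ⟨⟨t, htA, htA'⟩, ht1⟩ : ∃ t : ↥(A ⊓ A'), t ≠ 1 :=
      @exists_ne _ ((A ⊓ A').nontrivial_iff_ne_bot.mpr hne) 1
    have ht : t ≠ 1 := fun e => ht1 (Subtype.ext e)
    have haC : a ∈ centralizer ({t} : Set G) := mem_centralizer_singleton_iff.mpr (hac t htA)
    have haC' : β * a * β⁻¹ ∈ centralizer ({t} : Set G) := by
      obtain ⟨y, hy, rfl⟩ := htA'
      rw [mem_centralizer_singleton_iff]
      show β * a * β⁻¹ * (β * y * β⁻¹) = β * y * β⁻¹ * (β * a * β⁻¹)
      calc β * a * β⁻¹ * (β * y * β⁻¹) = β * (a * y) * β⁻¹ := by group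
        _ = β * (y * a) * β⁻¹ := by rw [hac y hy]
        _ = β * y * β⁻¹ * (β * a * β⁻¹) := by group
    have hmem : β * a * β⁻¹ ∈ A := by
      rcases h.centralizer_dichotomy hodd htA ht with hC | hC
      · refine h.symm.mem_of_mem_normalizer (hC haC') ?_
        rw [show orderOf (β * a * β⁻¹) = orderOf a from (MulAut.conj β).orderOf_eq a]
        exact h.hcop.coprime_dvd_left (orderOf_dvd_natCard A ha)
      · obtain ⟨γ, hγ, hle⟩ := h.symm.le_conj hC
        have hγN := h.mem_normalizer_of_conj_mem ha hac (hao ▸ hp) (mem_conj_iff.mp (hle haC))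
        have h1 := hle haC'
        rwa [show MulAut.conj γ • A = A from Thompson.map_conj_of_mem_normalizer hγN] at h1
    have := h.mem_normalizer_of_conj_mem ha hac (hao ▸ hp) (g := β⁻¹) (by simpa using hmem)
    simpa using inv_mem this
  refine h.normalizer_ne_top h.ne_bot h.ne_top (eq_top_iff.mpr fun g _ => ?_)
  obtain ⟨α, hα, β, hβ, rfl⟩ := h.hAB g
  exact mul_mem (le_normalizer hα) (hBN hβ)

theorem false_of_even (h : Cfg A B) (h2 : 2 ∣ Nat.card A) : False := by
  haveI : Fact (Nat.Prime 2) := ⟨Nat.prime_two⟩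
  obtain ⟨i, hi, hio, hic⟩ := exists_central h.hA h2
  have hip : (orderOf i).Prime := hio ▸ Nat.prime_two
  have hi1 : i ≠ 1 := ne_one_of_prime hip
  have hex : ∃ g : G, ¬ IsPGroup 2 (closure ({i, g * i * g⁻¹} : Set G)) := by
    by_contra hcon
    push Not at hcon
    obtain ⟨N, hN, hN2, hiN⟩ := Thompson.baer_suzuki hcon
    rcases h.hsimple N hN with rfl | rfl
    · exact hi1 (mem_bot.mp hiN)
    · haveI : Group.IsNilpotent G :=
        (hN2.of_equiv Subgroup.topEquiv).isNilpotent
      exact h.hns inferInstance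
  obtain ⟨g, hg⟩ := hex
  set j := g * i * g⁻¹ with hj
  set y := i * j with hy
  have hii : i * i = 1 := by rw [← pow_two, ← hio, pow_orderOf_eq_one]
  have hjj : j * j = 1 := by
    calc j * j = g * (i * i) * g⁻¹ := by rw [hj]; group
      _ = 1 := by rw [hii]; group
  have hinv : i * y * i⁻¹ = y⁻¹ := by
    rw [hy, inv_eq_of_mul_eq_one_right hii, mul_inv_rev, inv_eq_of_mul_eq_one_right hii,
      inv_eq_of_mul_eq_one_right hjj, ← mul_assoc, hii, one_mul]
  have hpow : ∀ n : ℤ, i * y ^ n * i⁻¹ = (y ^ n)⁻¹ := fun n => by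
    rw [← conj_zpow, hinv, inv_zpow]
  have hiY : i ∈ normalizer (zpowers y : Set G) := by
    refine Thompson.mem_normalizer_of_map_conj ?_
    rw [MonoidHom.map_zpowers]
    simp [hinv, zpowers_inv]
  have hD : closure ({i, j} : Set G) ≤ zpowers y ⊔ zpowers i := by
    rw [closure_le]
    intro z hz
    rcases hz with h1 | h1 <;> subst h1
    · exact mem_sup_right (mem_zpowers _)
    · have : j = i * (i * j) := by rw [← mul_assoc, hii, one_mul]
      rw [SetLike.mem_coe, this]
      exact mul_mem (mem_sup_right (mem_zpowers i)) (mem_sup_left (mem_zpowers y))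
  have hiN : zpowers i ≤ normalizer (zpowers y : Set G) := zpowers_le.mpr hiY
  have hy2 : ∃ s, s.Prime ∧ s ≠ 2 ∧ s ∣ orderOf y := by
    by_contra hcon
    push Not at hcon
    have hyp : IsPGroup 2 (zpowers y) := IsPGroup.of_card (by
      rw [Nat.card_zpowers]
      exact Nat.eq_prime_pow_of_unique_prime_dvd (orderOf_pos y).ne' fun {d} hd hdy =>
        by_contra fun hne => hcon d hd hne hdy)
    have hip2 : IsPGroup 2 (zpowers i) := IsPGroup.of_card (n := 1) (by
      rw [Nat.card_zpowers, hio, pow_one])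
    exact hg ((hyp.to_sup_of_normal_left' hip2 hiN).to_le hD)
  obtain ⟨s, hs, hs2, hsy⟩ := hy2
  set z := y ^ (orderOf y / s) with hz
  have hzo : orderOf z = s := orderOf_pow_orderOf_div (orderOf_pos y).ne' hsy
  have hzinv : i * z * i⁻¹ = z⁻¹ := by rw [hz, ← zpow_natCast]; exact hpow _
  by_cases hall : ∀ t : ℕ, t.Prime → t ∣ Nat.card (zpowers y ⊔ zpowers i : Subgroup G) →
      t ∣ Nat.card A
  · obtain ⟨β, hβ, hle⟩ := h.symm.le_conj hall
    have hnil := Hall.isNilpotent_conj_smul β h.hA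
    have hc := comm_of_coprime hnil (hle (mem_sup_right (mem_zpowers i)))
      (hle (mem_sup_left (pow_mem (mem_zpowers y) (orderOf y / s))))
      (by rw [hio, hzo]; exact (Nat.coprime_primes Nat.prime_two hs).mpr (Ne.symm hs2))
    rw [← hz] at hc
    have : z ^ 2 = 1 := by
      have e : z = z⁻¹ := by
        rw [← hzinv, hc, mul_inv_cancel_right]
      rw [pow_two]
      nth_rewrite 1 [e]
      rw [inv_mul_cancel]
    have hd : s ∣ 2 := hzo ▸ orderOf_dvd_of_pow_eq_one this
    exact hs2 ((Nat.prime_dvd_prime_iff_eq hs Nat.prime_two).mp hd)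
  · push Not at hall
    obtain ⟨t, ht, htd, htA⟩ := hall
    haveI : Fact t.Prime := ⟨ht⟩
    have ht2 : t ≠ 2 := fun e => htA (e ▸ h2)
    obtain ⟨u, hu, huo⟩ := exists_mem_prime htd
    have huy : u ∈ zpowers y := by
      have hu' : u ∈ (zpowers y : Set G) * (zpowers i : Set G) := by
        rw [← Subgroup.coe_mul_of_right_le_normalizer_left _ _ hiN]; exact hu
      obtain ⟨v, hv, w, hw, rfl⟩ := hu'
      obtain ⟨m, rfl⟩ := mem_zpowers_iff.mp hv
      obtain ⟨k, rfl⟩ := mem_zpowers_iff.mp hw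
      rcases Int.even_or_odd k with ⟨l, rfl⟩ | ⟨l, rfl⟩
      · have : i ^ (l + l) = 1 := by rw [zpow_add, ← (Commute.refl i).mul_zpow, hii, one_zpow]
        show y ^ m * i ^ (l + l) ∈ zpowers y
        rw [this, mul_one]; exact zpow_mem (mem_zpowers y) m
      · exfalso
        have e : i ^ (2 * l + 1) = i := by
          rw [zpow_add, zpow_mul, zpow_ofNat, pow_two, hii, one_zpow, one_mul, zpow_one]
        have h5 : (y ^ m * i) ^ 2 = 1 := by
          have := hpow m
          rw [inv_eq_of_mul_eq_one_right hii] at this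
          calc (y ^ m * i) ^ 2 = y ^ m * (i * y ^ m * i) := by rw [pow_two]; group
            _ = 1 := by rw [this, mul_inv_cancel]
        have h6 : orderOf (y ^ m * i) = t := by rw [← huo]; simp only [e]
        exact ht2 ((Nat.prime_dvd_prime_iff_eq ht Nat.prime_two).mp
          (h6 ▸ orderOf_dvd_of_pow_eq_one h5))
    have htB : t ∣ Nat.card B := by
      have h1 : t ∣ Nat.card A * Nat.card B :=
        h.card_eq ▸ huo ▸ orderOf_dvd_natCard u
      exact (ht.dvd_mul.mp h1).resolve_left htA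
    refine h.not_normalizes' hi hic hip (U := zpowers u) (fun s hs hd => ?_) ?_ ?_
    · rw [Nat.card_zpowers, huo] at hd
      rwa [(Nat.prime_dvd_prime_iff_eq hs ht).mp hd]
    · rw [Ne, zpowers_eq_bot]
      exact fun e => by rw [e, orderOf_one] at huo; exact ht.one_lt.ne huo
    · obtain ⟨m, rfl⟩ := mem_zpowers_iff.mp huy
      refine Thompson.mem_normalizer_of_map_conj ?_
      rw [MonoidHom.map_zpowers]
      simp [hpow]

theorem false (h : Cfg A B) : False := by
  by_cases h2 : 2 ∣ Nat.card G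
  · rw [h.card_eq, Nat.prime_two.dvd_mul] at h2
    exact h2.elim h.false_of_even h.symm.false_of_even
  · rcases le_total (Nat.card B) (Nat.card A) with hle | hle
    · exact h.false_of_odd h2 hle
    · exact h.symm.false_of_odd h2 hle

end Cfg

theorem isSolvable_aux (n : ℕ) : ∀ (G : Type u) [Group G] [Finite G], Nat.card G ≤ n →
    ∀ A B : Subgroup G, Group.IsNilpotent A → Group.IsNilpotent B →
      (Nat.card A).Coprime (Nat.card B) → (∀ g : G, ∃ a ∈ A, ∃ b ∈ B, g = a * b) →
      Group.IsSolvable G := by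
  induction n with
  | zero => intro G _ _ hn; exact absurd hn (by have := Nat.card_pos (α := G); omega)
  | succ n ih =>
    intro G _ _ hn A B hA hB hcop hAB
    by_contra hns
    have hsub : ∀ L : Subgroup G, L ≠ ⊤ → Fac A B L → Group.IsSolvable L := by
      intro L hL hfac
      refine ih L ?_ (A.subgroupOf L) (B.subgroupOf L) ?_ ?_ ?_ ?_
      · have h1 : Nat.card L < Nat.card G :=
          lt_of_le_of_ne (Subgroup.card_le_card_group L) (by rwa [Ne, Subgroup.card_eq_iff_eq_top])
        omega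
      · rw [← inf_subgroupOf_right]
        exact Group.nilpotent_of_mulEquiv (_h := Hall.isNilpotent_of_le inf_le_left hA)
          (subgroupOfEquivOfLe inf_le_right).symm
      · rw [← inf_subgroupOf_right]
        exact Group.nilpotent_of_mulEquiv (_h := Hall.isNilpotent_of_le inf_le_left hB)
          (subgroupOfEquivOfLe inf_le_right).symm
      · rw [← inf_subgroupOf_right, Nat.card_congr (subgroupOfEquivOfLe inf_le_right).toEquiv,
          ← inf_subgroupOf_right B, Nat.card_congr (subgroupOfEquivOfLe inf_le_right).toEquiv]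
        exact (hcop.coprime_dvd_left (Subgroup.card_dvd_of_le inf_le_left)).coprime_dvd_right
          (Subgroup.card_dvd_of_le inf_le_left)
      · intro g
        obtain ⟨a, ha, b, hb, e⟩ := hfac g g.2
        exact ⟨⟨a, ha.1⟩, ha.2, ⟨b, hb.1⟩, hb.2, Subtype.ext e⟩
    refine Cfg.false (A := A) (B := B) ⟨hA, hB, hcop, hAB, fun N hN => ?_, hsub, hns⟩
    by_contra hcon
    push Not at hcon
    obtain ⟨hN1, hN2⟩ := hcon
    haveI := hN
    haveI hNs : Group.IsSolvable N := hsub N hN2 (fac_of_normal hcop hAB N)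
    haveI hQ : Group.IsSolvable (G ⧸ N) := by
      refine ih (G ⧸ N) ?_ (A.map (QuotientGroup.mk' N)) (B.map (QuotientGroup.mk' N)) ?_ ?_ ?_ ?_
      · have h1 : 1 < Nat.card N := N.one_lt_card_iff_ne_bot.mpr hN1
        have h2 := N.card_eq_card_quotient_mul_card_subgroup
        have h3 : 0 < Nat.card (G ⧸ N) := Nat.card_pos
        have : Nat.card (G ⧸ N) < Nat.card G := by
          rw [h2]; exact lt_mul_of_one_lt_right h3 h1
        omega
      · exact Components.isNilpotent_map _ A hA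
      · exact Components.isNilpotent_map _ B hB
      · exact (hcop.coprime_dvd_left (Subgroup.card_map_dvd A _)).coprime_dvd_right
          (Subgroup.card_map_dvd B _)
      · intro g
        obtain ⟨g, rfl⟩ := QuotientGroup.mk'_surjective N g
        obtain ⟨a, ha, b, hb, rfl⟩ := hAB g
        exact ⟨_, mem_map_of_mem _ ha, _, mem_map_of_mem _ hb, map_mul _ _ _⟩
    exact hns (Group.isSolvable_of_ker_le_range N.subtype (QuotientGroup.mk' N)
      (by rw [QuotientGroup.ker_mk', range_subtype]))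

theorem isSolvable {G : Type u} [Group G] [Finite G] {A B : Subgroup G}
    (hA : Group.IsNilpotent A) (hB : Group.IsNilpotent B)
    (hcop : (Nat.card A).Coprime (Nat.card B)) (hAB : ∀ g : G, ∃ a ∈ A, ∃ b ∈ B, g = a * b) :
    Group.IsSolvable G :=
  isSolvable_aux (Nat.card G) G le_rfl A B hA hB hcop hAB

end Cfsg.Agent.H31.NilProd
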